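import Cfsg.Agent.AutOrth.SemiSim
import Cfsg.Agent.LieClassical.OrthTrans
import Cfsg.Agent.H578.RC.Lin_m3
import Cfsg.Agent.H578.RC.One_m3
import Cfsg.Agent.H93.RC.BoxB3_m3
import Cfsg.Agent.H520.RC.MHom
import Cfsg.Agent.H749.BlockOrth_m3
import Cfsg.Agent.H140.OreO.Cls
import Cfsg.Agent.H916.RG.Pair_m3
import Cfsg.Agent.H233.RC.RedA
import Cfsg.Agent.ClassicalGeometry.TwoFamilies
import Cfsg.Agent.ClassicalGeometry.AutPSL.Main
import Mathlib
import Cfsg.Agent.H31.RC.Spor.Gen
import Cfsg.Agent.Characters.Core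
import Cfsg.Agent.Characters.Linear
import Cfsg.Agent.OddOrderCharacters.IndRes
import Cfsg.Agent.OddOrderCharacters.VChar
import Mathlib.GroupTheory.FiniteAbelian.Duality
import Cfsg.Agent.S2298
import Cfsg.Agent.FastGrp
import Cfsg.Agent.Prune
set_option linter.all false

section
prune_inst 0x7ff2adfc8ba881dfdfff7e3fa6d8cff9f284afffa6dff943ffe061af83df4b12c1c52b850bea10fe0e62601400f87b03f97eeeffe06bd87ffffd17b41ffbffcfedf7b508119688340e2c0ff703f0770e6f3fffffffffffffffffffffffffffbeffbfebfeffff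

-- part: H406/RC/BoxE6
section
prune_inst 0xd420334567c00200001c0010620040d7b10005020048800028a505820008c2e2ad02a8410aa0051958228d400005004811000030024000000484000000010100000016068148a019020088000008010000000000000000000000000000000000014010000
set_option linter.all false
open scoped Cfsg.Agent.FastGrp

-- part: H393/RC/UULin
section
/-!
# S3510, row F, box E8: linear algebra in a hyperbolic 4-space (helper393)

`Fr Q w v f g` : `⟨w, v⟩`, `⟨f, g⟩` totally singular planes in duality.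

* `Fr.braid`, `Fr.mm` : `a = siegel w v`, `c = siegel f g`: `a c a = c a c`, `(a c a)² = -1` on `⟨w, v, f, g⟩`;
* `Fr.comm_opp` : an isometry `T` with `T ^ r = 1`, `r ≠ 0` in `F`, preserving the 4-space and commuting with `a`, commutes
  with `c`.
-/

set_option autoImplicit false
set_option linter.unusedSimpArgs false
open Cfsg

namespace Cfsg.Agent.H393.UU

open QuadraticMap
open Cfsg.Agent.LieClassical.OrthCore Cfsg.Agent.LieClassical.OrthTrans

variable {F V : Type*} [Field F] [AddCommGroup V] [Module F V] {Q : QuadraticForm F V}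

/-- two totally singular planes in duality -/
structure Fr (Q : QuadraticForm F V) (w v f g : V) : Prop where
  qw : Q w = 0
  qv : Q v = 0
  qf : Q f = 0
  qg : Q g = 0
  wf : polar Q w f = 1
  vg : polar Q v g = 1
  wv : polar Q w v = 0
  wg : polar Q w g = 0
  vf : polar Q v f = 0
  fg : polar Q f g = 0

namespace Fr

variable {w v f g : V}

theorem fw (h : Fr Q w v f g) : polar Q f w = 1 := by rw [polar_comm]; exact h.wf
theorem gv (h : Fr Q w v f g) : polar Q g v = 1 := by rw [polar_comm]; exact h.vg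
theorem vw (h : Fr Q w v f g) : polar Q v w = 0 := by rw [polar_comm]; exact h.wv
theorem gw (h : Fr Q w v f g) : polar Q g w = 0 := by rw [polar_comm]; exact h.wg
theorem fv (h : Fr Q w v f g) : polar Q f v = 0 := by rw [polar_comm]; exact h.vf
theorem gf (h : Fr Q w v f g) : polar Q g f = 0 := by rw [polar_comm]; exact h.fg
theorem ww (h : Fr Q w v f g) : polar Q w w = 0 := polar_self_of_sing h.qw
theorem vv (h : Fr Q w v f g) : polar Q v v = 0 := polar_self_of_sing h.qv
theorem ff (h : Fr Q w v f g) : polar Q f f = 0 := polar_self_of_sing h.qf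
theorem gg (h : Fr Q w v f g) : polar Q g g = 0 := polar_self_of_sing h.qg

theorem symm (h : Fr Q w v f g) : Fr Q f g w v :=
  ⟨h.qf, h.qg, h.qw, h.qv, h.fw, h.gv, h.fg, h.fv, h.gw, h.wv⟩

/-- `a = siegel w v` -/
noncomputable def a (h : Fr Q w v f g) : V ≃ₗ[F] V := siegel Q w v h.qw h.wv

theorem a_apply (h : Fr Q w v f g) (x : V) : h.a x = x + polar Q w x • v - polar Q v x • w := by
  rw [a, siegel_apply, h.qv, zero_mul, zero_smul, sub_zero]

theorem a_mem (h : Fr Q w v f g) : h.a ∈ O Q := siegel_mem_O h.qw h.wv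

theorem c_apply (h : Fr Q w v f g) (x : V) : h.symm.a x = x + polar Q f x • g - polar Q g x • f := h.symm.a_apply x

/-- the braid relation -/
theorem braid (h : Fr Q w v f g) (x : V) : h.a (h.symm.a (h.a x)) = h.symm.a (h.a (h.symm.a x)) := by
  simp only [h.a_apply, h.c_apply, polar_add_right, polar_sub_right, polar_smul_right, h.wf, h.vg, h.wv, h.wg, h.vf, h.fg,
    h.fw, h.gv, h.vw, h.gw, h.fv, h.gf, h.ww, h.vv, h.ff, h.gg, smul_eq_mul]
  module

/-- `m x` -/
theorem m_apply (h : Fr Q w v f g) (x : V) : h.a (h.symm.a (h.a x)) =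
    x - (polar Q f x • w + polar Q g x • v + polar Q w x • f + polar Q v x • g) +
      (polar Q w x • v - polar Q v x • w + polar Q f x • g - polar Q g x • f) := by
  simp only [h.a_apply, h.c_apply, polar_add_right, polar_sub_right, polar_smul_right, h.wf, h.vg, h.wv, h.wg, h.vf, h.fg,
    h.fw, h.gv, h.vw, h.gw, h.fv, h.gf, h.ww, h.vv, h.ff, h.gg, smul_eq_mul]
  module

/-- `m² = -1` on the 4-space -/
theorem mm (h : Fr Q w v f g) (x : V) : h.a (h.symm.a (h.a (h.a (h.symm.a (h.a x))))) =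
    x - (2 : F) • (polar Q f x • w + polar Q g x • v + polar Q w x • f + polar Q v x • g) := by
  rw [h.m_apply (h.a (h.symm.a (h.a x))), h.m_apply x]
  simp only [polar_add_right, polar_sub_right, polar_smul_right, h.wf, h.vg, h.wv, h.wg, h.vf, h.fg,
    h.fw, h.gv, h.vw, h.gw, h.fv, h.gf, h.ww, h.vv, h.ff, h.gg, smul_eq_mul]
  module

/-- the coordinates -/
theorem exists_coord {x : V} (h : Fr Q w v f g) (hx : x ∈ Submodule.span F {w, v, f, g}) :
    x = polar Q f x • w + polar Q g x • v + polar Q w x • f + polar Q v x • g := by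
  have key : ∀ y ∈ Submodule.span F {w, v, f, g}, y = polar Q f y • w + polar Q g y • v + polar Q w y • f + polar Q v y • g := by
    intro y hy
    induction hy using Submodule.span_induction with
    | mem y hy =>
      simp only [Set.mem_insert_iff, Set.mem_singleton_iff] at hy
      rcases hy with rfl | rfl | rfl | rfl
      · rw [h.fw, h.gw, h.ww, h.vw]; simp
      · rw [h.fv, h.gv, h.wv, h.vv]; simp
      · rw [h.ff, h.gf, h.wf, h.vf]; simp
      · rw [h.fg, h.gg, h.wg, h.vg]; simp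
    | zero => simp
    | add y z _ _ hy hz =>
      simp only [polar_add_right]
      nth_rewrite 1 [hy, hz]
      module
    | smul c y _ hy =>
      simp only [polar_smul_right, smul_eq_mul]
      nth_rewrite 1 [hy]
      module
  exact key x hx

/-- **an isometry of `p'`-order commuting with the long root element of `⟨w, v⟩` commutes with the long root elements of
all opposite planes** -/
theorem comm_opp (h : Fr Q w v f g) {T : V ≃ₗ[F] V} (hT : T ∈ O Q) {r : ℕ} (hr : T ^ r = 1) (hrF : (r : F) ≠ 0)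
    (hTa : ∀ x, T (h.a x) = h.a (T x)) (hf : T f ∈ Submodule.span F {w, v, f, g}) (hg : T g ∈ Submodule.span F {w, v, f, g})
    (x : V) : T (h.symm.a x) = h.symm.a (T x) := by
  -- the matrix on `⟨w, v⟩`
  obtain ⟨a0, ha0⟩ : ∃ a0, a0 = polar Q v (T g) := ⟨_, rfl⟩
  obtain ⟨b0, hb0⟩ : ∃ b0, b0 = -polar Q w (T g) := ⟨_, rfl⟩
  obtain ⟨c0, hc0⟩ : ∃ c0, c0 = -polar Q v (T f) := ⟨_, rfl⟩
  obtain ⟨d0, hd0⟩ : ∃ d0, d0 = polar Q w (T f) := ⟨_, rfl⟩
  have hb0' : polar Q w (T g) = -b0 := by rw [hb0, neg_neg]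
  have hc0' : polar Q v (T f) = -c0 := by rw [hc0, neg_neg]
  have hTv : T v = c0 • w + d0 • v := by
    have h1 := hTa f
    rw [h.a_apply, h.a_apply, h.wf, h.vf, one_smul, zero_smul, sub_zero, map_add, ← hd0, hc0'] at h1
    have h2 := add_left_cancel (h1.trans (add_sub_assoc _ _ _))
    rw [h2]
    module
  have hTw : T w = a0 • w + b0 • v := by
    have h1 := hTa g
    rw [h.a_apply, h.a_apply, h.wg, h.vg, one_smul, zero_smul, add_zero, map_sub, ← ha0, hb0'] at h1
    have h2 : T w = T g - (T g + -b0 • v - a0 • w) := by rw [← h1]; module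
    rw [h2]
    module
  have hdet : a0 * d0 - b0 * c0 = 1 := by
    have h1 : polar Q (T w) (T f) = 1 := by rw [polar_map hT]; exact h.wf
    rw [hTw, polar_add_left, polar_smul_left, polar_smul_left, ← hd0, hc0', smul_eq_mul, smul_eq_mul] at h1
    linear_combination h1
  -- the images of `f`, `g`
  obtain ⟨α, hα⟩ : ∃ α, α = polar Q f (T f) := ⟨_, rfl⟩
  obtain ⟨β, hβ⟩ : ∃ β, β = polar Q g (T f) := ⟨_, rfl⟩
  obtain ⟨α', hα'⟩ : ∃ α', α' = polar Q f (T g) := ⟨_, rfl⟩
  obtain ⟨β', hβ'⟩ : ∃ β', β' = polar Q g (T g) := ⟨_, rfl⟩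
  have hTf : T f = α • w + β • v + d0 • f - c0 • g := by
    have h1 := h.exists_coord hf
    rw [← hα, ← hβ, ← hd0, hc0'] at h1
    rw [h1]
    module
  have hTg : T g = α' • w + β' • v - b0 • f + a0 • g := by
    have h1 := h.exists_coord hg
    rw [← hα', ← hβ', ← ha0, hb0'] at h1
    rw [h1]
    module
  have hexp : ∀ α β γ δ : F, Q (α • w + β • v + γ • f + δ • g) = α * γ + β * δ := by
    intro α β γ δ
    simp only [Q_add, QuadraticMap.map_smul, polar_add_left, polar_smul_left, polar_smul_right, h.qw, h.qv, h.qf, h.qg,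
      h.wf, h.vg, h.wv, h.wg, h.vf, h.fg, smul_eq_mul]
    ring
  have hQf : α * d0 - β * c0 = 0 := by
    have h1 : Q (T f) = 0 := by rw [mem_O.1 hT]; exact h.qf
    have h2 : T f = α • w + β • v + d0 • f + (-c0) • g := by rw [hTf]; module
    rw [h2, hexp] at h1
    linear_combination h1
  have hQg : β' * a0 - α' * b0 = 0 := by
    have h1 : Q (T g) = 0 := by rw [mem_O.1 hT]; exact h.qg
    have h2 : T g = α' • w + β' • v + (-b0) • f + a0 • g := by rw [hTg]; module
    rw [h2, hexp] at h1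
    linear_combination h1
  have hBfg : -(α * b0) + β * a0 + α' * d0 - β' * c0 = 0 := by
    have h1 : polar Q (T f) (T g) = 0 := by rw [polar_map hT]; exact h.fg
    rw [hTf, hTg] at h1
    simp only [polar_add_left, polar_sub_left, polar_smul_left, polar_add_right, polar_sub_right, polar_smul_right, h.wf,
      h.vg, h.wv, h.wg, h.vf, h.fg, h.fw, h.gv, h.vw, h.gw, h.fv, h.gf, h.ww, h.vv, h.ff, h.gg, smul_eq_mul] at h1
    linear_combination h1
  obtain ⟨s, hs⟩ : ∃ s, s = a0 * β - b0 * α := ⟨_, rfl⟩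
  have e1 : α = s * c0 := by
    rw [hs]
    linear_combination (-α) * hdet + a0 * hQf
  have e2 : β = s * d0 := by
    rw [hs]
    linear_combination (-β) * hdet + b0 * hQf
  have e3 : α' = -(s * a0) := by
    rw [hs]
    linear_combination (-α') * hdet + c0 * hQg + a0 * hBfg
  have e4 : β' = -(s * b0) := by
    rw [hs]
    linear_combination (-β') * hdet + d0 * hQg + b0 * hBfg
  have hTf' : T f = d0 • f - c0 • g + s • T v := by
    rw [hTf, hTv, e1, e2]
    module
  have hTg' : T g = a0 • g - b0 • f - s • T w := by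
    rw [hTg, hTw, e3, e4]
    module
  -- iteration
  have hP : ∀ n : ℕ, ∃ m m' : V, m ∈ Submodule.span F {f, g} ∧ m' ∈ Submodule.span F {f, g} ∧
      (T ^ n) f = m + ((n : F) * s) • (T ^ n) v ∧ (T ^ n) g = m' - ((n : F) * s) • (T ^ n) w := by
    intro n
    induction n with
    | zero =>
      refine ⟨f, g, Submodule.subset_span (by simp), Submodule.subset_span (by simp), ?_, ?_⟩
      · simp only [_root_.pow_zero, _root_.LinearEquiv.coe_one, _root_.id_eq, _root_.Nat.cast_zero, _root_.MulZeroClass.zero_mul, _root_.zero_smul, _root_.add_zero]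
      · simp only [_root_.pow_zero, _root_.LinearEquiv.coe_one, _root_.id_eq, _root_.Nat.cast_zero, _root_.MulZeroClass.zero_mul, _root_.zero_smul, _root_.sub_zero]
    | succ n ih =>
      obtain ⟨m, m', hm, hm', h1, h2⟩ := ih
      have hpow : ∀ y, (T ^ (n + 1)) y = (T ^ n) (T y) := fun y => by rw [pow_succ]; rfl
      have h3 : (T ^ n) (T v) = c0 • (T ^ n) w + d0 • (T ^ n) v := by rw [hTv, map_add, map_smul, map_smul]
      have h4 : (T ^ n) (T w) = a0 • (T ^ n) w + b0 • (T ^ n) v := by rw [hTw, map_add, map_smul, map_smul]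
      refine ⟨d0 • m - c0 • m', a0 • m' - b0 • m, ?_, ?_, ?_, ?_⟩
      · exact Submodule.sub_mem _ (Submodule.smul_mem _ _ hm) (Submodule.smul_mem _ _ hm')
      · exact Submodule.sub_mem _ (Submodule.smul_mem _ _ hm') (Submodule.smul_mem _ _ hm)
      · rw [hpow, hpow, hTf', map_add, map_sub, map_smul, map_smul, map_smul, h1, h2, h3]
        push_cast
        module
      · rw [hpow, hpow, hTg', map_sub, map_sub, map_smul, map_smul, map_smul, h1, h2, h4]
        push_cast
        module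
  have hs0 : s = 0 := by
    obtain ⟨m, m', hm, -, h1, -⟩ := hP r
    rw [hr] at h1
    have h2 : polar Q g m = 0 := by
      obtain ⟨y, z, rfl⟩ := Submodule.mem_span_pair.1 hm
      rw [polar_add_right, polar_smul_right, polar_smul_right, h.gf, h.gg]
      simp
    have h3 : f = m + ((r : F) * s) • v := h1
    have h4 : polar Q g f = (r : F) * s := by
      rw [h3, polar_add_right, polar_smul_right, h2, h.gv]
      simp
    rw [h.gf] at h4
    exact (mul_eq_zero.1 h4.symm).resolve_left hrF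
  rw [hs0, zero_smul, add_zero] at hTf'
  rw [hs0, zero_smul, sub_zero] at hTg'
  -- the inverse images
  have h5 : f = T (a0 • f + c0 • g) := by
    rw [map_add, map_smul, map_smul, hTf', hTg']
    have : f = (a0 * d0 - b0 * c0) • f := by rw [hdet, one_smul]
    nth_rewrite 1 [this]
    module
  have h6 : g = T (b0 • f + d0 • g) := by
    rw [map_add, map_smul, map_smul, hTf', hTg']
    have : g = (a0 * d0 - b0 * c0) • g := by rw [hdet, one_smul]
    nth_rewrite 1 [this]
    module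
  have h7 : polar Q f (T x) = a0 * polar Q f x + c0 * polar Q g x := by
    nth_rewrite 1 [h5]
    rw [polar_map hT, polar_add_left, polar_smul_left, polar_smul_left]
    rfl
  have h8 : polar Q g (T x) = b0 * polar Q f x + d0 * polar Q g x := by
    nth_rewrite 1 [h6]
    rw [polar_map hT, polar_add_left, polar_smul_left, polar_smul_left]
    rfl
  rw [h.c_apply, h.c_apply, h7, h8, map_sub, map_add, map_smul, map_smul, hTf', hTg']
  module

end Fr

end Cfsg.Agent.H393.UU
end

-- part: H138/RC/BoxP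
section
/-!
# S3510, row F, box P: a family without `p`-elements having a common totally singular plane
-/

set_option autoImplicit false
open Cfsg

namespace Cfsg.Agent.H138.RC

open QuadraticMap MulAction
open Cfsg.Agent.LieClassical.OrthCore Cfsg.Agent.LieClassical.OrthTrans
open Cfsg.Agent.LieClassical.OrthSimple Cfsg.Agent.ClassicalGeometry.OrthSemi
open Cfsg.Agent.ClassicalGeometry.OrthAut1 Cfsg.Agent.H106.RC Cfsg.Agent.H93.RC

/-- a basis of a plane -/
theorem exists_span_pair {F V : Type*} [Field F] [AddCommGroup V] [Module F V]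
    (L : Submodule F V) (hL2 : Module.finrank F L = 2) :
    ∃ u w : V, u ≠ 0 ∧ (∀ a : F, w ≠ a • u) ∧ Submodule.span F {u, w} = L := by
  have hfin : FiniteDimensional F L := Module.finite_of_finrank_pos (by omega)
  let b := Module.finBasisOfFinrankEq F L hL2
  refine ⟨b 0, b 1, ?_, ?_, ?_⟩
  · intro h0
    exact b.ne_zero 0 (Subtype.ext h0)
  · intro a ha
    have h1 : b 1 = a • b 0 := Subtype.ext ha
    have h2 := congrArg (fun v => b.repr v 1) h1
    simp only [b.repr_self, map_smul, Finsupp.smul_apply, smul_eq_mul, Finsupp.single_eq_same] at h2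
    rw [Finsupp.single_eq_of_ne (by decide), mul_zero] at h2
    exact one_ne_zero h2
  · have h1 := congrArg (Submodule.map L.subtype) b.span_eq
    rw [Submodule.map_span, Submodule.map_top, Submodule.range_subtype] at h1
    refine Eq.trans ?_ h1
    congr 1
    ext v
    constructor
    · rintro (rfl | rfl)
      · exact ⟨b 0, ⟨0, rfl⟩, rfl⟩
      · exact ⟨b 1, ⟨1, rfl⟩, rfl⟩
    · rintro ⟨_, ⟨i, rfl⟩, rfl⟩
      fin_cases i
      · exact Or.inl rfl
      · exact Or.inr rfl

/-- **BOX P** from box F1 (the hypothesis `hLR`). -/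
theorem box_P_of {F V G Ω : Type*} [Field F] [AddCommGroup V] [Module F V] {Q : QuadraticForm F V}
    [Group G] [MulAction G Ω] {ρ : ↥(E Q) →* G} {ι : Type*} {y : ι → G} {M : ι → Gam Q}
    (hLR : ∀ {u w : V} (hu : Q u = 0) (_ : Q w = 0) (huw : polar Q u w = 0),
      u ≠ 0 → (∀ a : F, w ≠ a • u) →
      (∀ i, ∀ v ∈ Submodule.span F {u, w}, (M i).1 v ∈ Submodule.span F {u, w}) →
      (∀ ω : Ω, ρ (AutOrth.SemiSim.sg Q u w hu huw) • ω = ω ∨ ∃ i, y i • ω = ω) → False)
    (hcov : Cov Ω y) (L : Submodule F V)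
    (hL : ∀ v ∈ L, Q v = 0) (hL2 : Module.finrank F L = 2) (hi : ∀ i, ∀ v ∈ L, (M i).1 v ∈ L) :
    False := by
  obtain ⟨u, w, hu0, hind, hsp⟩ := exists_span_pair L hL2
  have hu : u ∈ L := by rw [← hsp]; exact Submodule.subset_span (Or.inl rfl)
  have hw : w ∈ L := by rw [← hsp]; exact Submodule.subset_span (Or.inr rfl)
  refine hLR (hL u hu) (hL w hw) ?_ hu0 hind (by rw [hsp]; exact hi) (fun ω => Or.inr (hcov ω))
  rw [polar, hL u hu, hL w hw, hL _ (L.add_mem hu hw)]
  simp

end Cfsg.Agent.H138.RC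
end

-- part: H393/RC/UU
section
/-!
# S3510, row F even, box UU (helper393)

`box_UU_of` : the stub `box_UU` of `S3510_F_even_stubs`, from box F1 (hypothesis `hLR`, in the form of `box_A_of`).
-/

set_option autoImplicit false
set_option linter.unusedSimpArgs false
open Cfsg

namespace Cfsg.Agent.H393.UU

open QuadraticMap MulAction
open Cfsg.Agent.LieClassical.OrthCore Cfsg.Agent.LieClassical.OrthTrans
open Cfsg.Agent.LieClassical.OrthSimple Cfsg.Agent.ClassicalGeometry.OrthSemi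
open Cfsg.Agent.ClassicalGeometry.OrthAut1 Cfsg.Agent.H106.RC Cfsg.Agent.H93.RC

section lin

variable {F V : Type*} [Field F] [AddCommGroup V] [Module F V] {Q : QuadraticForm F V}

/-- a frame of a nondegenerate 4-space extending a totally singular plane -/
theorem exists_fr (D : Submodule F V) (hD4 : Module.finrank F D = 4) (hDn : Nondeg (Q.comp D.subtype)) {w v : V}
    (hw : w ∈ D) (hv : v ∈ D) (hw0 : Q w = 0) (hv0 : Q v = 0) (hwv : polar Q w v = 0) (hne : w ≠ 0)
    (hind : ∀ a : F, v ≠ a • w) : ∃ f g : V, f ∈ D ∧ g ∈ D ∧ Fr Q w v f g ∧ Submodule.span F {w, v, f, g} = D := by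
  have hpol : ∀ x y : D, polar (Q.comp D.subtype) x y = polar Q (x : V) (y : V) := fun x y => by
    simp only [polar, QuadraticMap.comp_apply, Submodule.subtype_apply, Submodule.coe_add]
  have hQ' : ∀ x : D, (Q.comp D.subtype) x = Q (x : V) := fun x => rfl
  obtain ⟨y, hy1, hy2⟩ := exists_sep (x := (⟨w, hw⟩ : D)) (z := (⟨v, hv⟩ : D)) hDn (by
    intro c hc
    have h1 : w = c • v := congrArg Subtype.val hc
    have hc0 : c ≠ 0 := by
      rintro rfl
      rw [zero_smul] at h1
      exact hne h1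
    exact hind c⁻¹ (by rw [h1, smul_smul, inv_mul_cancel₀ hc0, one_smul]))
  rw [hpol] at hy1 hy2
  change polar Q v (y : V) = 0 at hy1
  change polar Q w (y : V) = 1 at hy2
  have hvw : polar Q v w = 0 := by rw [polar_comm]; exact hwv
  have hyw : polar Q (y : V) w = 1 := by rw [polar_comm]; exact hy2
  obtain ⟨f1, hf1⟩ : ∃ f1 : D, f1 = y + (-Q (y : V)) • (⟨w, hw⟩ : D) := ⟨_, rfl⟩
  have hf1' : (f1 : V) = (y : V) + (-Q (y : V)) • w := by rw [hf1]; rfl
  have hyp1 : Hyp (Q.comp D.subtype) (⟨w, hw⟩ : D) f1 := by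
    refine ⟨hw0, ?_, ?_⟩
    · rw [hQ', hf1', Q_add, QuadraticMap.map_smul, hw0, polar_smul_right, hyw]
      simp
    · rw [hpol, hf1']
      show polar Q w _ = 1
      rw [polar_add_right, polar_smul_right, polar_self_of_sing hw0, hy2]
      simp
  have hvf1 : polar Q v (f1 : V) = 0 := by
    rw [hf1', polar_add_right, polar_smul_right, hy1, hvw]
    simp
  obtain ⟨g1, hyp2, hg1, hg2⟩ := exists_hyp_perp (w := (⟨v, hv⟩ : D)) hDn hyp1 hv0 (fun h => hind 0 (by
    rw [zero_smul]
    exact congrArg Subtype.val h)) (by rw [hpol]; exact hwv) (by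
      rw [hpol, polar_comm]
      exact hvf1)
  have hfr : Fr Q w v (f1 : V) (g1 : V) := by
    refine ⟨hw0, hv0, hyp1.right, hyp2.right, ?_, ?_, hwv, ?_, hvf1, ?_⟩
    · have := hyp1.pair
      rwa [hpol] at this
    · have := hyp2.pair
      rwa [hpol] at this
    · rwa [hpol] at hg1
    · rwa [hpol] at hg2
  refine ⟨f1, g1, f1.2, g1.2, hfr, ?_⟩
  have hfin : FiniteDimensional F D := Module.finite_of_finrank_pos (by omega)
  have hli : LinearIndependent F ![w, v, (f1 : V), (g1 : V)] := by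
    rw [Fintype.linearIndependent_iff]
    intro c hc
    rw [Fin.sum_univ_four] at hc
    simp only [Matrix.cons_val_zero, Matrix.cons_val_one, Matrix.cons_val] at hc
    have k1 := congrArg (polar Q w) hc
    have k2 := congrArg (polar Q v) hc
    have k3 := congrArg (polar Q (f1 : V)) hc
    have k4 := congrArg (polar Q (g1 : V)) hc
    simp only [polar_add_right, polar_smul_right, polar_zero_right, hfr.wf, hfr.vg, hfr.wv, hfr.wg, hfr.vf, hfr.fg,
      hfr.fw, hfr.gv, hfr.vw, hfr.gw, hfr.fv, hfr.gf, hfr.ww, hfr.vv, hfr.ff, hfr.gg, smul_eq_mul, mul_zero, mul_one,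
      add_zero, zero_add] at k1 k2 k3 k4
    intro i
    fin_cases i
    · exact k3
    · exact k4
    · exact k1
    · exact k2
  have hle : Submodule.span F {w, v, (f1 : V), (g1 : V)} ≤ D := by
    rw [Submodule.span_le]
    rintro z (rfl | rfl | rfl | rfl)
    · exact hw
    · exact hv
    · exact f1.2
    · exact g1.2
  apply Submodule.eq_of_le_of_finrank_le hle
  have h1 := finrank_span_eq_card hli
  have h2 : Set.range ![w, v, (f1 : V), (g1 : V)] = {w, v, (f1 : V), (g1 : V)} := by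
    simp only [Matrix.range_cons, Matrix.range_empty, Set.union_empty, Set.singleton_union]
  rw [h2] at h1
  rw [hD4, h1]
  rfl

namespace Fr

variable {w v f g : V}

/-- an isometry fixing `w`, `v` commutes with `a` -/
theorem comm_of_fix (h : Fr Q w v f g) {B : V ≃ₗ[F] V} (hB : B ∈ O Q) (hw : B w = w) (hv : B v = v) (x : V) :
    B (h.a x) = h.a (B x) := by
  rw [h.a_apply, h.a_apply, map_sub, map_add, map_smul, map_smul, hw, hv]
  have h1 : polar Q w (B x) = polar Q w x := by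
    nth_rewrite 1 [← hw]
    exact polar_map hB _ _
  have h2 : polar Q v (B x) = polar Q v x := by
    nth_rewrite 1 [← hv]
    exact polar_map hB _ _
  rw [h1, h2]

/-- an isometry of finite order preserving the 4-space and commuting with `a` there commutes with `a` -/
theorem comm_a (h : Fr Q w v f g) {T : V ≃ₗ[F] V} (hT : T ∈ O Q) {r : ℕ} (hr : T ^ r = 1) (hr0 : r ≠ 0)
    (hD : ∀ x ∈ Submodule.span F {w, v, f, g}, T x ∈ Submodule.span F {w, v, f, g})
    (hc : ∀ x ∈ Submodule.span F {w, v, f, g}, T (h.a x) = h.a (T x)) (x : V) : T (h.a x) = h.a (T x) := by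
  have hpow : ∀ n : ℕ, ∀ x ∈ Submodule.span F {w, v, f, g}, (T ^ n) x ∈ Submodule.span F {w, v, f, g} := by
    intro n
    induction n with
    | zero => intro x hx; exact hx
    | succ n ih =>
      intro x hx
      rw [pow_succ']
      exact hD _ (ih x hx)
  have hsurj : ∀ x ∈ Submodule.span F {w, v, f, g}, ∃ y ∈ Submodule.span F {w, v, f, g}, T y = x := by
    intro x hx
    obtain ⟨n, rfl⟩ := Nat.exists_eq_succ_of_ne_zero hr0
    refine ⟨(T ^ n) x, hpow n x hx, ?_⟩
    have h1 : (T * T ^ n) x = x := by rw [← pow_succ', hr]; rfl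
    exact h1
  obtain ⟨d, hd⟩ : ∃ d, d = polar Q f x • w + polar Q g x • v + polar Q w x • f + polar Q v x • g := ⟨_, rfl⟩
  have hdD : d ∈ Submodule.span F {w, v, f, g} := by
    rw [hd]
    refine Submodule.add_mem _ (Submodule.add_mem _ (Submodule.add_mem _ ?_ ?_) ?_) ?_
    all_goals exact Submodule.smul_mem _ _ (Submodule.subset_span (by simp))
  obtain ⟨e, he⟩ : ∃ e, e = x - d := ⟨_, rfl⟩
  have hx : x = d + e := by rw [he]; abel
  have hpe : ∀ y ∈ Submodule.span F {w, v, f, g}, polar Q y e = 0 := by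
    intro y hy
    induction hy using Submodule.span_induction with
    | mem y hy =>
      simp only [Set.mem_insert_iff, Set.mem_singleton_iff] at hy
      rw [he, hd]
      rcases hy with rfl | rfl | rfl | rfl <;>
      · simp only [polar_add_right, polar_sub_right, polar_smul_right, h.wf, h.vg, h.wv, h.wg, h.vf, h.fg,
          h.fw, h.gv, h.vw, h.gw, h.fv, h.gf, h.ww, h.vv, h.ff, h.gg, smul_eq_mul]
        ring
    | zero => simp
    | add y z _ _ hy hz => rw [polar_add_left, hy, hz, add_zero]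
    | smul c y _ hy => rw [polar_smul_left, hy, smul_zero]
  have hpTe : ∀ y ∈ Submodule.span F {w, v, f, g}, polar Q y (T e) = 0 := by
    intro y hy
    obtain ⟨y', hy', rfl⟩ := hsurj y hy
    rw [polar_map hT]
    exact hpe y' hy'
  have hwm : w ∈ Submodule.span F {w, v, f, g} := Submodule.subset_span (by simp)
  have hvm : v ∈ Submodule.span F {w, v, f, g} := Submodule.subset_span (by simp)
  have h1 : h.a e = e := by rw [h.a_apply, hpe w hwm, hpe v hvm]; simp
  have h2 : h.a (T e) = T e := by rw [h.a_apply, hpTe w hwm, hpTe v hvm]; simp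
  rw [hx, map_add, map_add, map_add, map_add, h1, h2, hc d hdD]

end Fr

/-- the powers of `a` -/
theorem Fr.a_pow {w v f g : V} (h : Fr Q w v f g) (n : ℕ) (x : V) :
    (h.a ^ n) x = x + (n : F) • (polar Q w x • v - polar Q v x • w) := by
  induction n with
  | zero => simp only [_root_.pow_zero, _root_.LinearEquiv.coe_one, _root_.id_eq, _root_.Nat.cast_zero, _root_.zero_smul, _root_.add_zero]
  | succ n ih =>
    rw [pow_succ']
    show h.a ((h.a ^ n) x) = _
    rw [ih, h.a_apply]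
    simp only [polar_add_right, polar_sub_right, polar_smul_right, h.wv, h.vw, h.ww, h.vv, smul_eq_mul]
    push_cast
    module

/-- the semisimilitude `M` is the linear map `g` -/
def Rel (M : Gam Q) (g : V ≃ₗ[F] V) : Prop := ∀ v, M.1 v = g v

theorem Rel.mul {M N : Gam Q} {g k : V ≃ₗ[F] V} (h : Rel M g) (h' : Rel N k) : Rel (M * N) (g * k) := by
  intro v
  show M.1 (N.1 v) = g (k v)
  rw [h', h]

theorem Rel.inv {M : Gam Q} {g : V ≃ₗ[F] V} (h : Rel M g) : Rel M⁻¹ g⁻¹ := by
  intro v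
  show M.1⁻¹ v = g⁻¹ v
  rw [Equiv.Perm.inv_eq_iff_eq, h]
  exact (g.apply_symm_apply v).symm

theorem Rel.pow {M : Gam Q} {g : V ≃ₗ[F] V} (h : Rel M g) (n : ℕ) : Rel (M ^ n) (g ^ n) := by
  induction n with
  | zero => intro v; rfl
  | succ n ih => rw [pow_succ, pow_succ]; exact ih.mul h

theorem Rel.tg (t : ↥(E Q)) : Rel (tg Q t) (t : V ≃ₗ[F] V) := fun _ => rfl

theorem Rel.conjE_eq {M : Gam Q} {g : V ≃ₗ[F] V} (h : Rel M g) {t : ↥(E Q)}
    (hc : ∀ v, g ((t : V ≃ₗ[F] V) v) = (t : V ≃ₗ[F] V) (g v)) : conjE Q M t = t := by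
  apply AutOrth.SemiSim.ext_E
  intro v
  obtain ⟨v, rfl⟩ := M.1.surjective v
  rw [coe_conjE, conjLin_apply', h, h]
  exact hc v

end lin

section main

universe z

variable {F V G Ω : Type*} {ι : Type z} [Field F] [AddCommGroup V] [Module F V] {Q : QuadraticForm F V} [Group G]
  [MulAction G Ω] {N : Subgroup G} {ρ : ↥(E Q) →* G}

/-- replacing `x i₀` by a `p'`-element fixing `L` pointwise -/
theorem core {p : ℕ} (hLR : ∀ (κ : Type z) [Finite κ] {y : κ → G} {L : κ → Gam Q} {s : κ → ℕ},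
      (∀ i, Lf ρ (y i) (L i)) → (∀ i, (s i).Prime) → (∀ i, s i ≠ p) → (∀ i, y i ^ s i = 1) → (∀ i, y i ≠ 1) →
      (∀ i j, y i * y j = y j * y i) → ∀ {u w : V} (hu : Q u = 0) (_ : Q w = 0) (huw : polar Q u w = 0),
      u ≠ 0 → (∀ a : F, w ≠ a • u) →
      (∀ i, ∀ v ∈ Submodule.span F {u, w}, (L i).1 v ∈ Submodule.span F {u, w}) →
      (∀ ω : Ω, ρ (AutOrth.SemiSim.sg Q u w hu huw) • ω = ω ∨ ∃ i, y i • ω = ω) → False)
    [Finite ι] {x : ι → G} {M : ι → Gam Q} {r : ι → ℕ}
    (hl : ∀ i, Lf ρ (x i) (M i)) (hx : PF x r) (hcov : Cov Ω x) (i₀ : ι) (hi₀ : r i₀ = p)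
    (L : Submodule F V) (hL : ∀ v ∈ L, Q v = 0) (hL2 : Module.finrank F L = 2)
    (hLi : ∀ i, i ≠ i₀ → ∀ v ∈ L, (M i).1 v ∈ L) {y : G} {K : Gam Q} {q : ℕ} (hq : q.Prime) (hqp : q ≠ p)
    (hyK : Lf ρ y K) (hyq : y ^ q = 1) (hy1 : y ≠ 1) (hKL : ∀ v ∈ L, K.1 v = v)
    (hcom : ∀ j, j ≠ i₀ → y * x j = x j * y)
    (hy : y ∈ Subgroup.closure {z | ∃ c : G, (∀ j, j ≠ i₀ → c * x j = x j * c) ∧ z = c * x i₀ * c⁻¹}) : False := by
  classical
  have hcov' := hcov.mv i₀ hy
  refine Cfsg.Agent.H138.RC.box_P_of (M := Function.update M i₀ K)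
    (hLR ι (s := Function.update r i₀ q) ?_ ?_ ?_ ?_ ?_ ?_) hcov' L hL hL2 ?_
  · intro i
    rcases eq_or_ne i i₀ with rfl | hi
    · rw [Function.update_self, Function.update_self]; exact hyK
    · rw [Function.update_of_ne hi, Function.update_of_ne hi]; exact hl i
  · intro i
    rcases eq_or_ne i i₀ with rfl | hi
    · rw [Function.update_self]; exact hq
    · rw [Function.update_of_ne hi]; exact hx.prime i
  · intro i
    rcases eq_or_ne i i₀ with rfl | hi
    · rw [Function.update_self]; exact hqp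
    · rw [Function.update_of_ne hi]
      rintro h
      exact hi (hx.inj (h.trans hi₀.symm))
  · intro i
    rcases eq_or_ne i i₀ with rfl | hi
    · rw [Function.update_self, Function.update_self]; exact hyq
    · rw [Function.update_of_ne hi, Function.update_of_ne hi]; exact hx.pow i
  · intro i
    rcases eq_or_ne i i₀ with rfl | hi
    · rw [Function.update_self]; exact hy1
    · rw [Function.update_of_ne hi]; exact hx.ne i
  · intro i j
    rcases eq_or_ne i i₀ with rfl | hi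
    · rcases eq_or_ne j i with rfl | hj
      · rfl
      · rw [Function.update_self, Function.update_of_ne hj]; exact hcom j hj
    · rcases eq_or_ne j i₀ with rfl | hj
      · rw [Function.update_self, Function.update_of_ne hi]; exact (hcom i hi).symm
      · rw [Function.update_of_ne hi, Function.update_of_ne hj]; exact hx.comm i j
  · intro i v hv
    rcases eq_or_ne i i₀ with rfl | hi
    · rw [Function.update_self, hKL v hv]; exact hv
    · rw [Function.update_of_ne hi]; exact hLi i hi v hv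

/-- **BOX UU** (all `p`), from box F1 (the hypothesis `hLR`, form of `box_A_of`). -/
theorem box_UU_of [Nonempty Ω] (hG : Good Q) (hE : Env G Ω N) (hρ : _root_.Cfsg.Agent.H93.RC.Rep Q N ρ) {p : ℕ} [CharP F p]
    (hLR : ∀ (κ : Type z) [Finite κ] {y : κ → G} {L : κ → Gam Q} {s : κ → ℕ},
      (∀ i, Lf ρ (y i) (L i)) → (∀ i, (s i).Prime) → (∀ i, s i ≠ p) → (∀ i, y i ^ s i = 1) → (∀ i, y i ≠ 1) →
      (∀ i j, y i * y j = y j * y i) → ∀ {u w : V} (hu : Q u = 0) (_ : Q w = 0) (huw : polar Q u w = 0),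
      u ≠ 0 → (∀ a : F, w ≠ a • u) →
      (∀ i, ∀ v ∈ Submodule.span F {u, w}, (L i).1 v ∈ Submodule.span F {u, w}) →
      (∀ ω : Ω, ρ (AutOrth.SemiSim.sg Q u w hu huw) • ω = ω ∨ ∃ i, y i • ω = ω) → False)
    [Finite ι] {x : ι → G} {M : ι → Gam Q} {r : ι → ℕ}
    (hl : ∀ i, Lf ρ (x i) (M i)) (hx : PF x r) (hcov : Cov Ω x)
    (T : ι → V ≃ₗ[F] V) (hTO : ∀ i, T i ∈ O Q) (hTM : ∀ i v, (M i).1 v = T i v)
    (hTr : ∀ i, T i ^ r i = 1) (hTc : ∀ i j, T i * T j = T j * T i) (i₀ : ι) (hi₀ : r i₀ = p)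
    (D : Submodule F V) (hD4 : Module.finrank F D = 4) (hDn : Nondeg (Q.comp D.subtype))
    (hDi : ∀ i, ∀ v ∈ D, T i v ∈ D) (w w' : V) (hwD : w ∈ D) (hwD' : w' ∈ D) (hw : Q w = 0)
    (hw' : Q w' = 0) (hww : polar Q w w' = 0) (hw0 : w ≠ 0) (hind : ∀ a : F, w' ≠ a • w)
    (hu : ∀ v ∈ D, T i₀ v = siegel Q w w' hw hww v) (L : Submodule F V) (hL : ∀ v ∈ L, Q v = 0)
    (hL2 : Module.finrank F L = 2) (hLD : ∀ v ∈ L, ∀ d ∈ D, polar Q v d = 0)
    (hLi : ∀ i, i ≠ i₀ → ∀ v ∈ L, T i v ∈ L) : False := by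
  classical
  obtain ⟨f, g, hfD, hgD, h, hspan⟩ := exists_fr D hD4 hDn hwD hwD' hw hw' hww hw0 hind
  -- the members commute with `a` and `c`
  have hua : ∀ v ∈ D, T i₀ v = h.a v := hu
  have hrF : ∀ j, j ≠ i₀ → (r j : F) ≠ 0 := by
    intro j hj h0
    have h1 := (CharP.cast_eq_zero_iff F p (r j)).1 h0
    have hp1 : p ≠ 1 := by rw [← hi₀]; exact (hx.prime i₀).one_lt.ne'
    exact hj (hx.inj ((((Nat.dvd_prime (hx.prime j)).1 h1).resolve_left hp1).symm.trans hi₀.symm))
  have hTa : ∀ j, j ≠ i₀ → ∀ v, T j (h.a v) = h.a (T j v) := by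
    intro j hj
    apply h.comm_a (hTO j) (hTr j) (hx.prime j).ne_zero
    · intro y hy
      rw [hspan] at hy ⊢
      exact hDi j y hy
    · intro y hy
      rw [hspan] at hy
      rw [← hua y hy, ← hua _ (hDi j y hy)]
      exact congrArg (fun k : V ≃ₗ[F] V => k y) (hTc j i₀)
  have hTcc : ∀ j, j ≠ i₀ → ∀ v, T j (h.symm.a v) = h.symm.a (T j v) := by
    intro j hj
    apply h.comm_opp (hTO j) (hTr j) (hrF j hj) (hTa j hj)
    · rw [hspan]; exact hDi j f hfD
    · rw [hspan]; exact hDi j g hgD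
  -- the group elements
  obtain ⟨A, hA⟩ : ∃ A : V ≃ₗ[F] V, A = h.a := ⟨_, rfl⟩
  obtain ⟨C, hC⟩ : ∃ C : V ≃ₗ[F] V, C = h.symm.a := ⟨_, rfl⟩
  obtain ⟨B, hB⟩ : ∃ B : V ≃ₗ[F] V, B = A⁻¹ * T i₀ := ⟨_, rfl⟩
  have hAO : A ∈ O Q := by rw [hA]; exact h.a_mem
  have hBO : B ∈ O Q := by
    rw [hB]
    exact (O Q).mul_mem ((O Q).inv_mem hAO) (hTO i₀)
  have hu' : T i₀ = A * B := by rw [hB, mul_inv_cancel_left]
  have hBD : ∀ v ∈ D, B v = v := by
    intro v hv
    have h1 : A (B v) = A v := by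
      have h2 : A (B v) = T i₀ v := by rw [hu']; rfl
      rw [h2, hua v hv, hA]
    exact A.injective h1
  have hBA : B * A = A * B := by
    ext v
    rw [hA]
    exact h.comm_of_fix hBO (hBD w hwD) (hBD w' hwD') v
  have hBC : B * C = C * B := by
    ext v
    rw [hC]
    exact h.symm.comm_of_fix hBO (hBD f hfD) (hBD g hgD) v
  have hbr : A * C * A = C * A * C := by
    ext v
    rw [hA, hC]
    exact h.braid v
  have hAp : A ^ p = 1 := by
    ext v
    rw [hA, h.a_pow, CharP.cast_eq_zero, zero_smul, add_zero]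
    rfl
  have hBp : B ^ p = 1 := by
    have h1 := hTr i₀
    rw [hu', hi₀, (show Commute A B from hBA.symm).mul_pow, hAp, one_mul] at h1
    exact h1
  obtain ⟨m, hm⟩ : ∃ m : V ≃ₗ[F] V, m = A * C * A := ⟨_, rfl⟩
  have hmA : m * A = C * m := by
    calc m * A = (A * C * A) * A := by rw [hm]
      _ = (C * A * C) * A := by rw [hbr]
      _ = C * (A * C * A) := by group
      _ = C * m := by rw [hm]
  have hBm : B * m = m * B := by
    rw [hm, ← mul_assoc, ← mul_assoc, hBA, mul_assoc A B C, hBC, mul_assoc (A * C) A B, ← hBA]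
    group
  have hmum : m * T i₀ * m⁻¹ = C * B := by
    rw [hu', ← mul_assoc, hmA, mul_assoc C m B, ← hBm]
    group
  -- the element `c = ρ(m)`
  obtain ⟨mE, hmE⟩ : ∃ mE : ↥(E Q), (mE : V ≃ₗ[F] V) = m := by
    refine ⟨⟨m, ?_⟩, rfl⟩
    rw [hm, hA, hC]
    exact (E Q).mul_mem ((E Q).mul_mem (siegel_mem_E h.qw h.wv) (siegel_mem_E h.qf h.fg)) (siegel_mem_E h.qw h.wv)
  have hcj : ∀ j, j ≠ i₀ → ρ mE * x j = x j * ρ mE := by
    intro j hj
    have h1 := hl j mE
    have h2 : conjE Q (M j) mE = mE := by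
      refine Rel.conjE_eq (g := T j) (hTM j) ?_
      intro v
      rw [hmE, hm, hA, hC]
      show T j (h.a (h.symm.a (h.a v))) = h.a (h.symm.a (h.a (T j v)))
      rw [hTa j hj, hTcc j hj, hTa j hj]
    rw [h2] at h1
    exact (mul_inv_eq_iff_eq_mul.1 h1).symm
  obtain ⟨x0, hx0⟩ : ∃ x0, x0 = x i₀ := ⟨_, rfl⟩
  have hx0j : ∀ j, x0 * x j = x j * x0 := fun j => by rw [hx0]; exact hx.comm i₀ j
  obtain ⟨x1, hx1⟩ : ∃ x1, x1 = ρ mE * x0 * (ρ mE)⁻¹ := ⟨_, rfl⟩
  have hx1j : ∀ j, j ≠ i₀ → x1 * x j = x j * x1 := by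
    intro j hj
    have e1 : Commute (ρ mE) (x j) := hcj j hj
    have e2 : Commute x0 (x j) := hx0j j
    rw [hx1]
    exact (e1.mul_left e2).mul_left e1.inv_left
  have hmem0 : x0 ∈ Subgroup.closure {z | ∃ c : G, (∀ j, j ≠ i₀ → c * x j = x j * c) ∧ z = c * x i₀ * c⁻¹} :=
    Subgroup.subset_closure ⟨1, by simp, by rw [hx0]; simp⟩
  have hmem1 : x1 ∈ Subgroup.closure {z | ∃ c : G, (∀ j, j ≠ i₀ → c * x j = x j * c) ∧ z = c * x i₀ * c⁻¹} :=
    Subgroup.subset_closure ⟨ρ mE, hcj, by rw [hx1, hx0]⟩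
  obtain ⟨M1, hM1⟩ : ∃ M1 : Gam Q, M1 = tg Q mE * M i₀ * (tg Q mE)⁻¹ := ⟨_, rfl⟩
  have hl0 : Lf ρ x0 (M i₀) := by rw [hx0]; exact hl i₀
  have hl1 : Lf ρ x1 M1 := by
    rw [hx1, hM1]
    exact ((Lf.tg mE).mul hl0).mul (Lf.tg mE).inv
  have hr0 : Rel (M i₀) (A * B) := by
    intro v
    rw [hTM, hu']
  have hr1 : Rel M1 (C * B) := by
    rw [hM1, ← hmum]
    have h1 := Rel.tg mE
    rw [hmE] at h1
    exact (h1.mul (hTM i₀)).mul h1.inv
  have hLw : ∀ l ∈ L, polar Q w l = 0 := fun l hl' => by rw [polar_comm]; exact hLD l hl' w hwD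
  have hLw' : ∀ l ∈ L, polar Q w' l = 0 := fun l hl' => by rw [polar_comm]; exact hLD l hl' w' hwD'
  have hLf : ∀ l ∈ L, polar Q f l = 0 := fun l hl' => by rw [polar_comm]; exact hLD l hl' f hfD
  have hLg : ∀ l ∈ L, polar Q g l = 0 := fun l hl' => by rw [polar_comm]; exact hLD l hl' g hgD
  have hLA : ∀ l ∈ L, A l = l := by
    intro l hl'
    rw [hA, h.a_apply, hLw l hl', hLw' l hl']
    simp
  have hLC : ∀ l ∈ L, C l = l := by
    intro l hl'
    rw [hC, h.c_apply, hLf l hl', hLg l hl']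
    simp
  obtain ⟨l, hlL, hl0'⟩ : ∃ l ∈ L, l ≠ 0 := by
    by_contra hno
    push Not at hno
    have h1 : L = ⊥ := by
      rw [eq_bot_iff]
      intro y hy
      exact hno y hy
    rw [h1, finrank_bot] at hL2
    omega
  have hpp : p.Prime := by rw [← hi₀]; exact hx.prime i₀
  have hLM : ∀ i, i ≠ i₀ → ∀ v ∈ L, (M i).1 v ∈ L := fun i hi v hv => by rw [hTM]; exact hLi i hi v hv
  rcases hpp.eq_two_or_odd' with hp2 | hodd
  · -- `p = 2`
    have h20 : (2 : F) = 0 := by
      have := CharP.cast_eq_zero F p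
      rw [hp2] at this
      exact_mod_cast this
    have hrel : Rel (M i₀ * M1) (A * C) := by
      have h1 := hr0.mul hr1
      have h2 : A * B * (C * B) = A * C := by
        have h3 : B * B = 1 := by rw [← pow_two, ← hp2, hBp]
        calc A * B * (C * B) = A * (B * C) * B := by group
          _ = A * C * (B * B) := by rw [hBC]; group
          _ = A * C := by rw [h3, mul_one]
      rwa [h2] at h1
    have h3 : (A * C) ^ 3 = 1 := by
      have h4 : (A * C) ^ 3 = m * m := by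
        rw [pow_succ, pow_two, hm]
        nth_rewrite 2 [hbr]
        group
      rw [h4]
      ext v
      have h5 := h.mm v
      rw [h20, zero_smul, sub_zero] at h5
      rw [hm, hA, hC]
      exact h5
    refine core hLR hl hx hcov i₀ hi₀ L hL hL2 hLM (y := x0 * x1) (K := M i₀ * M1) (q := 3) Nat.prime_three
      (by omega) (hl0.mul hl1) ?_ ?_ ?_ ?_ (Subgroup.mul_mem _ hmem0 hmem1)
    · rw [((hl0.mul hl1).pow 3).eq_one_iff hG hE hρ]
      refine ⟨1, one_ne_zero, fun v => ?_⟩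
      rw [hrel.pow 3 v, h3, one_smul]
      rfl
    · rw [Ne, (hl0.mul hl1).eq_one_iff hG hE hρ]
      rintro ⟨a, -, ha⟩
      have e1 : a = 1 := by
        have := ha l
        rw [hrel l] at this
        change A (C l) = a • l at this
        rw [hLC l hlL, hLA l hlL] at this
        have h5 : (1 - a) • l = 0 := by rw [sub_smul, one_smul, ← this, sub_self]
        exact ((sub_eq_zero.1 ((smul_eq_zero.1 h5).resolve_right hl0'))).symm
      have := ha f
      rw [hrel f, e1, one_smul] at this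
      change A (C f) = f at this
      rw [hC, h.c_apply, h.ff, h.gf, zero_smul, zero_smul, add_zero, sub_zero, hA, h.a_apply, h.wf, h.vf, one_smul,
        zero_smul, sub_zero] at this
      have h5 : w' = 0 := by
        have h6 : f + w' = f + 0 := by rw [this, add_zero]
        exact add_left_cancel h6
      exact hind 0 (by rw [h5, zero_smul])
    · intro v hv
      rw [hrel v]
      show A (C v) = v
      rw [hLC v hv, hLA v hv]
    · intro j hj
      have e1 : Commute x0 (x j) := hx0j j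
      have e2 : Commute x1 (x j) := hx1j j hj
      exact e1.mul_left e2
  · -- `p` odd
    have h20 : (2 : F) ≠ 0 := by
      intro h0
      have h1 := (CharP.cast_eq_zero_iff F p 2).1 (by exact_mod_cast h0)
      have h2 := (Nat.dvd_prime Nat.prime_two).1 h1
      rcases h2 with h2 | h2
      · rw [h2] at hpp; exact Nat.not_prime_one hpp
      · rw [h2] at hodd
        exact absurd hodd (by decide)
    obtain ⟨Z, hZ⟩ : ∃ Z : V ≃ₗ[F] V, Z = m * m := ⟨_, rfl⟩
    have hZx : ∀ v, Z v = v - (2 : F) • (polar Q f v • w + polar Q g v • w' + polar Q w v • f + polar Q w' v • g) := by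
      intro v
      rw [hZ, hm, hA, hC]
      exact h.mm v
    have hZZ : Z * Z = 1 := by
      ext v
      show Z (Z v) = v
      rw [hZx (Z v), hZx v]
      simp only [polar_add_right, polar_sub_right, polar_smul_right, h.wf, h.vg, h.wv, h.wg, h.vf, h.fg,
        h.fw, h.gv, h.vw, h.gw, h.fv, h.gf, h.ww, h.vv, h.ff, h.gg, smul_eq_mul]
      module
    have hrel0 : Rel (M i₀ * M1 * M i₀) (m * B ^ 3) := by
      have h1 := (hr0.mul hr1).mul hr0
      have h2 : A * B * (C * B) * (A * B) = m * B ^ 3 := by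
        calc A * B * (C * B) * (A * B) = A * (B * C) * (B * A) * B := by group
          _ = A * (C * B) * (A * B) * B := by rw [hBC, hBA]
          _ = A * C * (B * A) * (B * B) := by group
          _ = A * C * A * (B * B * B) := by rw [hBA]; group
          _ = m * B ^ 3 := by rw [hm, pow_succ, pow_two]
      rwa [h2] at h1
    have hrel : Rel ((M i₀ * M1 * M i₀) ^ (2 * p)) Z := by
      have h1 := hrel0.pow (2 * p)
      have h2 : (m * B ^ 3) ^ (2 * p) = Z := by
        have e1 : Commute m (B ^ 3) := (show Commute m B from hBm.symm).pow_right 3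
        rw [e1.mul_pow, ← pow_mul B, show 3 * (2 * p) = p * 6 by ring, pow_mul B, hBp, one_pow, mul_one, pow_mul,
          pow_two, ← hZ]
        obtain ⟨k, hk⟩ := hodd
        rw [hk, pow_succ, pow_mul, pow_two, hZZ, one_pow, one_mul]
      rwa [h2] at h1
    have hlz : Lf ρ ((x0 * x1 * x0) ^ (2 * p)) ((M i₀ * M1 * M i₀) ^ (2 * p)) := ((hl0.mul hl1).mul hl0).pow _
    refine core hLR hl hx hcov i₀ hi₀ L hL hL2 hLM (y := (x0 * x1 * x0) ^ (2 * p))
      (K := (M i₀ * M1 * M i₀) ^ (2 * p)) (q := 2) Nat.prime_two ?_ hlz ?_ ?_ ?_ ?_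
      (Subgroup.pow_mem _ (Subgroup.mul_mem _ (Subgroup.mul_mem _ hmem0 hmem1) hmem0) _)
    · rintro rfl
      exact absurd hodd (by decide)
    · rw [(hlz.pow 2).eq_one_iff hG hE hρ]
      refine ⟨1, one_ne_zero, fun v => ?_⟩
      rw [hrel.pow 2 v, pow_two, hZZ, one_smul]
      rfl
    · rw [Ne, hlz.eq_one_iff hG hE hρ]
      rintro ⟨a, -, ha⟩
      have hZl : Z l = l := by
        rw [hZx, hLw l hlL, hLw' l hlL, hLf l hlL, hLg l hlL]
        simp
      have e1 : a = 1 := by
        have := ha l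
        rw [hrel l, hZl] at this
        have h5 : (1 - a) • l = 0 := by rw [sub_smul, one_smul, ← this, sub_self]
        exact ((sub_eq_zero.1 ((smul_eq_zero.1 h5).resolve_right hl0'))).symm
      have := ha w
      rw [hrel w, e1, one_smul, hZx, h.fw, h.gw, h.ww, h.vw, one_smul, zero_smul, zero_smul, zero_smul, add_zero,
        add_zero, add_zero, sub_eq_self, smul_eq_zero] at this
      rcases this with h5 | h5
      · exact h20 h5
      · exact hw0 h5
    · intro v hv
      rw [hrel v, hZx, hLw v hv, hLw' v hv, hLf v hv, hLg v hv]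
      simp
    · intro j hj
      have e1 : Commute x0 (x j) := hx0j j
      have e2 : Commute x1 (x j) := hx1j j hj
      exact ((e1.mul_left e2).mul_left e1).pow_left _

end main

end Cfsg.Agent.H393.UU
end

-- part: H406/RC/UniEven
section
/-!
# S3510, row F, box E6 (helper406): an element of order `p` odd and an orthogonal decomposition

From helper205's `case_b`, `piece`.
-/

set_option autoImplicit false
set_option linter.unusedSectionVars false

namespace Cfsg.Agent.H406.RC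

open Cfsg QuadraticMap Module
open Cfsg.Agent.LieClassical.OrthCore Cfsg.Agent.LieClassical.OrthTrans Cfsg.Agent.H205.RC

variable {F V : Type*} [Field F] [AddCommGroup V] [Module F V] [FiniteDimensional F V] {Q : QuadraticForm F V}

/-- a nilpotent map `N = u - 1` of square zero and rank 2 -/
theorem skew_form (hQ : Nondeg Q) (h2 : (2 : F) ≠ 0) {N : V →ₗ[F] V}
    (iso : ∀ x y, polar Q (N x) y + polar Q x (N y) + polar Q (N x) (N y) = 0) (hN0 : ∃ v, N v ≠ 0)
    (hN2 : ∀ v, N (N v) = 0) (hrk : finrank F (LinearMap.range N) ≤ 2) :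
    ∃ e w : V, Q e = 0 ∧ Q w = 0 ∧ polar Q e w = 0 ∧ e ≠ 0 ∧ (∀ a : F, w ≠ a • e) ∧
      Submodule.span F {e, w} = LinearMap.range N ∧ ∀ v, N v = polar Q e v • w - polar Q w v • e := by
  have b11 : ∀ x y, polar Q (N x) (N y) = 0 := by
    intro x y
    have h := iso x (N y)
    rw [hN2, polar_zero_right, polar_zero_right, add_zero, add_zero] at h
    exact h
  have hsk : ∀ x y, polar Q (N x) y = -polar Q (N y) x := by
    intro x y
    have h := iso x y
    rw [b11, polar_comm Q x (N y)] at h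
    linear_combination h
  have halt : ∀ x, polar Q (N x) x = 0 := by
    intro x
    have h := hsk x x
    have h5 : 2 * polar Q (N x) x = 0 := by linear_combination h
    exact (mul_eq_zero.1 h5).resolve_left h2
  have hQN : ∀ x, Q (N x) = 0 := by
    intro x
    have h := two_mul_Q (Q := Q) (N x)
    rw [b11] at h
    exact (mul_eq_zero.1 h.symm).resolve_left h2
  obtain ⟨a, ha⟩ := hN0
  obtain ⟨b0, hb0⟩ := hQ.exists_polar_ne ha
  set b := (polar Q (N a) b0)⁻¹ • b0 with hb
  have hab : polar Q (N a) b = 1 := by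
    rw [hb, polar_smul_right, smul_eq_mul, inv_mul_cancel₀ hb0]
  have hba : polar Q (N b) a = -1 := by rw [hsk, hab]
  have hli : LinearIndependent F ![N a, N b] := by
    rw [LinearIndependent.pair_iff]
    intro c d hcd
    have h5 : polar Q (c • N a + d • N b) b = 0 := by rw [hcd, polar_zero_left]
    rw [polar_add_left, polar_smul_left, polar_smul_left, hab, halt, smul_zero, add_zero, smul_eq_mul, mul_one] at h5
    have h6 : polar Q (c • N a + d • N b) a = 0 := by rw [hcd, polar_zero_left]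
    rw [polar_add_left, polar_smul_left, polar_smul_left, hba, halt, smul_zero, zero_add, smul_eq_mul] at h6
    exact ⟨h5, by linear_combination -h6⟩
  have hle : Submodule.span F {N a, N b} ≤ LinearMap.range N := by
    rw [Submodule.span_le]
    rintro _ (rfl | rfl)
    · exact ⟨a, rfl⟩
    · exact ⟨b, rfl⟩
  have hrange : Submodule.span F {N a, N b} = LinearMap.range N := by
    apply Submodule.eq_of_le_of_finrank_le hle
    have h5 := finrank_span_eq_card hli
    rw [Matrix.range_cons_cons_empty] at h5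
    rw [h5]
    exact hrk
  have hform : ∀ v, N v = polar Q (N a) v • N b - polar Q (N b) v • N a := by
    intro v
    have h5 : N v ∈ Submodule.span F {N a, N b} := by
      rw [hrange]
      exact ⟨v, rfl⟩
    obtain ⟨c, d, hcd⟩ := Submodule.mem_span_pair.1 h5
    have h6 := hsk v b
    rw [← hcd, polar_add_left, polar_smul_left, polar_smul_left, hab, halt, smul_zero, add_zero, smul_eq_mul,
      mul_one] at h6
    have h7 := hsk v a
    rw [← hcd, polar_add_left, polar_smul_left, polar_smul_left, hba, halt, smul_zero, zero_add, smul_eq_mul] at h7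
    have h8 : d = polar Q (N a) v := by linear_combination -h7
    rw [← hcd, h6, ← h8]
    module
  refine ⟨N a, N b, hQN a, hQN b, b11 a b, ha, ?_, hrange, hform⟩
  intro c hc
  have h5 := halt b
  rw [hc, polar_smul_left, hab, smul_eq_mul, mul_one] at h5
  rw [h5, zero_smul] at hc
  rw [hc, polar_zero_left] at hba
  exact neg_ne_zero.2 one_ne_zero hba.symm

/-- the part of `u - 1` on a summand -/
theorem piece_form (hQ : Nondeg Q) (h2 : (2 : F) ≠ 0) {u : V ≃ₗ[F] V} (hu : ∀ v, Q (u v) = Q v)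
    {W W' : Submodule F V} (hcW : IsCompl W W') (ho : ∀ x ∈ W, ∀ y ∈ W', polar Q x y = 0)
    (hWu : ∀ v ∈ W, u v ∈ W) (hN2 : ∀ v ∈ W, nn u (nn u v) = 0) (hne : ∃ v ∈ W, nn u v ≠ 0)
    (hrk : finrank F (W.map (nn u)) ≤ 2) {ι : Type*} {X : ι → V ≃ₗ[F] V} (hcu : ∀ i v, X i (u v) = u (X i v))
    (hX : ∀ i, ∀ v ∈ W, X i v ∈ W) :
    ∃ e w : V, e ∈ W ∧ w ∈ W ∧ Q e = 0 ∧ Q w = 0 ∧ polar Q e w = 0 ∧ e ≠ 0 ∧ (∀ a : F, w ≠ a • e) ∧
      (∀ v ∈ W, nn u v = polar Q e v • w - polar Q w v • e) ∧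
      ∀ i, ∀ v ∈ Submodule.span F {e, w}, X i v ∈ Submodule.span F {e, w} := by
  have hdec : ∀ v : V, ∃ a ∈ W, ∃ b ∈ W', a + b = v := fun v => by
    have hv : v ∈ W ⊔ W' := by rw [hcW.sup_eq_top]; trivial
    exact Submodule.mem_sup.1 hv
  set π : V →ₗ[F] V := W.subtype ∘ₗ W.projectionOnto W' hcW with hπ
  have π1 : ∀ v ∈ W, π v = v := fun v hv => by
    have h := Submodule.projectionOnto_apply_left hcW ⟨v, hv⟩
    exact congrArg Subtype.val h
  have π2 : ∀ v ∈ W', π v = 0 := fun v hv => by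
    have h := Submodule.projectionOnto_apply_right hcW ⟨v, hv⟩
    exact congrArg Subtype.val h
  have πW : ∀ v, π v ∈ W := fun v => (W.projectionOnto W' hcW v).2
  have hNW : ∀ v ∈ W, nn u v ∈ W := fun v hv => W.sub_mem (hWu v hv) hv
  have hpol : ∀ x ∈ W, ∀ y, polar Q x y = polar Q x (π y) := by
    intro x hx y
    obtain ⟨a, ha, b, hb, rfl⟩ := hdec y
    rw [map_add, π1 a ha, π2 b hb, add_zero, polar_add_right, ho x hx b hb, add_zero]
  obtain ⟨e, w, e1, w1, e2, e3, e4, e5, e6⟩ := skew_form hQ h2 (N := nn u ∘ₗ π) (fun x y => by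
      have h := nn_iso (u := u) hu (π x) (π y)
      show polar Q (nn u (π x)) y + polar Q x (nn u (π y)) + polar Q (nn u (π x)) (nn u (π y)) = 0
      rw [hpol _ (hNW _ (πW x)) y, polar_comm Q x, hpol _ (hNW _ (πW y)) x, polar_comm Q _ (π x)]
      exact h) (by
      obtain ⟨v, hv, hv0⟩ := hne
      refine ⟨v, ?_⟩
      show nn u (π v) ≠ 0
      rwa [π1 v hv]) (fun v => by
      show nn u (π (nn u (π v))) = 0
      rw [π1 _ (hNW _ (πW v)), hN2 _ (πW v)]) (by
      rw [LinearMap.range_comp]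
      have h : LinearMap.range π = W := by
        ext v
        exact ⟨fun ⟨x, hx⟩ => hx ▸ πW x, fun hv => ⟨v, π1 v hv⟩⟩
      rw [h]
      exact hrk)
  have hle : ∀ v ∈ Submodule.span F {e, w}, v ∈ W := by
    rw [e5]
    rintro _ ⟨x, rfl⟩
    exact hNW _ (πW x)
  refine ⟨e, w, hle e (Submodule.subset_span (by simp)), hle w (Submodule.subset_span (by simp)), e1, w1, e2, e3, e4,
    fun v hv => ?_, fun i v hv => ?_⟩
  · rw [← e6]
    show nn u v = nn u (π v)
    rw [π1 v hv]
  · rw [e5] at hv ⊢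
    obtain ⟨x, rfl⟩ := hv
    refine ⟨X i (π x), ?_⟩
    show nn u (π (X i (π x))) = X i (nn u (π x))
    rw [π1 _ (hX i _ (πW x)), nn_apply, nn_apply, map_sub, hcu]

/-- **BOX E6** -/
theorem box_uni_even [Finite F] (hQ : Nondeg Q) {p : ℕ} [CharP F p] (hp2 : p ≠ 2)
    (u : V ≃ₗ[F] V) (hu : u ∈ O Q) (hup : u ^ p = 1) (hu1 : u ≠ 1)
    {ι : Type*} [Finite ι] (X : ι → V ≃ₗ[F] V) (r : ι → ℕ)
    (hO : ∀ i, X i ∈ O Q) (hr : ∀ i, (r i).Prime) (hrp : ∀ i, r i ≠ p) (hpow : ∀ i, X i ^ r i = 1)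
    (hc : ∀ i j, X i * X j = X j * X i) (hcu : ∀ i, X i * u = u * X i)
    {W W' : Submodule F V} (hcW : IsCompl W W') (ho : ∀ x ∈ W, ∀ y ∈ W', polar Q x y = 0) (hb : W ≠ ⊥) (hb' : W' ≠ ⊥)
    (hWX : ∀ i, ∀ v ∈ W, X i v ∈ W) (hWX' : ∀ i, ∀ v ∈ W', X i v ∈ W') (hWu : ∀ v ∈ W, u v ∈ W)
    (hWu' : ∀ v ∈ W', u v ∈ W') :
    (∃ W : Submodule F V, Good (Q.comp W.subtype) ∧ W ≠ ⊤ ∧ (∀ i, ∀ v ∈ W, X i v ∈ W) ∧
      (∀ v ∈ W, u v ∈ W) ∧ ∃ v ∈ W, u v ≠ v) ∨
    (∃ (e f b : V) (h : Hyp Q e f) (heb : polar Q e b = 0), polar Q f b = 0 ∧ Q b ≠ 0 ∧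
      (∀ i, (∀ v ∈ Submodule.span F {e, f, b}, X i v = v) ∨
        ∀ v ∈ Submodule.span F {e, f, b}, X i v = -v) ∧
      ∀ v ∈ Submodule.span F {e, f, b}, u v = siegel Q e b h.left heb v) ∨
    (∃ (e w : V) (he : Q e = 0) (_hw : Q w = 0) (hew : polar Q e w = 0), e ≠ 0 ∧ (∀ a : F, w ≠ a • e) ∧
      u = siegel Q e w he hew ∧ ∀ i, ∀ v ∈ Submodule.span F {e, w}, X i v ∈ Submodule.span F {e, w}) ∨
    (∃ (e w e' w' : V) (he : Q e = 0) (_hw : Q w = 0) (hew : polar Q e w = 0) (he' : Q e' = 0) (_hw' : Q w' = 0)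
      (hew' : polar Q e' w' = 0), e ≠ 0 ∧ (∀ a : F, w ≠ a • e) ∧ e' ≠ 0 ∧ (∀ a : F, w' ≠ a • e') ∧
      e ∈ W ∧ w ∈ W ∧ e' ∈ W' ∧ w' ∈ W' ∧ finrank F W = 4 ∧ finrank F W' = 4 ∧
      u = siegel Q e w he hew * siegel Q e' w' he' hew' ∧
      (∀ i, ∀ v ∈ Submodule.span F {e, w}, X i v ∈ Submodule.span F {e, w}) ∧
      ∀ i, ∀ v ∈ Submodule.span F {e', w'}, X i v ∈ Submodule.span F {e', w'}) := by
  have hpp : p.Prime := CharP.char_is_prime F p
  have : Fact p.Prime := ⟨hpp⟩
  have h2 : (2 : F) ≠ 0 := by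
    intro h0
    have h1 : ((2 : ℕ) : F) = 0 := by exact_mod_cast h0
    rw [CharP.cast_eq_zero_iff F p] at h1
    exact hp2 ((Nat.prime_dvd_prime_iff_eq hpp Nat.prime_two).1 h1)
  have hrF : ∀ i, ((r i : ℕ) : F) ≠ 0 := by
    intro i h0
    rw [CharP.cast_eq_zero_iff F p] at h0
    exact hrp i ((Nat.prime_dvd_prime_iff_eq hpp (hr i)).1 h0).symm
  have hcv : ∀ i j v, X i (X j v) = X j (X i v) := fun i j v => LinearEquiv.congr_fun (hc i j) v
  have hcuv : ∀ i v, X i (u v) = u (X i v) := fun i v => LinearEquiv.congr_fun (hcu i) v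
  have hou : ∀ v, Q (u v) = Q v := hu
  have uN : ∀ v, u v = v + nn u v := fun v => by rw [nn_apply]; abel
  -- a summand
  have main : ∀ W W' : Submodule F V, IsCompl W W' → (∀ x ∈ W, ∀ y ∈ W', polar Q x y = 0) → W' ≠ ⊥ →
      (∀ i, ∀ v ∈ W, X i v ∈ W) → (∀ v ∈ W, u v ∈ W) → (∃ v ∈ W, nn u v ≠ 0) →
      (∃ W : Submodule F V, Good (Q.comp W.subtype) ∧ W ≠ ⊤ ∧ (∀ i, ∀ v ∈ W, X i v ∈ W) ∧
        (∀ v ∈ W, u v ∈ W) ∧ ∃ v ∈ W, u v ≠ v) ∨
      (∃ (e f b : V) (h : Hyp Q e f) (heb : polar Q e b = 0), polar Q f b = 0 ∧ Q b ≠ 0 ∧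
        (∀ i, (∀ v ∈ Submodule.span F {e, f, b}, X i v = v) ∨
          ∀ v ∈ Submodule.span F {e, f, b}, X i v = -v) ∧
        ∀ v ∈ Submodule.span F {e, f, b}, u v = siegel Q e b h.left heb v) ∨
      (finrank F W = 4 ∧ ∃ e w : V, e ∈ W ∧ w ∈ W ∧ Q e = 0 ∧ Q w = 0 ∧ polar Q e w = 0 ∧ e ≠ 0 ∧
        (∀ a : F, w ≠ a • e) ∧ (∀ v ∈ W, nn u v = polar Q e v • w - polar Q w v • e) ∧
        ∀ i, ∀ v ∈ Submodule.span F {e, w}, X i v ∈ Submodule.span F {e, w}) := by
    intro W W' hcW ho hb' hWX hWu hne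
    have hnd : NdOn Q W := NdOn.of_compl hQ hcW.codisjoint ho
    by_cases h5 : 5 ≤ finrank F W
    · left
      refine ⟨W, Cfsg.Agent.LieClassical.OrthFinite.good_of_finite hnd.nondeg h5, ?_, hWX, hWu, ?_⟩
      · rintro rfl
        apply hb'
        have := hcW.disjoint
        rwa [top_disjoint] at this
      · obtain ⟨v, hv, hv0⟩ := hne
        refine ⟨v, hv, fun h => hv0 ?_⟩
        rw [nn_apply, h, sub_self]
    · right
      have h4 : finrank F W ≤ 4 := by omega
      by_cases hN2 : ∀ v ∈ W, nn u (nn u v) = 0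
      · right
        obtain ⟨e1, e2⟩ := piece (p := p) hQ h2 hou hcW ho h4 hWu hN2 hne
        refine ⟨e1, piece_form hQ h2 hou hcW ho hWu hN2 hne ?_ hcuv hWX⟩
        have h6 : W.map (nn u) = (LinearMap.range (rs u hWu)).map W.subtype := by
          ext v
          constructor
          · rintro ⟨w, hw, rfl⟩
            exact ⟨rs u hWu ⟨w, hw⟩, ⟨⟨w, hw⟩, rfl⟩, rfl⟩
          · rintro ⟨_, ⟨w, rfl⟩, rfl⟩
            exact ⟨w, w.2, rfl⟩
        rw [h6]
        exact ((Submodule.finrank_map_subtype_eq W _).trans e2).le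
      · left
        push Not at hN2
        obtain ⟨w, hw, hw2⟩ := hN2
        exact case_b h2 hou hup hO hrF hpow hcv hcuv hnd h4 hWu hWX hw hw2
  have ho' : ∀ x ∈ W', ∀ y ∈ W, polar Q x y = 0 := fun x hx y hy => by
    rw [polar_comm]
    exact ho y hy x hx
  have hsum : ∀ v : V, ∃ a ∈ W, ∃ b ∈ W', a + b = v := fun v => by
    have hv : v ∈ W ⊔ W' := by rw [hcW.sup_eq_top]; trivial
    exact Submodule.mem_sup.1 hv
  -- only one summand
  have fin : ∀ W W' : Submodule F V, (∀ v : V, ∃ a ∈ W, ∃ b ∈ W', a + b = v) →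
      (∀ x ∈ W, ∀ y ∈ W', polar Q x y = 0) → (∀ v ∈ W', nn u v = 0) → ∀ e w : V, e ∈ W → w ∈ W →
      (∀ v ∈ W, nn u v = polar Q e v • w - polar Q w v • e) → ∀ (he : Q e = 0) (hw : Q w = 0) (hew : polar Q e w = 0),
      u = siegel Q e w he hew := by
    intro W W' hs ho h0 e w heW hwW hf he hw hew
    ext v
    obtain ⟨a, ha, b, hb, rfl⟩ := hs v
    rw [siegel_apply, hw, zero_mul, zero_smul, sub_zero, uN, map_add, h0 b hb, add_zero, hf a ha, polar_add_right,
      polar_add_right, ho e heW b hb, ho w hwW b hb, add_zero, add_zero, add_sub_assoc]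
  by_cases c1 : ∃ v ∈ W, nn u v ≠ 0
  · rcases main W W' hcW ho hb' hWX hWu c1 with h | h | ⟨h4, e, w, heW, hwW, he, hw, hew, he0, hind, hf, hX⟩
    · exact Or.inl h
    · exact Or.inr (Or.inl h)
    · by_cases c2 : ∃ v ∈ W', nn u v ≠ 0
      · rcases main W' W hcW.symm ho' hb hWX' hWu' c2 with
          h | h | ⟨h4', e', w', heW', hwW', he', hw', hew', he0', hind', hf', hX'⟩
        · exact Or.inl h
        · exact Or.inr (Or.inl h)
        · refine Or.inr (Or.inr (Or.inr ⟨e, w, e', w', he, hw, hew, he', hw', hew', he0, hind, he0', hind', heW, hwW,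
            heW', hwW', h4, h4', ?_, hX, hX'⟩))
          ext v
          obtain ⟨a, ha, b, hb, rfl⟩ := hsum v
          rw [LinearEquiv.mul_apply, siegel_apply, siegel_apply, hw, hw', zero_mul, zero_mul, zero_smul, zero_smul,
            sub_zero, sub_zero, uN, map_add, hf a ha, hf' b hb]
          simp only [polar_add_right, polar_sub_right, polar_smul_right, ho e heW b hb, ho w hwW b hb,
            ho' e' heW' a ha, ho' w' hwW' a ha, ho e heW w' hwW', ho e heW e' heW', ho w hwW w' hwW',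
            ho w hwW e' heW', smul_zero, add_zero, zero_add, sub_zero]
          abel
      · push Not at c2
        exact Or.inr (Or.inr (Or.inl ⟨e, w, he, hw, hew, he0, hind, fin W W' hsum ho c2 e w heW hwW hf he hw hew, hX⟩))
  · push Not at c1
    have c2 : ∃ v ∈ W', nn u v ≠ 0 := by
      by_contra hcon
      push Not at hcon
      apply hu1
      ext v
      obtain ⟨a, ha, b, hb, rfl⟩ := hsum v
      have h1 : nn u (a + b) = 0 := by rw [map_add, c1 a ha, hcon b hb, add_zero]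
      rw [nn_apply] at h1
      exact sub_eq_zero.1 h1
    rcases main W' W hcW.symm ho' hb hWX' hWu' c2 with
      h | h | ⟨h4', e', w', heW', hwW', he', hw', hew', he0', hind', hf', hX'⟩
    · exact Or.inl h
    · exact Or.inr (Or.inl h)
    · exact Or.inr (Or.inr (Or.inl ⟨e', w', he', hw', hew', he0', hind',
        fin W' W (fun v => by
          obtain ⟨a, ha, b, hb, h⟩ := hsum v
          exact ⟨b, hb, a, ha, by rw [← h, add_comm]⟩) ho' c1 e' w' heW' hwW' hf' he' hw' hew', hX'⟩))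

end Cfsg.Agent.H406.RC
end

-- part: H406/RC/BoxE6
section
/-!
# S3510, row F, box E6 (helper406): `p` odd, a member of order `p`, an orthogonal decomposition
-/

set_option autoImplicit false
open Cfsg

namespace Cfsg.Agent.H406.RC

open QuadraticMap MulAction Module
open Cfsg.Agent.LieClassical.OrthCore Cfsg.Agent.LieClassical.OrthTrans
open Cfsg.Agent.LieClassical.OrthSimple Cfsg.Agent.ClassicalGeometry.OrthSemi
open Cfsg.Agent.ClassicalGeometry.OrthAut1 Cfsg.Agent.H106.RC Cfsg.Agent.H93.RC Cfsg.Agent.H138.RC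

variable {F V : Type} [Field F] [Finite F] [AddCommGroup V] [Module F V] [FiniteDimensional F V]
  {Q : QuadraticForm F V}

/-- the orthogonal complement -/
def orth (Q : QuadraticForm F V) (D : Submodule F V) : Submodule F V where
  carrier := {v | ∀ d ∈ D, polar Q d v = 0}
  add_mem' := by
    intro v w hv hw d hd
    rw [polar_add_right, hv d hd, hw d hd, add_zero]
  zero_mem' := fun d _ => by rw [polar_zero_right]
  smul_mem' := by
    intro a v hv d hd
    rw [polar_smul_right, hv d hd, smul_zero]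

omit [Finite F] in
theorem orth_compl {D : Submodule F V} (h : Nondeg (Q.comp D.subtype)) : IsCompl D (orth Q D) := by
  have h1 : orth Q D = LinearMap.BilinForm.orthogonal (polarBilin Q) D := by
    ext v
    exact ⟨fun h d hd => h d hd, fun h d hd => h d hd⟩
  rw [h1]
  refine LinearMap.BilinForm.isCompl_orthogonal_of_restrict_nondegenerate (fun x y hxy => ?_) ?_
  · rw [polarBilin_apply_apply] at hxy ⊢
    rw [polar_comm]; exact hxy
  · refine ⟨fun x hx => h x fun y => hx y, fun x hx => h x fun y => ?_⟩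
    rw [polar_comm]
    exact hx y

variable {G Ω : Type} [Group G] [Finite G] [MulAction G Ω] [Nonempty Ω]
  {N : Subgroup G} {ρ : ↥(E Q) →* G}

omit [Finite F] [FiniteDimensional F V] [Finite G] [Nonempty Ω] in
/-- an element whose lift is in `E Q` -/
theorem eq_of_lift (hG : Good Q) (hE : Env G Ω N) (hρ : _root_.Cfsg.Agent.H93.RC.Rep Q N ρ) {x : G} {M : Gam Q} (hl : Lf ρ x M)
    (t : ↥(E Q)) (ht : ∀ v, M.1 v = (t : V ≃ₗ[F] V) v) : x = ρ t := by
  have h1 : M = tg Q t := Subtype.ext (Equiv.ext fun v => ht v)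
  have h2 : Lf ρ (x * (ρ t)⁻¹) (M * (tg Q t)⁻¹) := hl.mul (Lf.tg t).inv
  rw [h1, mul_inv_cancel] at h2
  have h3 := (h2.eq_one_iff hG hE hρ).2 ⟨1, one_ne_zero, fun v => by rw [one_smul]; rfl⟩
  exact mul_inv_eq_one.1 h3

/-- **BOX E6** -/
theorem box_E6_of (hG : Good Q) (hE : Env G Ω N) (hρ : _root_.Cfsg.Agent.H93.RC.Rep Q N ρ) (hIH : IH (Nat.card (P Q)))
    {p : ℕ} [CharP F p] {ι : Type} [Finite ι] {x : ι → G} {M : ι → Gam Q} {r : ι → ℕ}
    (hl : ∀ i, Lf ρ (x i) (M i)) (hx : PF x r) (hcov : Cov Ω x)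
    (_h8 : 8 ≤ Module.finrank F V)
    (T : ι → V ≃ₗ[F] V) (hTO : ∀ i, T i ∈ O Q) (hTM : ∀ i v, (M i).1 v = T i v)
    (hTr : ∀ i, T i ^ r i = 1) (hTc : ∀ i j, T i * T j = T j * T i)
    (hD : ∃ D : Submodule F V, D ≠ ⊥ ∧ D ≠ ⊤ ∧ Nondeg (Q.comp D.subtype) ∧
      ∀ f : V →ₗ[F] V, (∀ (i : {i : ι // r i ≠ p}) v, f (T i v) = T i (f v)) → ∀ v ∈ D, f v ∈ D)
    (hp2 : p ≠ 2) (i₀ : ι) (hi₀ : r i₀ = p)
    (hLR : LR Q Ω ρ p)
    (hB3 : ∀ (e f b : V) (h : Hyp Q e f) (heb : polar Q e b = 0), polar Q f b = 0 → Q b ≠ 0 →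
      (∀ i, i ≠ i₀ → (∀ v ∈ Submodule.span F {e, f, b}, T i v = v) ∨
        ∀ v ∈ Submodule.span F {e, f, b}, T i v = -v) →
      (∀ v ∈ Submodule.span F {e, f, b}, T i₀ v = siegel Q e b h.left heb v) → False)
    (hUU : ∀ D : Submodule F V, Module.finrank F D = 4 → Nondeg (Q.comp D.subtype) →
      (∀ i, ∀ v ∈ D, T i v ∈ D) → ∀ w w' : V, w ∈ D → w' ∈ D → ∀ (hw : Q w = 0), Q w' = 0 →
      ∀ (hww : polar Q w w' = 0), w ≠ 0 → (∀ a : F, w' ≠ a • w) →
      (∀ v ∈ D, T i₀ v = siegel Q w w' hw hww v) → ∀ L : Submodule F V, (∀ v ∈ L, Q v = 0) →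
      Module.finrank F L = 2 → (∀ v ∈ L, ∀ d ∈ D, polar Q v d = 0) → (∀ i, i ≠ i₀ → ∀ v ∈ L, T i v ∈ L) → False) :
    False := by
  have hpp : p.Prime := CharP.char_is_prime F p
  have hri : ∀ i, r i = p → i = i₀ := fun i hi => hx.inj (hi.trans hi₀.symm)
  have hrn : ∀ i, i ≠ i₀ → r i ≠ p := fun i hi h => hi (hri i h)
  have hcv : ∀ i j v, T i (T j v) = T j (T i v) := fun i j v => LinearEquiv.congr_fun (hTc i j) v
  have hPN : Nat.card (P Q) = Nat.card N := by
    have h1 : Nonempty (P Q ≃* N) := by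
      rw [← hρ.range]
      exact ⟨(QuotientGroup.quotientMulEquivOfEq hρ.ker.symm).trans (QuotientGroup.quotientKerEquivRange ρ)⟩
    obtain ⟨e⟩ := h1
    exact Nat.card_congr e.toEquiv
  have hCV : CV Q Ω N ρ p x M T (fun _ => 1) r :=
    { good := hG, env := hE, rep := hρ, lr := hLR, ih := by rw [← hPN]; exact hIH, prime := hx.prime, pow := hx.pow,
      ne := hx.ne, comm := hx.comm, cov := hcov, lf := hl, lin := hTM, sim := fun i v => by rw [one_mul]; exact hTO i v,
      commX := hTc }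
  set u := T i₀ with hu
  have hup : u ^ p = 1 := by rw [hu, ← hi₀]; exact hTr i₀
  have hu1 : u ≠ 1 := by
    intro h
    refine hCV.not_scal i₀ 1 fun v => ?_
    rw [one_smul, ← hu, h]
    rfl
  obtain ⟨D, hDb, hDt, hDn, hDi⟩ := hD
  have hT1 : ∀ i, ∀ v ∈ D, T i v ∈ D := fun i => hDi (T i : V →ₗ[F] V) fun j v => hcv i j v
  have hT2 : ∀ i, ∀ v ∈ D, (T i).symm v ∈ D := fun i => hDi ((T i).symm : V →ₗ[F] V) fun j v => by
    show (T i).symm (T j v) = T j ((T i).symm v)
    rw [LinearEquiv.symm_apply_eq, hcv, LinearEquiv.apply_symm_apply]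
  have hpol : ∀ i v w, polar Q (T i v) (T i w) = polar Q v w := fun i v w => Cfsg.Agent.H205.RC.polar_iso (hTO i) v w
  have hc := orth_compl hDn
  have hT3 : ∀ i, ∀ v ∈ orth Q D, T i v ∈ orth Q D := by
    intro i v hv d hd
    rw [← (T i).apply_symm_apply d, hpol]
    exact hv _ (hT2 i d hd)
  have hDb' : orth Q D ≠ ⊥ := by
    intro h
    have h1 := hc.codisjoint
    rw [h, codisjoint_bot] at h1
    exact hDt h1
  have key := box_uni_even hG.nondeg hp2 u (hTO i₀) hup hu1 (fun i : {i : ι // r i ≠ p} => T i) (fun i => r i)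
    (fun i => hTO i) (fun i => hx.prime i) (fun i => i.2) (fun i => hTr i) (fun i j => hTc i j) (fun i => hTc i i₀)
    hc (fun a ha b hb => hb a ha) hDb hDb' (fun i => hT1 i) (fun i => hT3 i) (hT1 i₀) (hT3 i₀)
  rcases key with ⟨W, hW, hWt, hWX, hWu, v, hv, huv⟩ | ⟨e, f, b, h, heb, hfb, hb, hsc, hub⟩ |
    ⟨e, w, he, hw, hew, he0, hind, hus, hX⟩ |
    ⟨e, w, e', w', he, hw, hew, he', hw', hew', he0, hind, he0', hind', heD, hwD, heD', hwD', h4, h4', hus, hX, hX'⟩
  · -- (a)
    have hns : ¬ ∃ a : F, ∀ v ∈ W, T i₀ v = a • v := by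
      rintro ⟨a, ha⟩
      have h1 : ∀ k : ℕ, (u ^ k) v = a ^ k • v := by
        intro k
        induction k with
        | zero => rw [pow_zero, pow_zero, one_smul]; rfl
        | succ k ih =>
          rw [pow_succ, pow_succ]
          change (u ^ k) (u v) = _
          rw [hu, ha v hv, map_smul, ← hu, ih, smul_smul, mul_comm]
      have hv0 : v ≠ 0 := by
        rintro rfl
        exact huv (map_zero u)
      have h2 : (a ^ p - 1) • v = 0 := by
        rw [sub_smul, ← h1, hup, one_smul]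
        exact sub_self _
      have h3 : a ^ p = 1 := sub_eq_zero.1 ((smul_eq_zero.1 h2).resolve_right hv0)
      have : Fact p.Prime := ⟨hpp⟩
      have h4 : (a - 1) ^ p = 0 := by rw [sub_pow_char, one_pow, h3, sub_self]
      have h5 : a = 1 := sub_eq_zero.1 (pow_eq_zero_iff hpp.ne_zero |>.1 h4)
      apply huv
      rw [hu, ha v hv, h5, one_smul]
    refine hCV.box_A W hW hWt (fun i v hv => ?_) ⟨i₀, fun a ha => hns ⟨a, ha⟩⟩ hx.inj.injOn (fun i hi hrp => ?_)
      (Or.inl ?_)
    · by_cases hip : r i = p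
      · rw [hri i hip]; exact hWu v hv
      · exact hWX ⟨i, hip⟩ v hv
    · rw [hri i hrp] at hi
      exact hns hi
    · rintro ⟨h2, -⟩
      have h3 : ((Nat.card F : ℕ) : F) = 0 := by
        have : Fintype F := Fintype.ofFinite F
        rw [Nat.card_eq_fintype_card]
        exact FiniteField.cast_card_eq_zero F
      rw [h2, CharP.cast_eq_zero_iff F p] at h3
      exact hp2 ((Nat.prime_dvd_prime_iff_eq hpp Nat.prime_two).1 h3)
  · -- (b)
    exact hB3 e f b h heb hfb hb (fun i hi => hsc ⟨i, hrn i hi⟩) hub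
  · -- (c)
    refine hCV.no_lr {i | r i ≠ p} (fun i hi => hi) he hw hew he0 hind (fun i hi => hX ⟨i, hi⟩) fun ω => ?_
    obtain ⟨i, hi⟩ := hcov ω
    by_cases hip : r i = p
    · left
      rw [hri i hip] at hi
      rw [← eq_of_lift hG hE hρ (hl i₀) (AutOrth.SemiSim.sg Q e w he hew) fun v => by
        rw [hTM, ← hu, hus]; rfl]
      exact hi
    · exact Or.inr ⟨i, hip, hi⟩
  · -- (uu)
    have hli : LinearIndependent F ![e', w'] := (LinearIndependent.pair_iff' he0').2 fun a h => hind' a h.symm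
    refine hUU D h4 hDn hT1 e w heD hwD he hw hew he0 hind (fun v hv => ?_) (Submodule.span F {e', w'}) ?_ ?_ ?_
      fun i hi => hX' ⟨i, hrn i hi⟩
    · rw [hus, LinearEquiv.mul_apply, siegel_apply he' hew' v, polar_comm Q e' v, polar_comm Q w' v, heD' v hv,
        hwD' v hv, hw', zero_smul, zero_smul, mul_zero, zero_smul, add_zero, sub_zero, sub_zero]
    · intro v hv
      obtain ⟨c, d, rfl⟩ := Submodule.mem_span_pair.1 hv
      rw [QuadraticMap.map_add Q, QuadraticMap.map_smul, QuadraticMap.map_smul, polar_smul_left, polar_smul_right, he',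
        hw', hew']
      simp
    · have h5 := finrank_span_eq_card hli
      rw [Matrix.range_cons_cons_empty] at h5
      exact h5
    · intro v hv d hd
      obtain ⟨a, c, rfl⟩ := Submodule.mem_span_pair.1 hv
      rw [polar_comm, polar_add_right, polar_smul_right, polar_smul_right, heD' d hd, hwD' d hd]
      simp

/-- **BOX E6** of `S3510_F_even_stubs` -/
theorem box_E6 (hG : Good Q) (hE : Env G Ω N) (hρ : _root_.Cfsg.Agent.H93.RC.Rep Q N ρ) (hIH : IH (Nat.card (P Q)))
    {p : ℕ} [CharP F p] {ι : Type} [Finite ι] {x : ι → G} {M : ι → Gam Q} {r : ι → ℕ}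
    (hl : ∀ i, Lf ρ (x i) (M i)) (hx : PF x r) (hcov : Cov Ω x)
    (h8 : 8 ≤ Module.finrank F V)
    (T : ι → V ≃ₗ[F] V) (hTO : ∀ i, T i ∈ O Q) (hTM : ∀ i v, (M i).1 v = T i v)
    (hTr : ∀ i, T i ^ r i = 1) (hTc : ∀ i j, T i * T j = T j * T i)
    (hD : ∃ D : Submodule F V, D ≠ ⊥ ∧ D ≠ ⊤ ∧ Nondeg (Q.comp D.subtype) ∧
      ∀ f : V →ₗ[F] V, (∀ (i : {i : ι // r i ≠ p}) v, f (T i v) = T i (f v)) → ∀ v ∈ D, f v ∈ D)
    (hp2 : p ≠ 2) (i₀ : ι) (hi₀ : r i₀ = p) : False := by
  have hLR : LR Q Ω ρ p := by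
    intro _ _ _ _ _ hl hr hrp hy hy1 hc _ _ hu hw huw hu0 hind hL hcov
    exact H297.RC.box_LR hG hE hρ hl hr hrp hy hy1 hc hu hw huw hu0 hind hL hcov
  have hPN : Nat.card (P Q) = Nat.card N := by
    have h1 : Nonempty (P Q ≃* N) := by
      rw [← hρ.range]
      exact ⟨(QuotientGroup.quotientMulEquivOfEq hρ.ker.symm).trans (QuotientGroup.quotientKerEquivRange ρ)⟩
    obtain ⟨e⟩ := h1
    exact Nat.card_congr e.toEquiv
  have hCV : CV Q Ω N ρ p x M T (fun _ => 1) r :=
    { good := hG, env := hE, rep := hρ, lr := hLR, ih := by rw [← hPN]; exact hIH, prime := hx.prime, pow := hx.pow,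
      ne := hx.ne, comm := hx.comm, cov := hcov, lf := hl, lin := hTM, sim := fun i v => by rw [one_mul]; exact hTO i v,
      commX := hTc }
  refine box_E6_of hG hE hρ hIH hl hx hcov h8 T hTO hTM hTr hTc hD hp2 i₀ hi₀ hLR ?_ ?_
  · intro e f b h heb hfb hb hsc hu
    refine Cfsg.Agent.H93.RC.box_B3 hCV hp2 hx.inj (by omega) i₀ hi₀ (hTO i₀) (by rw [← hi₀]; exact hTr i₀) h heb hfb hb
      (fun i hi => ?_) hu
    rcases hsc i hi with h1 | h1
    · exact ⟨1, fun v hv => by rw [one_smul]; exact h1 v hv⟩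
    · exact ⟨-1, fun v hv => by rw [neg_smul, one_smul]; exact h1 v hv⟩
  · intro D hD4 hDn hDi w w' hwD hwD' hw hw' hww hw0 hind hu L hL hL2 hLD hLi
    exact Cfsg.Agent.H393.UU.box_UU_of hG hE hρ hLR hl hx hcov T hTO hTM hTr hTc i₀ hi₀ D hD4 hDn hDi w w' hwD hwD' hw hw'
      hww hw0 hind hu L hL hL2 hLD hLi

end Cfsg.Agent.H406.RC
end

private theorem dce_416ca6be8fa1 : _root_.True := by
  try have : _root_.True := by simp only [_root_.Cfsg.Agent.H393.UU.Fr.a.congr_simp]
  try have : _root_.True := by simp only [_root_.Cfsg.Agent.H393.UU.Fr.a.eq_1]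
  exact _root_.True.intro
end

-- part: H721/RC/Boxes
section
prune_inst 0xc420320543800000001c0010600040d3910005020048800000850480000800800400880100b001195820094020040048110000300200000000840000000000000000040480480019000000000008010000000000000000000000000000000000014010000
set_option linter.all false
open scoped Cfsg.Agent.FastGrp

-- part: H520/RC/BoxB
section
/-!
# S3510, row F, even dimension: box B (helper520)

`V = W + W'`, both totally singular, all lifts preserve `W` and `W'`. The group `SL(W)` acts on `V`.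
-/

set_option autoImplicit false
open Cfsg

namespace Cfsg.Agent.H520.RC

open QuadraticMap MulAction
open Cfsg.Agent.LieClassical.OrthCore Cfsg.Agent.LieClassical.OrthTrans
open Cfsg.Agent.LieClassical.OrthSimple Cfsg.Agent.ClassicalGeometry.OrthSemi
open Cfsg.Agent.ClassicalGeometry.OrthAut1 Cfsg.Agent.H106.RC Cfsg.Agent.H93.RC Cfsg.Agent.H188.RC
open Cfsg.Agent.H138.RC

/-- a polarisation of the quadratic space -/
structure Pol {F V : Type*} [Field F] [AddCommGroup V] [Module F V] (Q : QuadraticForm F V)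
    (W W' : Submodule F V) : Prop where
  nd : Nondeg Q
  compl : IsCompl W W'
  sing : ∀ v ∈ W, Q v = 0
  sing' : ∀ v ∈ W', Q v = 0

namespace Pol

variable {F V : Type*} [Field F] [AddCommGroup V] [Module F V] {Q : QuadraticForm F V} {W W' : Submodule F V}

theorem symm (h : Pol Q W W') : Pol Q W' W := ⟨h.nd, h.compl.symm, h.sing', h.sing⟩

theorem p0 (h : Pol Q W W') {u v : V} (hu : u ∈ W) (hv : v ∈ W) : polar Q u v = 0 := by
  rw [polar, h.sing _ (W.add_mem hu hv), h.sing _ hu, h.sing _ hv]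
  simp

theorem decomp (h : Pol Q W W') (v : V) : ∃ (w : W) (w' : W'), v = w + w' := by
  have h1 : v ∈ W ⊔ W' := by rw [h.compl.sup_eq_top]; trivial
  obtain ⟨w, hw, w', hw', rfl⟩ := Submodule.mem_sup.1 h1
  exact ⟨⟨w, hw⟩, ⟨w', hw'⟩, rfl⟩

/-- an element of `W'` orthogonal to `W` is zero -/
theorem zero_of (h : Pol Q W W') {v : V} (hv : v ∈ W') (h0 : ∀ w ∈ W, polar Q v w = 0) : v = 0 := by
  apply h.nd
  intro y
  obtain ⟨w, w', rfl⟩ := h.decomp y
  rw [polar_add_right, h0 w w.2, h.symm.p0 hv w'.2, add_zero]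

/-- the pairing -/
def pr (Q : QuadraticForm F V) (W W' : Submodule F V) : W' →ₗ[F] Module.Dual F W :=
  W.subtype.dualMap ∘ₗ (polarBilin Q) ∘ₗ W'.subtype

theorem pr_injective (h : Pol Q W W') : Function.Injective (pr Q W W') := by
  rw [injective_iff_map_eq_zero]
  intro w' hw'
  apply Subtype.ext
  apply h.zero_of w'.2
  intro w hw
  exact LinearMap.congr_fun hw' ⟨w, hw⟩

variable [FiniteDimensional F V]

theorem finrank_le (h : Pol Q W W') : Module.finrank F W' ≤ Module.finrank F W := by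
  have h1 := LinearMap.finrank_le_finrank_of_injective h.pr_injective
  rwa [Subspace.dual_finrank_eq] at h1

theorem finrank_eq (h : Pol Q W W') : Module.finrank F W' = Module.finrank F W :=
  le_antisymm h.finrank_le h.symm.finrank_le

theorem two_mul (h : Pol Q W W') : 2 * Module.finrank F W = Module.finrank F V := by
  have h1 := Submodule.finrank_add_eq_of_isCompl h.compl
  have h2 := h.finrank_eq
  omega

/-- the pairing as an equivalence -/
noncomputable def D (h : Pol Q W W') : W' ≃ₗ[F] Module.Dual F W :=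
  LinearMap.linearEquivOfInjective (pr Q W W') h.pr_injective (by rw [Subspace.dual_finrank_eq, h.finrank_eq])

theorem D_apply (h : Pol Q W W') (w' : W') (w : W) : h.D w' w = polar Q (w' : V) w := rfl

/-- the contragredient -/
noncomputable def star (h : Pol Q W W') (a : W ≃ₗ[F] W) : W' ≃ₗ[F] W' :=
  h.D ≪≫ₗ a.symm.dualMap ≪≫ₗ h.D.symm

theorem star_apply (h : Pol Q W W') (a : W ≃ₗ[F] W) (w' : W') (w : W) :
    polar Q (h.star a w' : V) (a w) = polar Q (w' : V) w := by
  rw [← h.D_apply, ← h.D_apply]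
  show h.D (h.D.symm (a.symm.dualMap (h.D w'))) (a w) = _
  rw [LinearEquiv.apply_symm_apply, LinearEquiv.dualMap_apply, LinearEquiv.symm_apply_apply]

/-- the action of `GL(W)` on `V` -/
noncomputable def psi (h : Pol Q W W') (a : W ≃ₗ[F] W) : V ≃ₗ[F] V :=
  (Submodule.prodEquivOfIsCompl W W' h.compl).symm ≪≫ₗ (a.prodCongr (h.star a)) ≪≫ₗ
    Submodule.prodEquivOfIsCompl W W' h.compl

theorem psi_apply (h : Pol Q W W') (a : W ≃ₗ[F] W) (w : W) (w' : W') :
    h.psi a (w + w') = a w + h.star a w' := by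
  have h1 : (Submodule.prodEquivOfIsCompl W W' h.compl).symm ((w : V) + (w' : V)) = (w, w') := by
    rw [LinearEquiv.symm_apply_eq]
    rfl
  show Submodule.prodEquivOfIsCompl W W' h.compl
    ((a.prodCongr (h.star a)) ((Submodule.prodEquivOfIsCompl W W' h.compl).symm ((w : V) + (w' : V)))) = _
  rw [h1]
  rfl

theorem psi_left (h : Pol Q W W') (a : W ≃ₗ[F] W) (w : W) : h.psi a w = a w := by
  have h1 := h.psi_apply a w 0
  rwa [map_zero, Submodule.coe_zero, add_zero, add_zero] at h1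

theorem psi_right (h : Pol Q W W') (a : W ≃ₗ[F] W) (w' : W') : h.psi a w' = h.star a w' := by
  have h1 := h.psi_apply a 0 w'
  rwa [map_zero, Submodule.coe_zero, zero_add, zero_add] at h1

omit [FiniteDimensional F V] in
theorem Q_sum (h : Pol Q W W') (w : W) (w' : W') : Q ((w : V) + w') = polar Q (w' : V) w := by
  rw [Q_add, h.sing w w.2, h.sing' w' w'.2, polar_comm]
  simp

theorem psi_mem_O (h : Pol Q W W') (a : W ≃ₗ[F] W) : h.psi a ∈ O Q := by
  rw [mem_O]
  intro v
  obtain ⟨w, w', rfl⟩ := h.decomp v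
  rw [psi_apply, h.Q_sum, h.Q_sum, star_apply]

/-- uniqueness -/
theorem psi_unique (h : Pol Q W W') {g : V ≃ₗ[F] V} (hg : g ∈ O Q) (a : W ≃ₗ[F] W) (h1 : ∀ w : W, g w = a w)
    (h2 : ∀ w' ∈ W', g w' ∈ W') : g = h.psi a := by
  apply LinearEquiv.ext
  intro v
  obtain ⟨w, w', rfl⟩ := h.decomp v
  rw [psi_apply, map_add, h1]
  congr 1
  rw [← sub_eq_zero]
  apply h.zero_of (W'.sub_mem (h2 w' w'.2) (Subtype.mem _))
  intro u hu
  obtain ⟨u', hu'⟩ := a.surjective ⟨u, hu⟩
  have e1 : u = a u' := by rw [hu']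
  rw [e1, polar_sub_left, star_apply, ← h1, polar_map hg, sub_self]

theorem psi_mul (h : Pol Q W W') (a b : W ≃ₗ[F] W) : h.psi (a * b) = h.psi a * h.psi b := by
  symm
  apply h.psi_unique ((O Q).mul_mem (h.psi_mem_O a) (h.psi_mem_O b))
  · intro w
    show h.psi a (h.psi b w) = a (b w)
    rw [psi_left, psi_left]
  · intro w' hw'
    show h.psi a (h.psi b w') ∈ W'
    rw [h.psi_right b ⟨w', hw'⟩, psi_right]
    exact Subtype.mem _

/-- as a homomorphism -/
noncomputable def psiH (h : Pol Q W W') : (W ≃ₗ[F] W) →* (V ≃ₗ[F] V) :=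
  MonoidHom.mk' h.psi h.psi_mul

theorem psi_injective (h : Pol Q W W') : Function.Injective h.psi := by
  intro a b hab
  apply LinearEquiv.ext
  intro w
  apply Subtype.ext
  rw [← h.psi_left, ← h.psi_left, hab]

/-- `SL(W)` in the isometry group -/
noncomputable def slO (h : Pol Q W W') : SpecialLinearGroup F W →* (V ≃ₗ[F] V) :=
  h.psiH.comp SpecialLinearGroup.toLinearEquiv

theorem slO_injective (h : Pol Q W W') : Function.Injective h.slO := by
  intro s t hst
  exact Subtype.ext (h.psi_injective hst)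

theorem slO_mem_E (h : Pol Q W W') (hG : Good Q) (h3 : 3 ≤ Module.finrank F W) (s : SpecialLinearGroup F W) :
    h.slO s ∈ E Q := by
  have h1 : h.slO.range ≤ E Q := by
    have h2 : h.slO.range ≤ O Q := by
      rintro _ ⟨t, rfl⟩
      exact h.psi_mem_O _
    have h4 : ⁅h.slO.range, h.slO.range⁆ = h.slO.range := by
      have h5 := sl_perfect (F := F) (W := W) h3
      rw [commutator_def] at h5
      rw [MonoidHom.range_eq_map h.slO, ← Subgroup.map_commutator, h5]
    rw [← h4, Subgroup.commutator_le]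
    intro a ha b hb
    exact H749.comm_mem_E hG (h2 ha) (h2 hb)
  exact h1 ⟨s, rfl⟩

/-- `SL(W) →* E Q` -/
noncomputable def slE (h : Pol Q W W') (hG : Good Q) (h3 : 3 ≤ Module.finrank F W) :
    SpecialLinearGroup F W →* ↥(E Q) := h.slO.codRestrict (E Q) (h.slO_mem_E hG h3)

theorem slE_coe (h : Pol Q W W') (hG : Good Q) (h3 : 3 ≤ Module.finrank F W) (s : SpecialLinearGroup F W) :
    (h.slE hG h3 s : V ≃ₗ[F] V) = h.psi (s : W ≃ₗ[F] W) := rfl

theorem slE_injective (h : Pol Q W W') (hG : Good Q) (h3 : 3 ≤ Module.finrank F W) :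
    Function.Injective (h.slE hG h3) := by
  intro s t hst
  exact h.slO_injective (congrArg Subtype.val hst)

/-- the Siegel elements of `W`, `W'` -/
theorem exists_sg (h : Pol Q W W') (hG : Good Q) (h3 : 3 ≤ Module.finrank F W) {u w : V} (hu : u ∈ W) (hw : w ∈ W')
    (hu0 : Q u = 0) (huw : polar Q u w = 0) :
    ∃ s, h.slE hG h3 s = AutOrth.SemiSim.sg Q u w hu0 huw := by
  let f : Module.Dual F W := -(pr Q W W' ⟨w, hw⟩)
  have hf : f ⟨u, hu⟩ = 0 := by
    show -(polar Q w u) = 0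
    rw [polar_comm, huw, neg_zero]
  let t : W ≃ₗ[F] W := LinearEquiv.transvection hf
  have ht : ∀ v : W, t v = v + f v • (⟨u, hu⟩ : W) := fun v => rfl
  have hdet : LinearEquiv.det t = 1 := LinearEquiv.transvection.det_eq_one hf
  refine ⟨⟨t, hdet⟩, ?_⟩
  apply Subtype.ext
  rw [slE_coe]
  symm
  apply h.psi_unique (E_le_O (AutOrth.SemiSim.sg Q u w hu0 huw).2)
  · intro v
    rw [AutOrth.SemiSim.sg_apply]
    show _ = ((t v : W) : V)
    rw [ht, h.p0 hu v.2]
    show _ = (v : V) + (-(polar Q w v)) • u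
    simp only [zero_smul, add_zero, mul_zero, sub_zero, neg_smul]
    rw [sub_eq_add_neg]
  · intro v hv
    rw [AutOrth.SemiSim.sg_apply, h.symm.p0 hw hv, h.sing' w hw]
    simp only [zero_smul, zero_mul, sub_zero]
    exact W'.add_mem hv (W'.smul_mem _ hw)

/-! ### Semisimilitudes preserving `W` and `W'` -/

omit [FiniteDimensional F V] in
/-- the restriction to `W` of a linear similitude -/
theorem exists_lin [Finite V] {M : Gam Q} (hlin : IsLin M) {W : Submodule F V} (hi : ∀ v ∈ W, M.1 v ∈ W) :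
    ∃ A : W ≃ₗ[F] W, ∀ w : W, (A w : V) = M.1 w := by
  let f : W →ₗ[F] W :=
    { toFun := fun w => ⟨M.1 w, hi w w.2⟩
      map_add' := fun a b => Subtype.ext (add_of_mem M.2 a b)
      map_smul' := fun a v => Subtype.ext (hlin a v) }
  have hinj : Function.Injective f := by
    intro a b hab
    exact Subtype.ext (M.1.injective (congrArg Subtype.val hab))
  exact ⟨LinearEquiv.ofBijective f (Finite.injective_iff_bijective.mp hinj), fun w => rfl⟩

/-- conjugation of `SL(W)` -/
theorem conj_slE [Finite V] (h : Pol Q W W') (hG : Good Q) (h3 : 3 ≤ Module.finrank F W) {M : Gam Q}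
    (hlin : IsLin M) {A : W ≃ₗ[F] W} (hA : ∀ w : W, (A w : V) = M.1 w) (hi' : ∀ v ∈ W', M.1 v ∈ W')
    (s : SpecialLinearGroup F W) :
    ∃ t : SpecialLinearGroup F W, conjE Q M (h.slE hG h3 s) = h.slE hG h3 t ∧
      (t : W ≃ₗ[F] W) = A * (s : W ≃ₗ[F] W) * A⁻¹ := by
  have hdet : LinearEquiv.det (A * (s : W ≃ₗ[F] W) * A⁻¹) = 1 := by
    rw [map_mul, map_mul, map_inv, SpecialLinearGroup.det_coe, mul_one, mul_inv_cancel]
  refine ⟨⟨A * (s : W ≃ₗ[F] W) * A⁻¹, hdet⟩, ?_, rfl⟩
  apply Subtype.ext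
  rw [slE_coe]
  apply h.psi_unique (E_le_O (conjE Q M (h.slE hG h3 s)).2)
  · intro w
    obtain ⟨w, rfl⟩ := A.surjective w
    rw [coe_conjE, slE_coe, hA, conjLin_apply', psi_left, ← hA]
    show ((A (s.1 w) : W) : V) = ((A (s.1 (A.symm (A w))) : W) : V)
    rw [LinearEquiv.symm_apply_apply]
  · intro w' hw'
    obtain ⟨A', hA'⟩ := exists_lin hlin hi'
    obtain ⟨u, hu⟩ := A'.surjective ⟨w', hw'⟩
    have e1 : w' = M.1 u := by rw [← hA', hu]
    rw [e1, coe_conjE, slE_coe, conjLin_apply', psi_right]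
    exact hi' _ (Subtype.mem _)

end Pol

/-- a linear equivalence commuting with all transvections is a scalar -/
theorem scal_of_comm_sl {F W : Type*} [Field F] [AddCommGroup W] [Module F W] [FiniteDimensional F W]
    (h2 : 2 ≤ Module.finrank F W) (A : W ≃ₗ[F] W)
    (hA : ∀ s : SpecialLinearGroup F W, A * (s : W ≃ₗ[F] W) = (s : W ≃ₗ[F] W) * A) :
    ∃ a : F, ∀ w, A w = a • w := by
  have key : ∀ w : W, ¬ LinearIndependent F ![w, (A : W →ₗ[F] W) w] := by
    intro w hli
    have hw : w ≠ 0 := hli.ne_zero 0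
    -- a functional vanishing on `w` and not on ...
    obtain ⟨f, hf0, hf⟩ : ∃ f : Module.Dual F W, f ≠ 0 ∧ f w = 0 := by
      have h1 : (F ∙ w : Submodule F W) ≠ ⊤ := by
        intro h1
        have h3 : Module.finrank F (F ∙ w : Submodule F W) = Module.finrank F W := by rw [h1, finrank_top]
        rw [finrank_span_singleton hw] at h3
        omega
      obtain ⟨f, hf0, hf⟩ := Submodule.exists_le_ker_of_lt_top (F ∙ w) (lt_top_iff_ne_top.2 h1)
      exact ⟨f, hf0, hf (Submodule.mem_span_singleton_self w)⟩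
    obtain ⟨v, hv⟩ : ∃ v, f v ≠ 0 := by
      by_contra hno
      push Not at hno
      exact hf0 (LinearMap.ext hno)
    let t : SpecialLinearGroup F W := ⟨LinearEquiv.transvection hf, LinearEquiv.transvection.det_eq_one hf⟩
    have h4 := LinearEquiv.congr_fun (hA t) v
    have h5 : A (v + f v • w) = A v + f (A v) • w := h4
    rw [map_add, map_smul, add_right_inj] at h5
    rw [LinearIndependent.pair_iff] at hli
    have h6 := hli (-(f (A v))) (f v) (by
      rw [neg_smul]
      show -(f (A v) • w) + f v • A w = 0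
      rw [h5]; simp)
    exact hv h6.2
  obtain ⟨a, ha⟩ := LinearMap.exists_eq_smul_id_of_forall_notLinearIndependent key
  exact ⟨a, fun w => by
    have h1 := LinearMap.congr_fun ha w
    exact h1⟩

section main

variable {F V G Ω : Type} [Field F] [Finite F] [AddCommGroup V] [Module F V] [FiniteDimensional F V]
  {Q : QuadraticForm F V} [Group G] [Finite G] [MulAction G Ω] [Nonempty Ω]
  {N : Subgroup G} {ρ : ↥(E Q) →* G}

/-- box F1 in the form `LR` -/
theorem lr_of (hG : Good Q) (hE : Env G Ω N) (hρ : _root_.Cfsg.Agent.H93.RC.Rep Q N ρ) {p : ℕ} [CharP F p] : LR Q Ω ρ p :=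
  fun _ _ _ _ _ hl hr hrp hy hy1 hc _ _ hu hw huw hu0 hind hL hcov =>
    H297.RC.box_LR hG hE hρ hl hr hrp hy hy1 hc hu hw huw hu0 hind hL hcov

omit [Nonempty Ω] in
/-- **BOX B** from box F1. -/
theorem box_B_of (hG : Good Q) (hE : Env G Ω N) (hρ : _root_.Cfsg.Agent.H93.RC.Rep Q N ρ)
    (hIH : IH (Nat.card (P Q)))
    {p : ℕ} [CharP F p] (hLR : LR Q Ω ρ p) {ι : Type} [Finite ι] {x : ι → G} {M : ι → Gam Q} {r : ι → ℕ}
    (hl : ∀ i, Lf ρ (x i) (M i)) (hlin : ∀ i, IsLin (M i)) (hx : PF x r) (hcov : Cov Ω x)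
    (h8 : 8 ≤ Module.finrank F V) (h82 : ¬ (Nat.card F = 2 ∧ Module.finrank F V = 8))
    (W W' : Submodule F V) (hWW : IsCompl W W') (hW : ∀ v ∈ W, Q v = 0) (hW' : ∀ v ∈ W', Q v = 0)
    (hi : ∀ i, ∀ v ∈ W, (M i).1 v ∈ W) (hi' : ∀ i, ∀ v ∈ W', (M i).1 v ∈ W') : False := by
  have hfV : Finite V := Module.finite_of_finite F
  have h : Pol Q W W' := ⟨hG.nondeg, hWW, hW, hW'⟩
  have hdim := h.two_mul
  have hdim' := h.finrank_eq
  have h3 : 3 ≤ Module.finrank F W := by omega
  have hfP := Cfsg.Agent.H236.RC.finite_P (Q := Q)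
  have hfE := Cfsg.Agent.H236.RC.finite_E (Q := Q)
  let j : SpecialLinearGroup F W →* G := ρ.comp (h.slE hG h3)
  have hj : ∀ s, j s = ρ (h.slE hG h3 s) := fun s => rfl
  have hjN : j.range ≤ N := by
    rintro _ ⟨s, rfl⟩
    rw [← hρ.range]
    exact ⟨_, rfl⟩
  have hjk : j.ker ≤ Subgroup.center (SpecialLinearGroup F W) := by
    intro s hs
    have h1 : h.slE hG h3 s ∈ Subgroup.center ↥(E Q) := by
      rw [← hρ.ker, MonoidHom.mem_ker]
      exact hs
    rw [Subgroup.mem_center_iff]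
    intro t
    apply h.slE_injective hG h3
    rw [map_mul, map_mul, Subgroup.mem_center_iff.1 h1]
  -- a second independent vector
  have hind2 : ∀ (U : Submodule F V), 3 ≤ Module.finrank F U → ∀ u : U, ∃ w : U, ∀ a : F, w ≠ a • u := by
    intro U hU u
    by_contra hno
    push Not at hno
    have h1 : Module.finrank F U ≤ 1 := finrank_le_one u fun w => by
      obtain ⟨a, ha⟩ := hno w
      exact ⟨a, ha.symm⟩
    omega
  have hnt' : Nontrivial W' := Module.nontrivial_of_finrank_pos (R := F) (by omega)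
  have hnt : Nontrivial W := Module.nontrivial_of_finrank_pos (R := F) (by omega)
  have hne : j.range ≠ N := by
    intro heq
    obtain ⟨u, hu⟩ := exists_ne (0 : W')
    obtain ⟨w, hw⟩ := hind2 W' (by omega) u
    have hu0 : Q (u : V) = 0 := hW' u u.2
    have huw : polar Q (u : V) w = 0 := h.symm.p0 u.2 w.2
    have h1 : ρ (AutOrth.SemiSim.sg Q u w hu0 huw) ∈ j.range := by
      rw [heq, ← hρ.range]
      exact ⟨_, rfl⟩
    obtain ⟨s, hs⟩ := h1
    have h2 : (h.slE hG h3 s)⁻¹ * AutOrth.SemiSim.sg Q u w hu0 huw ∈ Subgroup.center ↥(E Q) := by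
      rw [← hρ.ker, MonoidHom.mem_ker, map_mul, map_inv, ← hs, hj, inv_mul_cancel]
    obtain ⟨a, -, ha⟩ := scal_of_center hG h2
    -- the Siegel element preserves `W`
    have h4 : ∀ v : W, (AutOrth.SemiSim.sg Q u w hu0 huw : V ≃ₗ[F] V) v ∈ W := by
      intro v
      have h5 : (AutOrth.SemiSim.sg Q u w hu0 huw : V ≃ₗ[F] V) v =
          (h.slE hG h3 s : V ≃ₗ[F] V) (a • (v : V)) := by
        rw [← ha]
        show _ = (h.slE hG h3 s : V ≃ₗ[F] V) ((h.slE hG h3 s : V ≃ₗ[F] V)⁻¹ (_ : V))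
        exact ((h.slE hG h3 s : V ≃ₗ[F] V).apply_symm_apply _).symm
      rw [h5, map_smul, Pol.slE_coe, Pol.psi_left]
      exact W.smul_mem _ (Subtype.mem _)
    -- a vector of `W` not orthogonal to `u`
    obtain ⟨v, hv⟩ : ∃ v : W, polar Q (u : V) v ≠ 0 := by
      by_contra hno
      push Not at hno
      apply hu
      apply Subtype.ext
      exact h.zero_of u.2 fun v hv => hno ⟨v, hv⟩
    have h6 := h4 v
    rw [AutOrth.SemiSim.sg_apply, hW' w w.2, zero_mul, zero_smul, sub_zero] at h6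
    have h7 : polar Q (u : V) v • (w : V) - polar Q (w : V) v • (u : V) ∈ W := by
      have := W.sub_mem h6 v.2
      rwa [add_sub_assoc, add_sub_cancel_left] at this
    have h8 : polar Q (u : V) v • (w : V) - polar Q (w : V) v • (u : V) ∈ W' :=
      W'.sub_mem (W'.smul_mem _ w.2) (W'.smul_mem _ u.2)
    have h9 := Submodule.disjoint_def.1 hWW.disjoint _ h7 h8
    apply hw ((polar Q (u : V) v)⁻¹ * polar Q (w : V) v)
    apply Subtype.ext
    show (w : V) = ((polar Q (u : V) v)⁻¹ * polar Q (w : V) v) • (u : V)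
    rw [mul_smul, ← sub_eq_zero.1 h9, smul_smul, inv_mul_cancel₀ hv, one_smul]
  -- restrictions of the lifts
  choose A hA using fun i => Pol.exists_lin (hlin i) (hi i)
  have hconj : ∀ i s, ∃ t : SpecialLinearGroup F W, x i * j s * (x i)⁻¹ = j t ∧
      (t : W ≃ₗ[F] W) = A i * (s : W ≃ₗ[F] W) * (A i)⁻¹ := by
    intro i s
    obtain ⟨t, ht1, ht2⟩ := h.conj_slE hG h3 (hlin i) (hA i) (hi' i) s
    exact ⟨t, by rw [hj, hl i, ht1, hj], ht2⟩
  obtain ⟨f, hf, hfk⟩ := exists_sl_hom (F := F) (W := W)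
  have e : N ≃* P Q := by
    have h1 : P Q ≃* ρ.range :=
      (QuotientGroup.quotientMulEquivOfEq hρ.ker.symm).trans (QuotientGroup.quotientKerEquivRange ρ)
    exact (h1.trans (MulEquiv.subgroupCongr hρ.range)).symm
  have hrule := mrule_hom (Ω := Ω) hIH e j hjN hne (sl_perfect h3) f hf hfk hjk (psl_simple3 h3) (psl_ncomm3 h3)
    (psl_cl3 h3) (psl_not_exc3 h3 (fun h4 => h82 ⟨h4.2, by omega⟩)) hx hcov
    (fun i a => by obtain ⟨t, ht, -⟩ := hconj i a; exact ⟨t, ht⟩)
  -- members centralising `M`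
  have hJ : ∀ i, (∀ a, x i * j a = j a * x i) → ∃ α β : F, (∀ v ∈ W, (M i).1 v = α • v) ∧
      (∀ v ∈ W', (M i).1 v = β • v) := by
    intro i hc
    have hcomm : ∀ m ∈ (SpecialLinearGroup.toLinearEquiv : SpecialLinearGroup F W →* (W ≃ₗ[F] W)).range,
        A i * m = m * A i := by
      have hval : ∀ m ∈ (SpecialLinearGroup.toLinearEquiv : SpecialLinearGroup F W →* (W ≃ₗ[F] W)).range,
          ∃ z ∈ Subgroup.center (SpecialLinearGroup F W), A i * m * (A i)⁻¹ * m⁻¹ = (z : W ≃ₗ[F] W) := by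
        rintro _ ⟨s, rfl⟩
        obtain ⟨t, ht1, ht2⟩ := hconj i s
        rw [hc, mul_inv_cancel_right] at ht1
        refine ⟨t * s⁻¹, hjk ?_, ?_⟩
        · rw [MonoidHom.mem_ker, map_mul, map_inv, ← ht1, mul_inv_cancel]
        · show _ = (t : W ≃ₗ[F] W) * ((s⁻¹ : SpecialLinearGroup F W) : W ≃ₗ[F] W)
          rw [ht2]
          rfl
      apply central_triv
      · have h5 := sl_perfect (F := F) (W := W) h3
        rw [commutator_def] at h5
        rw [MonoidHom.range_eq_map, ← Subgroup.map_commutator, h5]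
      · intro m hm
        obtain ⟨z, -, hz⟩ := hval m hm
        rw [hz]
        exact ⟨z, rfl⟩
      · rintro m hm _ ⟨s, rfl⟩
        obtain ⟨z, hzc, hz⟩ := hval m hm
        rw [hz]
        have h6 := Subgroup.mem_center_iff.1 hzc s
        exact (congrArg (fun g : SpecialLinearGroup F W => (g : W ≃ₗ[F] W)) h6).symm
    obtain ⟨α, hα⟩ := scal_of_comm_sl (by omega) (A i) (fun s => hcomm _ ⟨s, rfl⟩)
    have hα' : ∀ v ∈ W, (M i).1 v = α • v := by
      intro v hv
      rw [← hA i ⟨v, hv⟩, hα]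
      rfl
    obtain ⟨σ, c, hM⟩ := (M i).2
    have hσ : ∀ a, σ a = a := by
      intro a
      obtain ⟨v, hv⟩ := exists_ne (0 : W)
      have h1 := hlin i a v
      rw [hM.smul] at h1
      have h2 : (M i).1 v ≠ 0 := by
        intro h0
        apply hv
        apply Subtype.ext
        apply (M i).1.injective
        rw [h0, Submodule.coe_zero, hM.map_zero]
      exact smul_left_injective F h2 h1
    have hα0 : α ≠ 0 := by
      rintro rfl
      obtain ⟨v, hv⟩ := exists_ne (0 : W)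
      apply hv
      apply Subtype.ext
      apply (M i).1.injective
      rw [hα' v v.2, Submodule.coe_zero, hM.map_zero, zero_smul]
    refine ⟨α, α⁻¹ * c, hα', fun w' hw' => ?_⟩
    rw [← sub_eq_zero]
    apply h.zero_of (W'.sub_mem (hi' i w' hw') (W'.smul_mem _ hw'))
    intro v hv
    have h1 := hM.polar w' v
    rw [hσ, hα' v hv, polar_smul_right, smul_eq_mul] at h1
    rw [polar_sub_left, polar_smul_left, smul_eq_mul, sub_eq_zero]
    rw [mul_assoc, ← h1, inv_mul_cancel_left₀ hα0]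
  -- the totally singular plane
  obtain ⟨u, hu⟩ := exists_ne (0 : W)
  obtain ⟨w, hw, huw⟩ : ∃ w : W', w ≠ 0 ∧ polar Q (u : V) w = 0 := by
    let g : W' →ₗ[F] F := (polarBilin Q (u : V)) ∘ₗ W'.subtype
    have h1 : ∃ w : W', w ≠ 0 ∧ g w = 0 := by
      by_contra hno
      push Not at hno
      have h2 : Function.Injective g := by
        rw [injective_iff_map_eq_zero]
        intro a ha
        by_contra ha0
        exact hno a ha0 ha
      have h4 := LinearMap.finrank_le_finrank_of_injective h2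
      rw [Module.finrank_self] at h4
      omega
    exact h1
  have hu0 : Q (u : V) = 0 := hW u u.2
  have hw0 : Q (w : V) = 0 := hW' w w.2
  obtain ⟨s, hs⟩ := h.exists_sg hG h3 u.2 w.2 hu0 huw
  refine hLR {i : ι // ∀ a, x i * j a = j a * x i} (y := fun i => x i) (L := fun i => M i) (s := fun i => r i)
    (fun i => hl i) (fun i => hx.prime i) ?_ (fun i => hx.pow i) (fun i => hx.ne i) (fun i k => hx.comm i k)
    hu0 hw0 huw (fun h0 => hu (Subtype.ext h0)) ?_ ?_ ?_
  · rintro ⟨i, hic⟩ hrp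
    obtain ⟨α, β, hα, hβ⟩ := hJ i hic
    obtain ⟨a, ha, hsc⟩ := (hl i).pow_scal hG hρ (hx.pow i)
    have hp1 : ∀ n : ℕ, (∀ v ∈ W, ((M i) ^ n).1 v = α ^ n • v) ∧ (∀ v ∈ W', ((M i) ^ n).1 v = β ^ n • v) := by
      intro n
      induction n with
      | zero => exact ⟨fun v _ => by rw [pow_zero, pow_zero, one_smul]; rfl,
          fun v _ => by rw [pow_zero, pow_zero, one_smul]; rfl⟩
      | succ n ih =>
        constructor
        · intro v hv
          rw [pow_succ, pow_succ']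
          show ((M i) ^ n).1 ((M i).1 v) = _
          rw [hα v hv, ih.1 _ (W.smul_mem _ hv), smul_smul, mul_comm]
        · intro v hv
          rw [pow_succ, pow_succ']
          show ((M i) ^ n).1 ((M i).1 v) = _
          rw [hβ v hv, ih.2 _ (W'.smul_mem _ hv), smul_smul, mul_comm]
    have e1 : α ^ r i = a := by
      have h1 := (hp1 (r i)).1 u u.2
      rw [hsc] at h1
      exact (smul_left_injective F (fun h0 => hu (Subtype.ext h0)) h1).symm
    have e2 : β ^ r i = a := by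
      have h1 := (hp1 (r i)).2 w w.2
      rw [hsc] at h1
      exact (smul_left_injective F (fun h0 => hw (Subtype.ext h0)) h1).symm
    have hrp' : r i = p := hrp
    have hpp : Fact p.Prime := ⟨by rw [← hrp']; exact hx.prime i⟩
    have e3 : (α - β) ^ p = 0 := by
      rw [sub_pow_char, ← hrp', e1, e2, sub_self]
    have e4 : α = β := sub_eq_zero.1 (pow_eq_zero_iff hpp.out.ne_zero |>.1 e3)
    apply hx.ne i
    rw [(hl i).eq_one_iff hG hE hρ]
    refine ⟨α, ?_, ?_⟩
    · rintro rfl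
      rw [zero_pow (hx.prime i).ne_zero] at e1
      exact ha e1.symm
    · intro v
      obtain ⟨v1, v2, rfl⟩ := h.decomp v
      rw [add_of_mem (M i).2, hα v1 v1.2, hβ v2 v2.2, ← e4, smul_add]
  · intro a haw
    apply hw
    apply Subtype.ext
    have h1 : (w : V) ∈ W := by rw [haw]; exact W.smul_mem _ u.2
    exact Submodule.disjoint_def.1 hWW.disjoint _ h1 w.2
  · rintro ⟨i, hic⟩ v hv
    obtain ⟨α, β, hα, hβ⟩ := hJ i hic
    obtain ⟨a, b, rfl⟩ := Submodule.mem_span_pair.1 hv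
    show (M i).1 _ ∈ _
    rw [add_of_mem (M i).2, hα _ (W.smul_mem _ u.2), hβ _ (W'.smul_mem _ w.2)]
    exact Submodule.add_mem _
      (Submodule.smul_mem _ _ (Submodule.smul_mem _ _ (Submodule.subset_span (by simp))))
      (Submodule.smul_mem _ _ (Submodule.smul_mem _ _ (Submodule.subset_span (by simp))))
  · intro ω
    rcases hrule ω with h1 | ⟨i, hi1, hi2⟩
    · left
      rw [← hs, ← hj]
      exact h1 s
    · exact Or.inr ⟨⟨i, hi1⟩, hi2⟩

/-- **BOX B**: `V = W + W'`, both totally singular, all lifts preserve `W` and `W'`. -/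
theorem box_B (hG : Good Q) (hE : Env G Ω N) (hρ : _root_.Cfsg.Agent.H93.RC.Rep Q N ρ) (hIH : IH (Nat.card (P Q)))
    {p : ℕ} [CharP F p] {ι : Type} [Finite ι] {x : ι → G} {M : ι → Gam Q} {r : ι → ℕ}
    (hl : ∀ i, Lf ρ (x i) (M i)) (hlin : ∀ i, IsLin (M i)) (hx : PF x r) (hcov : Cov Ω x)
    (h8 : 8 ≤ Module.finrank F V) (h82 : ¬ (Nat.card F = 2 ∧ Module.finrank F V = 8))
    (W W' : Submodule F V) (hWW : IsCompl W W') (hW : ∀ v ∈ W, Q v = 0) (hW' : ∀ v ∈ W', Q v = 0)
    (hi : ∀ i, ∀ v ∈ W, (M i).1 v ∈ W) (hi' : ∀ i, ∀ v ∈ W', (M i).1 v ∈ W') : False :=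
  box_B_of (p := p) hG hE hρ hIH (lr_of hG hE hρ) hl hlin hx hcov h8 h82 W W' hWW hW hW' hi hi'

end main

end Cfsg.Agent.H520.RC
end

-- part: H338/RC/BoxCF
section
/-!
# S3510, row F, box C (helper338): the statement of the stub file, without hypotheses
-/

set_option autoImplicit false
open Cfsg

namespace Cfsg.Agent.H338.RC

open QuadraticMap Module MulAction
open Cfsg.Agent.LieClassical.OrthCore Cfsg.Agent.LieClassical.OrthTrans
open Cfsg.Agent.ClassicalGeometry.OrthSemi Cfsg.Agent.ClassicalGeometry.OrthAut1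
open Cfsg.Agent.H106.RC Cfsg.Agent.H93.RC

/-- **box C** -/
theorem box_CF {F V : Type} [Field F] [Finite F] [AddCommGroup V] [Module F V] [FiniteDimensional F V]
    {Q : QuadraticForm F V} {G Ω : Type} [Group G] [Finite G] [MulAction G Ω] [Nonempty Ω]
    {N : Subgroup G} {ρ : ↥(E Q) →* G} (hG : Good Q) (hE : Env G Ω N) (hρ : _root_.Cfsg.Agent.H93.RC.Rep Q N ρ) (hIH : IH (Nat.card (P Q)))
    {p : ℕ} [CharP F p] {ι : Type} [Finite ι] {x : ι → G} {M : ι → Gam Q} {r : ι → ℕ}
    (hl : ∀ i, Lf ρ (x i) (M i)) (hlin : ∀ i, IsLin (M i)) (hx : PF x r) (hcov : Cov Ω x)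
    (h8 : 8 ≤ Module.finrank F V) (κ : V →ₗ[F] V) (s t : F)
    (hκ : ∀ v, κ (κ v) = s • κ v - t • v) (hirr : ∀ a : F, a * a - s * a + t ≠ 0)
    (hQκ : ∀ v, Q (κ v) = t * Q v) (hcom : ∀ i v, (M i).1 (κ v) = κ ((M i).1 v)) : False :=
  box_C_of hG hE hρ hIH (p := p)
    (fun _ _ _ _ _ hl hr hrp hy hy1 hc _ _ hu hw huw hu0 hind hL hcov =>
      H297.RC.box_LR hG hE hρ hl hr hrp hy hy1 hc hu hw huw hu0 hind hL hcov)
    hl hlin hx hcov h8 κ s t hκ hirr hQκ hcom

end Cfsg.Agent.H338.RC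
end

-- part: H479/RC/Restr
section
/-!
# S3510, row F, boxes D: restriction of scalars (helper479)

`L` an extension field of `F`, `V` an `L`-space, `QL` a quadratic form over `L`, `Q = l (QL)` for a linear functional `l` of `L`.
-/

set_option autoImplicit false
open Cfsg

namespace Cfsg.Agent.H479.RC

open QuadraticMap MulAction
open Cfsg.Agent.LieClassical.OrthCore Cfsg.Agent.LieClassical.OrthTrans
open Cfsg.Agent.LieClassical.OrthSimple Cfsg.Agent.ClassicalGeometry.OrthSemi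
open Cfsg.Agent.ClassicalGeometry.OrthAut1 Cfsg.Agent.H106.RC Cfsg.Agent.H93.RC Cfsg.Agent.H188.RC

section gen

variable {H G : Type*} [Group H] [Group G]

/-- the range of a homomorphism with central kernel has the quotient by the centre as a central quotient -/
theorem exists_pi (φ : H →* G) (hk : φ.ker ≤ Subgroup.center H) :
    ∃ π : φ.range →* (H ⧸ Subgroup.center H), Function.Surjective π ∧
      π.ker ≤ Subgroup.center φ.range ∧ ∀ h, π ⟨φ h, ⟨h, rfl⟩⟩ = QuotientGroup.mk h := by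
  let e := QuotientGroup.quotientKerEquivRange φ
  let f : H ⧸ φ.ker →* H ⧸ Subgroup.center H :=
    QuotientGroup.map φ.ker (Subgroup.center H) (MonoidHom.id H) hk
  have hf : ∀ h : H, f (QuotientGroup.mk h) = QuotientGroup.mk h := fun h => rfl
  have hval : ∀ h, (f.comp e.symm.toMonoidHom) ⟨φ h, ⟨h, rfl⟩⟩ = QuotientGroup.mk h := by
    intro h
    have h1 : e (QuotientGroup.mk h) = ⟨φ h, ⟨h, rfl⟩⟩ := rfl
    show f (e.symm ⟨φ h, ⟨h, rfl⟩⟩) = _
    rw [← h1, MulEquiv.symm_apply_apply, hf]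
  refine ⟨f.comp e.symm.toMonoidHom, ?_, ?_, hval⟩
  · intro y
    obtain ⟨h, rfl⟩ := QuotientGroup.mk_surjective y
    exact ⟨_, hval h⟩
  · rintro ⟨_, ⟨h, rfl⟩⟩ hm
    rw [MonoidHom.mem_ker, hval, QuotientGroup.eq_one_iff] at hm
    rw [Subgroup.mem_center_iff]
    rintro ⟨_, ⟨k, rfl⟩⟩
    apply Subtype.ext
    show φ k * φ h = φ h * φ k
    rw [← map_mul, ← map_mul, Subgroup.mem_center_iff.1 hm]

/-- the range of a perfect group is perfect -/
theorem range_perfect (φ : H →* G) (h : commutator H = ⊤) : ⁅φ.range, φ.range⁆ = φ.range := by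
  rw [MonoidHom.range_eq_map, ← Subgroup.map_commutator, ← commutator_def, h]

end gen

variable {F V L : Type*} [Field F] [AddCommGroup V] [Module F V] [Field L] [Algebra F L] [Module L V]
  [IsScalarTower F L V] {Q : QuadraticForm F V} {QL : QuadraticForm L V} {l : L →ₗ[F] F}

/-- restriction of scalars -/
def rst (F : Type*) {V L : Type*} [Field F] [AddCommGroup V] [Module F V] [Field L] [Algebra F L] [Module L V]
    [IsScalarTower F L V] : (V ≃ₗ[L] V) →* (V ≃ₗ[F] V) where
  toFun g := g.restrictScalars F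
  map_one' := rfl
  map_mul' _ _ := rfl

theorem rst_apply (g : V ≃ₗ[L] V) (v : V) : rst F g v = g v := rfl

theorem rst_mem_O (hQ : ∀ v, l (QL v) = Q v) {g : V ≃ₗ[L] V} (hg : g ∈ O QL) : rst F g ∈ O Q := by
  intro v
  rw [rst_apply, ← hQ, ← hQ, hg v]

theorem rst_mem_E (hG : Good Q) (hL : Good QL) (hQ : ∀ v, l (QL v) = Q v) {g : V ≃ₗ[L] V}
    (hg : g ∈ E QL) : rst F g ∈ E Q := by
  rw [← hL.E_perfect] at hg
  have h1 : (⁅E QL, E QL⁆).map (rst F) ≤ ⁅O Q, O Q⁆ := by
    rw [Subgroup.map_commutator]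
    refine Subgroup.commutator_mono ?_ ?_ <;>
    · rintro _ ⟨k, hk, rfl⟩
      exact rst_mem_O hQ (E_le_O hk)
  rw [hG.commutator_eq_E] at h1
  exact h1 ⟨g, hg, rfl⟩

/-- `E QL →* E Q` -/
def psi (hG : Good Q) (hL : Good QL) (hQ : ∀ v, l (QL v) = Q v) : ↥(E QL) →* ↥(E Q) where
  toFun g := ⟨rst F g.1, rst_mem_E hG hL hQ g.2⟩
  map_one' := rfl
  map_mul' _ _ := rfl

theorem psi_apply (hG : Good Q) (hL : Good QL) (hQ : ∀ v, l (QL v) = Q v) (g : ↥(E QL)) (v : V) :
    (psi hG hL hQ g : V ≃ₗ[F] V) v = (g : V ≃ₗ[L] V) v := rfl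

theorem psi_injective (hG : Good Q) (hL : Good QL) (hQ : ∀ v, l (QL v) = Q v) :
    Function.Injective (psi hG hL hQ) := by
  intro a b hab
  apply Subtype.ext
  apply LinearEquiv.ext
  intro v
  rw [← psi_apply hG hL hQ, hab, psi_apply]

section conj

variable {G : Type*} [Group G] {N : Subgroup G} {ρ : ↥(E Q) →* G}

/-- conjugation by an element which is semilinear over both fields -/
theorem conj_psi (hG : Good Q) (hL : Good QL) (hQ : ∀ v, l (QL v) = Q v) (M : Gam Q) (ML : Gam QL)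
    (h : M.1 = ML.1) (g : ↥(E QL)) : conjE Q M (psi hG hL hQ g) = psi hG hL hQ (conjE QL ML g) := by
  apply Subtype.ext
  apply LinearEquiv.ext
  intro v
  obtain ⟨v, rfl⟩ := M.1.surjective v
  rw [coe_conjE, conjLin_apply', psi_apply, psi_apply, coe_conjE]
  conv_rhs => rw [h]
  rw [conjLin_apply', h]

theorem x_conj (hG : Good Q) (hL : Good QL) (hQ : ∀ v, l (QL v) = Q v) {x : G} {M : Gam Q}
    (hl : Lf ρ x M) (ML : Gam QL) (h : M.1 = ML.1) (g : ↥(E QL)) :
    x * (ρ.comp (psi hG hL hQ)) g * x⁻¹ = (ρ.comp (psi hG hL hQ)) (conjE QL ML g) := by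
  rw [MonoidHom.comp_apply, MonoidHom.comp_apply, hl, conj_psi hG hL hQ M ML h]

theorem ker_comp (hG : Good Q) (hL : Good QL) (hQ : ∀ v, l (QL v) = Q v) (hρ : _root_.Cfsg.Agent.H93.RC.Rep Q N ρ) :
    (ρ.comp (psi hG hL hQ)).ker ≤ Subgroup.center ↥(E QL) := by
  intro g hg
  rw [MonoidHom.mem_ker, MonoidHom.comp_apply, ← MonoidHom.mem_ker, hρ.ker, Subgroup.mem_center_iff] at hg
  rw [Subgroup.mem_center_iff]
  intro k
  apply psi_injective hG hL hQ
  rw [map_mul, map_mul, hg]

theorem mem_norm (hG : Good Q) (hL : Good QL) (hQ : ∀ v, l (QL v) = Q v) {x : G} {M : Gam Q}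
    (hl : Lf ρ x M) (ML : Gam QL) (h : M.1 = ML.1) :
    x ∈ Subgroup.normalizer ((ρ.comp (psi hG hL hQ)).range : Set G) := by
  rw [Subgroup.mem_normalizer_iff]
  intro m
  constructor
  · rintro ⟨g, rfl⟩
    rw [x_conj hG hL hQ hl ML h]
    exact ⟨_, rfl⟩
  · rintro ⟨g, hg⟩
    refine ⟨conjE QL ML⁻¹ g, ?_⟩
    have h1 := x_conj hG hL hQ hl ML h (conjE QL ML⁻¹ g)
    have h2 : conjE QL ML (conjE QL ML⁻¹ g) = g := by
      rw [← MulAut.mul_apply, ← map_mul, mul_inv_cancel, map_one]; rfl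
    rw [h2, hg] at h1
    exact mul_left_cancel (mul_right_cancel h1)

/-- an element centralising the image of `E QL` is a scalar of `L` -/
theorem scal_of_cent (hG : Good Q) (hL : Good QL) (hQ : ∀ v, l (QL v) = Q v) (hρ : _root_.Cfsg.Agent.H93.RC.Rep Q N ρ)
    {x : G} {M : Gam Q} (hl : Lf ρ x M) (ML : Gam QL) (h : M.1 = ML.1)
    (hc : ∀ m ∈ (ρ.comp (psi hG hL hQ)).range, x * m = m * x) : ∃ a : L, a ≠ 0 ∧ ∀ v, M.1 v = a • v := by
  have h1 : ∀ g, (ρ.comp (psi hG hL hQ)) (conjE QL ML g) = (ρ.comp (psi hG hL hQ)) g := by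
    intro g
    rw [← x_conj hG hL hQ hl ML h, hc _ ⟨g, rfl⟩, mul_inv_cancel_right]
  have h2 : Psi QL ML = 1 := by
    ext t
    obtain ⟨t, rfl⟩ := QuotientGroup.mk_surjective t
    rw [Psi_mk]
    show (QuotientGroup.mk (conjE QL ML t) : P QL) = QuotientGroup.mk t
    rw [eq_comm, QuotientGroup.eq]
    apply ker_comp hG hL hQ hρ
    rw [MonoidHom.mem_ker, map_mul, map_inv, h1]
    group
  have h3 : conjE QL ML = 1 := eq_one_of_quotAut (commutator_E hL) _ h2
  obtain ⟨a, ha, h4⟩ := exists_scalar_of_conjE hL ML h3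
  exact ⟨a, ha, fun v => by rw [h]; exact h4 v⟩

/-- the image is not everything, if there is a line of `F` which is no line of `L` -/
theorem range_ne (hG : Good Q) (hL : Good QL) (hQ : ∀ v, l (QL v) = Q v) (hρ : _root_.Cfsg.Agent.H93.RC.Rep Q N ρ)
    (α : L) (hα : ∀ a : F, α ≠ algebraMap F L a) : (ρ.comp (psi hG hL hQ)).range ≠ N := by
  intro heq
  obtain ⟨u, w, hu, hw, huw, hu0, hind⟩ := exists_plane hL
  have hQu : Q u = 0 := by rw [← hQ, hu, map_zero]
  have hQw : Q w = 0 := by rw [← hQ, hw, map_zero]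
  have hQuw : polar Q u w = 0 := by
    rw [polar, ← hQ, ← hQ, ← hQ, ← map_sub, ← map_sub]
    have : QL (u + w) - QL u - QL w = polar QL u w := rfl
    rw [this, huw, map_zero]
  have h1 : ρ (AutOrth.SemiSim.sg Q u w hQu hQuw) ∈ N := by rw [← hρ.range]; exact ⟨_, rfl⟩
  rw [← heq] at h1
  obtain ⟨g, hg⟩ := h1
  have h2 : (psi hG hL hQ g)⁻¹ * AutOrth.SemiSim.sg Q u w hQu hQuw ∈ Subgroup.center ↥(E Q) := by
    rw [← hρ.ker, MonoidHom.mem_ker, map_mul, map_inv, ← hg, MonoidHom.comp_apply, inv_mul_cancel]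
  obtain ⟨a, ha, h3⟩ := scal_of_center hG h2
  have h4 : ∀ v, (AutOrth.SemiSim.sg Q u w hQu hQuw : V ≃ₗ[F] V) v = a • (g : V ≃ₗ[L] V) v := by
    intro v
    have h5 := h3 v
    have h6 := congrArg (psi hG hL hQ g : V ≃ₗ[F] V) h5
    rw [map_smul] at h6
    have h7 : (psi hG hL hQ g : V ≃ₗ[F] V) ((((psi hG hL hQ g)⁻¹ *
        AutOrth.SemiSim.sg Q u w hQu hQuw : ↥(E Q)) : V ≃ₗ[F] V) v) =
        (AutOrth.SemiSim.sg Q u w hQu hQuw : V ≃ₗ[F] V) v :=
      (psi hG hL hQ g : V ≃ₗ[F] V).apply_symm_apply _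
    rw [h7] at h6
    exact h6
  have hcomm : ∀ v, (AutOrth.SemiSim.sg Q u w hQu hQuw : V ≃ₗ[F] V) (α • v) =
      α • (AutOrth.SemiSim.sg Q u w hQu hQuw : V ≃ₗ[F] V) v := by
    intro v
    rw [h4, h4, map_smul, smul_comm]
  -- evaluate
  obtain ⟨v, hv⟩ := hG.nondeg.exists_polar_ne hu0
  have h5 := hcomm v
  have hs : ∀ v, (AutOrth.SemiSim.sg Q u w hQu hQuw : V ≃ₗ[F] V) v =
      v + (polar Q u v • w - polar Q w v • u) := by
    intro v
    show siegel Q u w hQu hQuw v = _
    rw [siegel_apply, hQw]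
    module
  rw [hs, hs, smul_add] at h5
  have h6 := add_left_cancel h5
  have h7 : (algebraMap F L (polar Q u (α • v)) - α * algebraMap F L (polar Q u v)) • w =
      (algebraMap F L (polar Q w (α • v)) - α * algebraMap F L (polar Q w v)) • u := by
    rw [smul_sub, ← algebraMap_smul L (polar Q u (α • v)) w, ← algebraMap_smul L (polar Q w (α • v)) u,
      ← algebraMap_smul L (polar Q u v) w, ← algebraMap_smul L (polar Q w v) u] at h6
    linear_combination (norm := module) h6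
  by_cases h8 : algebraMap F L (polar Q u (α • v)) - α * algebraMap F L (polar Q u v) = 0
  · apply hα (polar Q u (α • v) / polar Q u v)
    have hv' : algebraMap F L (polar Q u v) ≠ 0 := by
      rwa [Ne, map_eq_zero]
    rw [map_div₀, eq_div_iff hv']
    exact (sub_eq_zero.1 h8).symm
  · apply hind ((algebraMap F L (polar Q u (α • v)) - α * algebraMap F L (polar Q u v))⁻¹ *
      (algebraMap F L (polar Q w (α • v)) - α * algebraMap F L (polar Q w v)))
    rw [mul_smul, ← h7, smul_smul, inv_mul_cancel₀ h8, one_smul]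

end conj

end Cfsg.Agent.H479.RC
end

-- part: H479/RC/DFive
section
/-!
# S3510, row F, box D5: bilinear structure over an extension field (helper479)
-/

set_option autoImplicit false
set_option linter.unusedSectionVars false
open Cfsg

namespace Cfsg.Agent.H479.RC

open QuadraticMap MulAction
open Cfsg.Agent.LieClassical.OrthCore Cfsg.Agent.LieClassical.OrthTrans
open Cfsg.Agent.LieClassical.OrthSimple Cfsg.Agent.ClassicalGeometry.OrthSemi
open Cfsg.Agent.ClassicalGeometry.OrthAut1 Cfsg.Agent.H106.RC Cfsg.Agent.H93.RC Cfsg.Agent.H188.RC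
open Cfsg.Agent.H138.RC

variable {F V L : Type} [Field F] [Finite F] [AddCommGroup V] [Module F V] [FiniteDimensional F V] [Field L]
  [Algebra F L] [Module L V] [IsScalarTower F L V] {Q : QuadraticForm F V} {QL : QuadraticForm L V}
  {l : L →ₗ[F] F}

/-- a linear semisimilitude is a similitude -/
theorem exists_mult (hG : Good Q) (M : Gam Q) (hM : IsLin M) :
    ∃ c : F, c ≠ 0 ∧ ∀ v w, polar Q (M.1 v) (M.1 w) = c * polar Q v w := by
  obtain ⟨σ, c, h⟩ := M.2
  have hnt : Nontrivial V := Module.nontrivial_of_finrank_pos (R := F) (by have := hG.dim; omega)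
  obtain ⟨v, hv⟩ := exists_ne (0 : V)
  have hv' : M.1 v ≠ 0 := by
    intro h0
    apply hv
    apply M.1.injective
    rw [h0, h.map_zero]
  have hσ : ∀ b, σ b = b := by
    intro b
    have h1 := hM b v
    rw [h.smul] at h1
    exact smul_left_injective F hv' h1
  refine ⟨c, h.ne, fun v w => ?_⟩
  rw [h.polar, hσ]

/-- members acting as scalars of `L` -/
theorem scal_member (hG : Good Q) {G Ω : Type*} [Group G] [MulAction G Ω] {N : Subgroup G} {ρ : ↥(E Q) →* G}
    (hE : Env G Ω N) (hρ : _root_.Cfsg.Agent.H93.RC.Rep Q N ρ) {x : G} {M : Gam Q} (hl : Lf ρ x M) (hM : IsLin M) (hx1 : x ≠ 1)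
    (hadj : ∀ (a : L) (v w : V), polar Q (a • v) w = polar Q v (a • w)) {a : L} (ha : ∀ v, M.1 v = a • v) :
    (∃ c : F, a * a = algebraMap F L c) ∧ (∀ b : F, a ≠ algebraMap F L b) ∧ x ^ 2 = 1 := by
  obtain ⟨c, hc, h1⟩ := exists_mult hG M hM
  have hnt : Nontrivial V := Module.nontrivial_of_finrank_pos (R := F) (by have := hG.dim; omega)
  have h2 : ∀ w : V, (a * a) • w = c • w := by
    intro w
    rw [← sub_eq_zero]
    apply hG.nondeg
    intro v
    have h3 := h1 v w
    rw [ha, ha, hadj, smul_smul] at h3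
    rw [polar_comm, polar_sub_right, h3, polar_smul_right, smul_eq_mul, sub_self]
  obtain ⟨w, hw⟩ := exists_ne (0 : V)
  have h3 : a * a = algebraMap F L c := by
    have h4 := h2 w
    rw [← algebraMap_smul L c w] at h4
    exact smul_left_injective L hw h4
  refine ⟨⟨c, h3⟩, ?_, ?_⟩
  · intro b hb
    apply hx1
    rw [hl.eq_one_iff hG hE hρ]
    refine ⟨b, ?_, fun v => ?_⟩
    · rintro rfl
      rw [hb, map_zero, mul_zero] at h3
      exact hc ((map_eq_zero _).1 h3.symm)
    · rw [ha, hb, algebraMap_smul]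
  · rw [(hl.pow 2).eq_one_iff hG hE hρ]
    refine ⟨c, hc, fun v => ?_⟩
    rw [pow_two]
    show M.1 (M.1 v) = _
    rw [ha, ha, smul_smul, h2]

/-- `-1` is a square if a square root of an element of `F` is not in `F` -/
theorem exists_sq {a : L} {c : F} (hac : a * a = algebraMap F L c) (ha : ∀ b : F, a ≠ algebraMap F L b) :
    (2 : F) ≠ 0 ∧ ∃ s : L, s * s = -1 := by
  have := Fintype.ofFinite F
  have hc : ¬ IsSquare c := by
    rintro ⟨d, hd⟩
    rw [hd, map_mul] at hac
    rcases mul_self_eq_mul_self_iff.1 hac with h | h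
    · exact ha d h
    · exact ha (-d) (by rw [map_neg]; exact h)
  have h2 : (2 : F) ≠ 0 := by
    intro h2
    apply hc
    exact FiniteField.isSquare_of_char_two (CharP.ringChar_of_prime_eq_zero Nat.prime_two (by exact_mod_cast h2)) c
  refine ⟨h2, ?_⟩
  have h2' : ringChar F ≠ 2 := by
    intro h
    apply h2
    have := ringChar.spec F 2
    rw [h] at this
    exact_mod_cast this.2 (dvd_refl 2)
  have hc0 : c ≠ 0 := by rintro rfl; exact hc ⟨0, by simp⟩
  by_cases h1 : IsSquare (-1 : F)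
  · obtain ⟨d, hd⟩ := h1
    exact ⟨algebraMap F L d, by rw [← map_mul, ← hd, map_neg, map_one]⟩
  · have h3 : IsSquare (-1 * c) := by
      rw [FiniteField.isSquare_iff h2' (by simpa using hc0), mul_pow]
      have h4 := FiniteField.pow_dichotomy h2' hc0
      have h5 := FiniteField.pow_dichotomy h2' (neg_ne_zero.2 (one_ne_zero (α := F)))
      rw [FiniteField.isSquare_iff h2' hc0] at hc
      rw [FiniteField.isSquare_iff h2' (neg_ne_zero.2 one_ne_zero)] at h1
      rw [h4.resolve_left hc, h5.resolve_left h1]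
      norm_num
    obtain ⟨d, hd⟩ := h3
    have ha0 : a ≠ 0 := by
      rintro rfl
      rw [mul_zero] at hac
      exact hc0 ((map_eq_zero _).1 hac.symm)
    refine ⟨algebraMap F L d / a, ?_⟩
    rw [div_mul_div_comm, ← map_mul, ← hd, hac, map_mul, map_neg, map_one, neg_mul, one_mul, neg_div, div_self]
    rwa [Ne, map_eq_zero]

/-- **Box D5**, abstract form. -/
theorem box_D5_of {G Ω : Type} [Group G] [Finite G] [MulAction G Ω] [Nonempty Ω] {N : Subgroup G}
    {ρ : ↥(E Q) →* G} [Finite L] (hG : Good Q) (hE : Env G Ω N) (hρ : _root_.Cfsg.Agent.H93.RC.Rep Q N ρ) (hIH : IH (Nat.card (P Q)))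
    {p : ℕ} [CharP F p] (hLR : LR Q Ω ρ p) {ι : Type} [Finite ι] {x : ι → G} {M : ι → Gam Q} {r : ι → ℕ}
    (hl : ∀ i, Lf ρ (x i) (M i)) (hlin : ∀ i, IsLin (M i)) (hx : PF x r) (hcov : Cov Ω x)
    (hL : Good QL) (hQ : ∀ v, l (QL v) = Q v) (α : L) (hα : ∀ a : F, α ≠ algebraMap F L a)
    (hsim : ∀ i, ∃ ML : Gam QL, (M i).1 = ML.1)
    (hadj : ∀ (a : L) (v w : V), polar Q (a • v) w = polar Q v (a • w)) : False := by
  have hfd : FiniteDimensional L V := Module.Finite.of_restrictScalars_finite F L V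
  have hfinP : Finite (P Q) := Cfsg.Agent.H236.RC.finite_P
  have hfinPL : Finite (P QL) := Cfsg.Agent.H236.RC.finite_P
  let φ : ↥(E QL) →* G := ρ.comp (psi hG hL hQ)
  obtain ⟨π, hπ, hker, -⟩ := exists_pi φ (ker_comp hG hL hQ hρ)
  have hMN : φ.range ≤ N := by
    rw [← hρ.range]
    rintro _ ⟨g, rfl⟩
    exact ⟨_, rfl⟩
  have hne : φ.range ≠ N := range_ne hG hL hQ hρ α hα
  obtain ⟨h1, h2, h3, h4⟩ := Cfsg.Agent.H236.RC.box_id hL
  have h4' : ¬ Exc (P QL) := by
    refine h4.resolve_left ?_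
    rintro ⟨hcard, -⟩
    obtain ⟨b, hb⟩ : ∃ b : F, algebraMap F L b = α := by
      have h5 : Function.Bijective (algebraMap F L) := by
        have : Nat.card F ≤ Nat.card L := Nat.card_le_card_of_injective _ (algebraMap F L).injective
        have h6 : 1 < Nat.card F := Finite.one_lt_card
        exact (Nat.bijective_iff_injective_and_card _).2 ⟨(algebraMap F L).injective, by omega⟩
      exact h5.2 α
    exact hα b hb.symm
  have eN : Nonempty (N ≃* P Q) := by
    rw [← hρ.range]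
    exact ⟨((QuotientGroup.quotientMulEquivOfEq hρ.ker.symm).trans
      (QuotientGroup.quotientKerEquivRange ρ)).symm⟩
  obtain ⟨eN⟩ := eN
  have hrule := mrule_IH hIH eN hMN hne (range_perfect φ (commutator_E hL)) π hπ hker h1 h2 h3 h4' hx hcov
    (fun i => by
      obtain ⟨ML, hML⟩ := hsim i
      exact mem_norm hG hL hQ (hl i) ML hML) (Ω := Ω)
  have hscal : ∀ j, (∀ m ∈ φ.range, x j * m = m * x j) → ∃ a : L, ∀ v, (M j).1 v = a • v := by
    intro j hj
    obtain ⟨ML, hML⟩ := hsim j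
    obtain ⟨a, -, ha⟩ := scal_of_cent hG hL hQ hρ (hl j) ML hML hj
    exact ⟨a, ha⟩
  by_cases hJ : ∃ j, ∀ m ∈ φ.range, x j * m = m * x j
  · obtain ⟨j, hj⟩ := hJ
    obtain ⟨a, ha⟩ := hscal j hj
    obtain ⟨⟨c, hc⟩, haF, hx2⟩ := scal_member hG hE hρ (hl j) (hlin j) (hx.ne j) hadj ha
    obtain ⟨hF2, s, hs⟩ := exists_sq hc haF
    have hr2 : ∀ k, (∀ m ∈ φ.range, x k * m = m * x k) → r k = 2 := by
      intro k hk
      obtain ⟨b, hb⟩ := hscal k hk
      obtain ⟨-, -, hk2⟩ := scal_member hG hE hρ (hl k) (hlin k) (hx.ne k) hadj hb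
      have h5 : orderOf (x k) = r k := (orderOf_eq_prime_iff (hp := ⟨hx.prime k⟩)).2 ⟨hx.pow k, hx.ne k⟩
      have h6 := orderOf_dvd_of_pow_eq_one hk2
      rw [h5] at h6
      exact (Nat.prime_dvd_prime_iff_eq (hx.prime k) Nat.prime_two).1 h6
    have hp2 : p ≠ 2 := by
      rintro rfl
      exact hF2 (by exact_mod_cast CharP.cast_eq_zero F 2)
    -- the involution of `M`
    obtain ⟨e, f, hef⟩ := hL.exists_hyp
    have hs0 : s ≠ 0 := by
      rintro rfl
      rw [mul_zero] at hs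
      exact one_ne_zero (neg_eq_zero.1 hs.symm)
    let y : V ≃ₗ[L] V := H140.OreO.hsc hef (Units.mk0 s hs0 * Units.mk0 s hs0)
    have hyE : y ∈ E QL := by
      rw [← hL.commutator_eq_E]
      exact H140.OreO.hsc_sq hL hef _
    have hy : ∀ v, y v = v + (((-1 : L) - 1) * polar QL f v) • e + (((-1 : L) - 1) * polar QL e v) • f := by
      intro v
      have h5 : ((Units.mk0 s hs0 * Units.mk0 s hs0 : Lˣ) : L) = -1 := by
        rw [Units.val_mul, Units.val_mk0, hs]
      have h6 : (((Units.mk0 s hs0 * Units.mk0 s hs0 : Lˣ)⁻¹ : Lˣ) : L) = -1 := by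
        rw [Units.val_inv_eq_inv_val, h5, inv_neg, inv_one]
      show H140.OreO.hsc hef _ v = _
      rw [H140.OreO.hsc_apply, h5, h6]
      abel
    have hye : y e = -e := by
      rw [hy, hef.pair', polar_self, hef.left]
      simp only [mul_one, smul_zero, mul_zero, zero_smul, add_zero]
      module
    let m : G := φ ⟨y, hyE⟩
    have hm : m ∈ φ.range := ⟨_, rfl⟩
    have hyy : ∀ v, y (y v) = v := by
      intro v
      have h5 : y * y = 1 := by
        show H140.OreO.hsc hef _ * H140.OreO.hsc hef _ = 1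
        rw [← map_mul]
        have h6 : (Units.mk0 s hs0 * Units.mk0 s hs0) * (Units.mk0 s hs0 * Units.mk0 s hs0) = (1 : Lˣ) := by
          apply Units.ext
          rw [Units.val_mul, Units.val_mul, Units.val_mk0, hs, Units.val_one]
          ring
        rw [h6, map_one]
      exact LinearEquiv.congr_fun h5 v
    have hm2 : m ^ 2 = 1 := by
      rw [← map_pow]
      have h5 : (⟨y, hyE⟩ : ↥(E QL)) ^ 2 = 1 := by
        rw [pow_two]
        apply Subtype.ext
        apply LinearEquiv.ext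
        intro v
        exact hyy v
      rw [h5, map_one]
    have hlm : Lf ρ m (tg Q (psi hG hL hQ ⟨y, hyE⟩)) := Lf.tg _
    have hmv : ∀ v, (tg Q (psi hG hL hQ ⟨y, hyE⟩)).1 v = y v := fun v => rfl
    have h2L : (2 : L) ≠ 0 := by
      have h5 : algebraMap F L 2 ≠ 0 := by rwa [Ne, map_eq_zero]
      rwa [map_ofNat] at h5
    have he0 : e ≠ 0 := by
      rintro rfl
      have h5 := hef.pair
      rw [polar_zero_left] at h5
      exact zero_ne_one h5
    have hm1 : m ≠ 1 := by
      rw [Ne, hlm.eq_one_iff hG hE hρ]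
      rintro ⟨b, hb0, hb⟩
      obtain ⟨w, hw0, -, hw1, hw2⟩ := hL.perp e f hef
      have h5 := hb e
      have h6 := hb w
      rw [hmv, hye] at h5
      rw [hmv, hy, hw1, hw2, mul_zero, zero_smul, zero_smul, add_zero, add_zero] at h6
      have hb1 : (1 : L) = algebraMap F L b := by
        apply smul_left_injective L hw0
        show (1 : L) • w = algebraMap F L b • w
        rw [one_smul, algebraMap_smul]; exact h6
      have hb2 : (-1 : L) = algebraMap F L b := by
        apply smul_left_injective L he0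
        show (-1 : L) • e = algebraMap F L b • e
        rw [neg_smul, one_smul, algebraMap_smul]; exact h5
      apply h2L
      linear_combination hb1 - hb2
    -- the plane
    have hQe : Q e = 0 := by rw [← hQ, hef.left, map_zero]
    have hQae : Q (a • e) = 0 := by rw [← hQ, QuadraticMap.map_smul, hef.left, smul_zero, map_zero]
    have hQeae : polar Q e (a • e) = 0 := by
      have h5 : Q (e + a • e) = 0 := by
        have h6 : e + a • e = (1 + a) • e := by module
        rw [h6, ← hQ, QuadraticMap.map_smul, hef.left, smul_zero, map_zero]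
      rw [polar, h5, hQe, hQae]; simp
    have hind : ∀ b : F, a • e ≠ b • e := by
      intro b hb
      apply haF b
      apply smul_left_injective L he0
      show a • e = algebraMap F L b • e
      rw [algebraMap_smul]; exact hb
    have hspan : ∀ v ∈ Submodule.span F {e, a • e}, y v = -v ∧ a • v ∈ Submodule.span F {e, a • e} := by
      intro v hv
      obtain ⟨b, d, rfl⟩ := Submodule.mem_span_pair.1 hv
      have h5 : b • e + d • a • e = (algebraMap F L b + algebraMap F L d * a) • e := by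
        rw [add_smul, mul_smul, algebraMap_smul, algebraMap_smul]
      constructor
      · rw [h5, map_smul, hye, smul_neg]
      · rw [smul_add, smul_comm a b, smul_comm a d, smul_smul, hc, algebraMap_smul]
        refine Submodule.add_mem _ (Submodule.smul_mem _ _ (Submodule.subset_span (Or.inr rfl)))
          (Submodule.smul_mem _ _ (Submodule.smul_mem _ _ (Submodule.subset_span (Or.inl rfl))))
    refine hLR Bool (y := fun b => if b then m else x j) (L := fun b => if b then tg Q (psi hG hL hQ ⟨y, hyE⟩) else M j)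
      (s := fun _ => 2) ?_ (fun _ => Nat.prime_two) (fun _ => hp2.symm) ?_ ?_ ?_ hQe hQae hQeae he0 hind ?_ ?_
    · rintro (_ | _)
      · exact hl j
      · exact hlm
    · rintro (_ | _)
      · exact hx2
      · exact hm2
    · rintro (_ | _)
      · exact hx.ne j
      · exact hm1
    · rintro (_ | _) (_ | _)
      · rfl
      · exact hj m hm
      · exact (hj m hm).symm
      · rfl
    · rintro (_ | _) v hv
      · show (M j).1 v ∈ _
        rw [ha]
        exact (hspan v hv).2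
      · show y v ∈ _
        rw [(hspan v hv).1]
        exact Submodule.neg_mem _ hv
    · intro ω
      right
      rcases Cov.ofM hrule hm ω with h5 | ⟨k, hk, h5⟩
      · exact ⟨true, h5⟩
      · have h6 : k = j := hx.inj ((hr2 k hk).trans (hr2 j hj).symm)
        rw [h6] at h5
        exact ⟨false, h5⟩
  · push Not at hJ
    refine no_cent hE hrule (fun j hj => ?_) ?_
    · obtain ⟨m, hm, h5⟩ := hJ j
      exact h5 (hj m hm)
    · intro hbot
      apply h2
      have : Subsingleton φ.range := by rw [hbot]; infer_instance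
      have : Subsingleton (P QL) := hπ.subsingleton
      exact ⟨⟨fun a b => Subsingleton.elim _ _⟩⟩

end Cfsg.Agent.H479.RC
end

-- part: H479/RC/BoxD5
section
/-!
# S3510, row F, n even: box D5 (helper479)
-/

set_option autoImplicit false
open Cfsg

namespace Cfsg.Agent.H479.RC

open QuadraticMap MulAction
open Cfsg.Agent.LieClassical.OrthCore Cfsg.Agent.LieClassical.OrthTrans
open Cfsg.Agent.LieClassical.OrthSimple Cfsg.Agent.ClassicalGeometry.OrthSemi
open Cfsg.Agent.ClassicalGeometry.OrthAut1 Cfsg.Agent.H106.RC Cfsg.Agent.H93.RC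

variable {F V : Type} [Field F] [Finite F] [AddCommGroup V] [Module F V] [FiniteDimensional F V]
  {Q : QuadraticForm F V} {G Ω : Type} [Group G] [Finite G] [MulAction G Ω] [Nonempty Ω]
  {N : Subgroup G} {ρ : ↥(E Q) →* G}

/-- BOX D5 (bilinear structure over `L = F[κ]`, `dim_L V ≥ 5`). -/
theorem box_D5 (hG : Good Q) (hE : Env G Ω N) (hρ : _root_.Cfsg.Agent.H93.RC.Rep Q N ρ) (hIH : IH (Nat.card (P Q)))
    {p : ℕ} [CharP F p] {ι : Type} [Finite ι] {x : ι → G} {M : ι → Gam Q} {r : ι → ℕ}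
    (hl : ∀ i, Lf ρ (x i) (M i)) (hlin : ∀ i, IsLin (M i)) (hx : PF x r) (hcov : Cov Ω x)
    (h10 : 10 ≤ Module.finrank F V) (κ : V →ₗ[F] V) (s t : F)
    (hκ : ∀ v, κ (κ v) = s • κ v - t • v) (hirr : ∀ a : F, a * a - s * a + t ≠ 0)
    (hadj : ∀ v w, polar Q (κ v) w = polar Q v (κ w))
    (h2 : (2 : F) = 0 → ∀ v, polar Q v (κ v) = 0)
    (hcom : ∀ i v, (M i).1 (κ v) = κ ((M i).1 v)) : False := by
  obtain ⟨K, _, _, _, _, _, α, hcard, hα, hgen⟩ := H457.RC.exists_K (fun x => by rw [pow_two]; exact hirr x) κ hκ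
  have hself : ∀ v w, polar Q (α • v) w = polar Q v (α • w) := fun v w => by rw [hα, hα, hadj]
  obtain ⟨R, l, hKF⟩ := H457.RC.exists_KF hgen hself
  have hRn := hKF.nondeg hG.nondeg
  have hfd : FiniteDimensional K V := Module.Finite.of_restrictScalars_finite F K V
  have h5 : 5 ≤ Module.finrank K V := by
    have := H457.RC.finrank_K (F := F) (K := K) (V := V) hcard
    omega
  have hR : Good R := Cfsg.Agent.LieClassical.OrthFinite.good_of_finite hRn h5
  refine box_D5_of (p := p) hG hE hρ hIH ?_ hl hlin hx hcov hR hKF.form α hgen.notMem ?_ (hgen.self hself)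
  · intro κ' _ y L s' h1 h2 h3 h4 h5 h6 u w hu hw huw hu0 hind hL hc
    exact H297.RC.box_LR hG hE hρ h1 h2 h3 h4 h5 h6 hu hw huw hu0 hind hL hc
  · intro i
    have hsm : ∀ (a : K) (v : V), (M i).1 (a • v) = a • (M i).1 v :=
      hgen.linear (fun u v => add_of_mem (M i).2 u v) (fun a v => hlin i a v)
        (fun v => by rw [hα, hα, hcom])
    obtain ⟨σ, c, hM⟩ := (M i).2
    have hnt : Nontrivial V := Module.nontrivial_of_finrank_pos (R := F) (by omega)
    obtain ⟨v, hv⟩ := exists_ne (0 : V)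
    have hv' : (M i).1 v ≠ 0 := by
      intro h0
      apply hv
      apply (M i).1.injective
      rw [h0, hM.map_zero]
    have hσ : ∀ b, σ b = b := by
      intro b
      have h1 := hlin i b v
      rw [hM.smul] at h1
      exact smul_left_injective F hv' h1
    have hQM : ∀ v, Q ((M i).1 v) = c * Q v := by
      intro v
      rw [hM.form, hσ]
    have hRM := hKF.sim (M i).1 c hsm hQM
    refine ⟨⟨(M i).1, ⟨RingEquiv.refl K, algebraMap F K c, ⟨?_, hM.add, hsm, hRM⟩⟩⟩, rfl⟩
    rw [Ne, map_eq_zero]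
    exact hM.ne

end Cfsg.Agent.H479.RC
end

-- part: H237/RC/E0
section
/-!
# S3510, orthogonal rows, even part, box E0: the norm form of a linear lift
-/

set_option autoImplicit false
open Cfsg

namespace Cfsg.Agent.H237.RC

open QuadraticMap MulAction
open Cfsg.Agent.LieClassical.OrthCore Cfsg.Agent.LieClassical.OrthTrans
open Cfsg.Agent.LieClassical.OrthSimple Cfsg.Agent.ClassicalGeometry.OrthSemi
open Cfsg.Agent.ClassicalGeometry.OrthAut1 Cfsg.Agent.H106.RC Cfsg.Agent.H93.RC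

variable {F V : Type*} [Field F] [AddCommGroup V] [Module F V] {Q : QuadraticForm F V}

/-- a linear semisimilitude as a linear equivalence -/
def linOf (M : Gam Q) (hM : IsLin M) : V ≃ₗ[F] V where
  toFun := M.1
  invFun := M.1.symm
  map_add' := add_of_mem M.2
  map_smul' := hM
  left_inv := M.1.symm_apply_apply
  right_inv := M.1.apply_symm_apply

theorem linOf_apply (M : Gam Q) (hM : IsLin M) (v : V) : linOf M hM v = M.1 v := rfl

theorem linOf_pow_apply (M : Gam Q) (hM : IsLin M) (n : ℕ) (v : V) :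
    (linOf M hM ^ n) v = (M ^ n).1 v := by
  induction n generalizing v with
  | zero => rfl
  | succ n ih =>
    rw [pow_succ, pow_succ]
    show (linOf M hM ^ n) (linOf M hM v) = (M ^ n).1 (M.1 v)
    rw [ih, linOf_apply]

/-- the multiplier of a linear semisimilitude -/
theorem exists_mult (hG : Good Q) (M : Gam Q) (hM : IsLin M) :
    ∃ c : F, c ≠ 0 ∧ ∀ v, Q (M.1 v) = c * Q v := by
  obtain ⟨σ, c, h⟩ := M.2
  refine ⟨c, h.ne, fun v => ?_⟩
  obtain ⟨x, hx0, hx⟩ := hG.sing
  have hσ : ∀ a : F, σ a = a := by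
    intro a
    have h1 := h.smul a x
    rw [hM a x] at h1
    have h2 : M.1 x ≠ 0 := by
      intro h0
      rw [← h.map_zero] at h0
      exact hx0 (M.1.injective h0)
    exact (smul_left_injective F h2 h1).symm
  rw [h.form, hσ]

theorem Q_pow {M : Gam Q} {c : F} (hc : ∀ v, Q (M.1 v) = c * Q v) (n : ℕ) (v : V) :
    Q ((M ^ n).1 v) = c ^ n * Q v := by
  induction n generalizing v with
  | zero => rw [pow_zero, pow_zero, one_mul]; rfl
  | succ n ih =>
    rw [pow_succ]
    show Q ((M ^ n).1 (M.1 v)) = _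
    rw [ih, hc, pow_succ, mul_assoc]

theorem exists_ns (hG : Good Q) : ∃ v : V, Q v ≠ 0 := by
  obtain ⟨x, y, h⟩ := hG.exists_hyp
  refine ⟨x + y, ?_⟩
  rw [Q_add, h.left, h.right, h.pair, zero_add, zero_add]
  exact one_ne_zero

/-- division by a scalar `a` with `a² = c` and `a ^ r = μ` -/
theorem of_root (M : Gam Q) (hM : IsLin M) {c a μ : F} {r : ℕ}
    (hc : ∀ v, Q (M.1 v) = c * Q v) (hμ : ∀ v, (M ^ r).1 v = μ • v) (ha : a ≠ 0)
    (h2 : a * a = c) (hr : a ^ r = μ) :
    ∃ (T : V ≃ₗ[F] V) (a : F), T ∈ O Q ∧ T ^ r = 1 ∧ a ≠ 0 ∧ ∀ v, M.1 v = a • T v := by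
  let s : V ≃ₗ[F] V := LinearEquiv.smulOfNeZero F V a⁻¹ (inv_ne_zero ha)
  have hs : ∀ v, s v = a⁻¹ • v := fun v => rfl
  let T : V ≃ₗ[F] V := s * linOf M hM
  have hT : ∀ v, T v = a⁻¹ • M.1 v := fun v => rfl
  have hTn : ∀ (n : ℕ) (v : V), (T ^ n) v = (a⁻¹) ^ n • (M ^ n).1 v := by
    intro n
    induction n with
    | zero => intro v; rw [pow_zero, pow_zero, one_smul]; rfl
    | succ n ih =>
      intro v
      rw [pow_succ]
      show (T ^ n) (T v) = _
      rw [ih, hT]
      have h3 : (M ^ n).1 (a⁻¹ • M.1 v) = a⁻¹ • (M ^ (n + 1)).1 v := by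
        rw [← linOf_pow_apply M hM, map_smul, linOf_pow_apply M hM, pow_succ]
        rfl
      rw [h3, smul_smul, ← pow_succ]
  refine ⟨T, a, ?_, ?_, ha, ?_⟩
  · intro v
    rw [hT, QuadraticMap.map_smul, hc, ← h2, smul_eq_mul]
    field_simp
  · ext v
    rw [hTn, hμ, smul_smul, ← hr, inv_pow, inv_mul_cancel₀ (pow_ne_zero r ha), one_smul]
    rfl
  · intro v
    rw [hT, smul_smul, mul_inv_cancel₀ ha, one_smul]

/-- BOX E0 (norm form of a linear lift, `n` even). -/
theorem box_E0 {F V : Type*} [Field F] [Finite F] [AddCommGroup V] [Module F V]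
    {Q : QuadraticForm F V}
    (hG : Good Q) {p : ℕ} [CharP F p] (M : Gam Q) (hM : IsLin M) {r : ℕ} (hr : r.Prime)
    (hpow : IsScal (M ^ r)) :
    (∃ (T : V ≃ₗ[F] V) (a : F), T ∈ O Q ∧ T ^ r = 1 ∧ a ≠ 0 ∧ ∀ v, M.1 v = a • T v) ∨
    (r = 2 ∧ p ≠ 2 ∧ ∃ c : F, c ≠ 0 ∧ (∀ v, M.1 (M.1 v) = c • v) ∧
      ((∀ v, Q (M.1 v) = -c * Q v) ∨ ((∀ v, Q (M.1 v) = c * Q v) ∧ ¬ IsSquare c))) := by
  obtain ⟨c, hc0, hc⟩ := exists_mult hG M hM
  obtain ⟨μ, hμ0, hμ⟩ := hpow
  obtain ⟨v, hv⟩ := exists_ns hG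
  have h1 : c ^ r = μ ^ 2 := by
    have h2 := Q_pow hc r v
    rw [hμ, QuadraticMap.map_smul, smul_eq_mul] at h2
    have h3 := mul_right_cancel₀ hv h2
    rw [pow_two]
    exact h3.symm
  rcases hr.eq_two_or_odd' with h2 | ⟨k, hk⟩
  · subst h2
    have hμ2 : ∀ v, M.1 (M.1 v) = μ • v := by
      intro v
      rw [← hμ v, pow_two]
      rfl
    have h3 : (c - μ) * (c + μ) = 0 := by linear_combination h1
    rcases mul_eq_zero.1 h3 with h4 | h4
    · have h5 : c = μ := by linear_combination h4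
      by_cases hsq : IsSquare μ
      · obtain ⟨a, ha⟩ := hsq
        have ha0 : a ≠ 0 := by
          rintro rfl
          exact hμ0 (by rw [ha, mul_zero])
        exact Or.inl (of_root M hM hc hμ ha0 (by rw [h5, ha]) (by rw [pow_two, ha]))
      · refine Or.inr ⟨rfl, ?_, μ, hμ0, hμ2, Or.inr ⟨?_, hsq⟩⟩
        · rintro rfl
          exact hsq (FiniteField.isSquare_of_char_two (CharP.ringChar_of_prime_eq_zero
            Nat.prime_two (by
              have := CharP.cast_eq_zero F 2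
              exact this)) μ)
        · intro v
          rw [hc, h5]
    · have h5 : c = -μ := by linear_combination h4
      by_cases hp : p = 2
      · subst hp
        have hneg : c = μ := by
          rw [h5]
          exact CharTwo.neg_eq μ
        obtain ⟨a, ha⟩ : IsSquare μ := FiniteField.isSquare_of_char_two
          (CharP.ringChar_of_prime_eq_zero Nat.prime_two (by
            have := CharP.cast_eq_zero F 2
            exact this)) μ
        have ha0 : a ≠ 0 := by
          rintro rfl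
          exact hμ0 (by rw [ha, mul_zero])
        exact Or.inl (of_root M hM hc hμ ha0 (by rw [hneg, ha]) (by rw [pow_two, ha]))
      · refine Or.inr ⟨rfl, hp, μ, hμ0, hμ2, Or.inl ?_⟩
        intro v
        rw [hc, h5]
  · left
    have hck : c ^ k ≠ 0 := pow_ne_zero k hc0
    have e1 : μ / c ^ k * (μ / c ^ k) = c := by
      rw [div_mul_div_comm, div_eq_iff (mul_ne_zero hck hck), ← pow_two, ← h1, hk, pow_succ,
        pow_mul]
      ring
    refine of_root M hM hc hμ (a := μ / c ^ k) (div_ne_zero hμ0 hck) e1 ?_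
    have e2 : (μ / c ^ k) ^ r = (μ / c ^ k * (μ / c ^ k)) ^ k * (μ / c ^ k) := by
      rw [hk, pow_succ, pow_mul, pow_two]
    rw [e2, e1]
    field_simp

end Cfsg.Agent.H237.RC
end

-- part: H273/RC/FevE5
section
/-!
# S3510, row F, even dimension: box E5 (helper273)

`e5` : no `p`-element, an invariant nondegenerate decomposition: contradiction, given the cases (3) and (4).
-/

set_option autoImplicit false
set_option linter.unusedSectionVars false
open Cfsg

namespace Cfsg.Agent.H273.RC.Fev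

open QuadraticMap MulAction Module
open Cfsg.Agent.LieClassical.OrthCore Cfsg.Agent.LieClassical.OrthTrans
open Cfsg.Agent.LieClassical.OrthSimple Cfsg.Agent.ClassicalGeometry.OrthSemi
open Cfsg.Agent.ClassicalGeometry.OrthAut1 Cfsg.Agent.H106.RC Cfsg.Agent.H93.RC
open Cfsg.Agent.H138.RC Cfsg.Agent.H955

variable {F V G Ω : Type} [Field F] [Finite F] [AddCommGroup V] [Module F V] [FiniteDimensional F V]
  {Q : QuadraticForm F V} [Group G] [Finite G] [MulAction G Ω] [Nonempty Ω]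
  {N : Subgroup G} {ρ : ↥(E Q) →* G}

theorem card_rep (hρ : _root_.Cfsg.Agent.H93.RC.Rep Q N ρ) : Nat.card (P Q) = Nat.card N := by
  rw [← hρ.range]
  exact Nat.card_congr ((QuotientGroup.quotientMulEquivOfEq hρ.ker.symm).trans
    (QuotientGroup.quotientKerEquivRange ρ)).toEquiv

/-- the environment, for isometries -/
theorem cv_of (hG : Good Q) (hE : Env G Ω N) (hρ : _root_.Cfsg.Agent.H93.RC.Rep Q N ρ) (hIH : IH (Nat.card (P Q))) {p : ℕ}
    (hLR : LR Q Ω ρ p) {ι : Type} {x : ι → G} {M : ι → Gam Q} {r : ι → ℕ}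
    (hl : ∀ i, Lf ρ (x i) (M i)) (hx : PF x r) (hcov : Cov Ω x) {T : ι → V ≃ₗ[F] V} (hTQ : ∀ i v, Q (T i v) = Q v)
    (hTM : ∀ i v, (M i).1 v = T i v) (hTc : ∀ i j, T i * T j = T j * T i) :
    CV Q Ω N ρ p x M T (fun _ => 1) r where
  good := hG
  env := hE
  rep := hρ
  lr := hLR
  ih := by rw [← card_rep hρ]; exact hIH
  prime := hx.prime
  pow := hx.pow
  ne := hx.ne
  comm := hx.comm
  cov := hcov
  lf := hl
  lin := hTM
  sim := fun i v => by rw [hTQ, one_mul]
  commX := hTc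

/-- **box E5**, up to the cases (3) and (4) -/
theorem e5 {p : ℕ} {ι : Type} [Finite ι] {x : ι → G} {M : ι → Gam Q} {T : ι → V ≃ₗ[F] V} {c : ι → F} {r : ι → ℕ}
    (h : CV Q Ω N ρ p x M T c r) (hinj : Function.Injective r) (hTQ : ∀ i v, Q (T i v) = Q v)
    (hTr : ∀ i, T i ^ r i = 1) (h8 : 8 ≤ finrank F V) (heven : Even (finrank F V)) [CharP F p]
    (hD : ∃ D : Submodule F V, D ≠ ⊥ ∧ D ≠ ⊤ ∧ Nondeg (res Q D) ∧ ∀ i, ∀ v ∈ D, T i v ∈ D)
    (hp : ∀ i, r i ≠ p)
    (h3 : ∀ D : Submodule F V, finrank F V = 8 → finrank F D = 4 → Nondeg (res Q D) →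
      (∀ i, ∀ v ∈ D, T i v ∈ D) → (∀ W : Submodule F V, Nondeg (res Q W) → (∀ i, ∀ v ∈ W, T i v ∈ W) → W ≠ ⊥ →
        4 ≤ finrank F W) → False)
    (h4 : ∀ D : Submodule F V, Nat.card F = 2 → finrank F V = 8 → finrank F D = 2 → Nondeg (res Q D) →
      (∀ i, ∀ v ∈ D, T i v ∈ D) → (∃ U ≤ perp Q D, (∀ v ∈ U, Q v = 0) ∧ finrank F U = 3) →
      ∀ i j, i ≠ j → (∃ v ∈ perp Q D, T i v ≠ v) → (∃ v ∈ perp Q D, T j v ≠ v) → False) : False := by
  classical
  have hQ := h.good.nondeg
  obtain ⟨i₀⟩ : Nonempty ι := by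
    obtain ⟨ω⟩ := ‹Nonempty Ω›
    exact ⟨(h.cov ω).choose⟩
  -- a minimal subspace
  obtain ⟨D, hD0, hDt, hDn, hDi, hmin⟩ : ∃ D : Submodule F V, D ≠ ⊥ ∧ D ≠ ⊤ ∧ Nondeg (res Q D) ∧
      (∀ i, ∀ v ∈ D, T i v ∈ D) ∧ ∀ W : Submodule F V, Nondeg (res Q W) → (∀ i, ∀ v ∈ W, T i v ∈ W) → W ≠ ⊥ →
        finrank F D ≤ finrank F W := by
    have hex : ∃ n, ∃ D : Submodule F V, Nondeg (res Q D) ∧ (∀ i, ∀ v ∈ D, T i v ∈ D) ∧ D ≠ ⊥ ∧
        finrank F D = n := by
      obtain ⟨D, a, -, b, c⟩ := hD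
      exact ⟨_, D, b, c, a, rfl⟩
    obtain ⟨D, a, b, c, d⟩ := Nat.find_spec hex
    have hm : ∀ W : Submodule F V, Nondeg (res Q W) → (∀ i, ∀ v ∈ W, T i v ∈ W) → W ≠ ⊥ →
        finrank F D ≤ finrank F W := by
      intro W hW hWi hW0
      rw [d]
      exact Nat.find_min' hex ⟨W, hW, hWi, hW0, rfl⟩
    refine ⟨D, c, ?_, a, b, hm⟩
    rintro rfl
    obtain ⟨D', a', b', c', d'⟩ := hD
    have h1 := hm D' c' d' a'
    have h2 := Submodule.finrank_lt b'
    rw [finrank_top] at h1
    omega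
  have hsum := finrank_add_perp hQ D
  have hD'n := nondeg_perp hQ hDn
  have hD'i : ∀ i, ∀ v ∈ perp Q D, T i v ∈ perp Q D := fun i => perp_inv (hTQ i) (hDi i)
  have hDlt := Submodule.finrank_lt hDt
  have hDpos : finrank F D ≠ 0 := fun h0 => hD0 (Submodule.finrank_eq_zero.1 h0)
  have hD'0 : perp Q D ≠ ⊥ := by
    intro h0
    rw [h0, finrank_bot] at hsum
    omega
  have hDD' := hmin _ hD'n hD'i hD'0
  have hD'4 : 4 ≤ finrank F (perp Q D) := by omega
  by_cases hsc : ∀ i, ∃ a : F, ∀ v ∈ perp Q D, T i v = a • v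
  · -- case (2): all scalar on `D'`
    choose a ha using hsc
    obtain ⟨P, hPD, hPn, hP2, hex⟩ : ∃ P ≤ perp Q D, Nondeg (res Q P) ∧ finrank F P = 2 ∧
        ¬ (Nat.card F = 2 ∧ finrank F (perp Q P) = 6 ∧
          ∃ U : Submodule F (perp Q P), (∀ v ∈ U, Q (v : V) = 0) ∧ finrank F U = 3) := by
      by_cases hF : Nat.card F = 2
      · obtain ⟨P, hPD, hPn, hP2, hnp⟩ := exists_plane_two hF hQ hD'n hD'4
        refine ⟨P, hPD, hPn, hP2, ?_⟩
        rintro ⟨-, h6, U, hU, hU3⟩
        exact hnp ⟨U, hU, by rw [hU3, h6]⟩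
      · obtain ⟨x, hxD, hx0, hx⟩ := Cfsg.Agent.LieClassical.OrthFinite.exists_sing_mem (Q := Q) (perp Q D) (by omega)
        obtain ⟨⟨y, hyD⟩, hxy⟩ := Cfsg.Agent.LieClassical.OrthTrans.exists_hyp (Q := res Q (perp Q D))
          (x := ⟨x, hxD⟩) hD'n hx (fun h => hx0 (congrArg Subtype.val h))
        have hp : polar Q x y = 1 := hxy.pair
        have h1 := plane_nondeg (Q := Q) (x := x) (y := y) (by
          rw [hp, hx, mul_zero, zero_mul, one_pow]
          exact zero_ne_one)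
        refine ⟨Submodule.span F {x, y}, ?_, h1.1, h1.2, fun h => hF h.1⟩
        rw [Submodule.span_le]
        rintro z (rfl | rfl)
        · exact hxD
        · exact hyD
    have hPs := finrank_add_perp hQ P
    have hDP : D ≤ perp Q P := by
      intro d hd v hv
      exact mem_perp'.1 (hPD hv) d hd
    have hPi : ∀ i, ∀ v ∈ P, T i v ∈ P := by
      intro i v hv
      rw [ha i v (hPD hv)]
      exact P.smul_mem _ hv
    have hns : ∀ i, ∀ b : F, ¬ ∀ v ∈ perp Q P, T i v = b • v := by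
      intro i b hb
      -- a common vector
      obtain ⟨w, hw, hw0⟩ : ∃ w ∈ perp Q D ⊓ perp Q P, w ≠ 0 := by
        rw [← Submodule.ne_bot_iff]
        intro h0
        have h1 := Submodule.finrank_sup_add_finrank_inf_eq (perp Q D) (perp Q P)
        have h2 := Submodule.finrank_le (perp Q D ⊔ perp Q P)
        rw [h0, finrank_bot] at h1
        omega
      have hab : a i = b := by
        have h1 := ha i w hw.1
        rw [hb w hw.2] at h1
        exact (smul_left_injective F hw0 h1).symm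
      refine h.not_scal i b fun v => ?_
      obtain ⟨d, hd, e, he, rfl⟩ : ∃ d ∈ D, ∃ e ∈ perp Q D, d + e = v := by
        have h1 : v ∈ D ⊔ perp Q D := by rw [(isCompl_perp hDn).sup_eq_top]; trivial
        exact Submodule.mem_sup.1 h1
      rw [map_add, smul_add, hb d (hDP hd), ha i e he, hab]
    refine h.box_A (perp Q P) (Cfsg.Agent.LieClassical.OrthFinite.good_of_finite (nondeg_perp hQ hPn) (by omega)) ?_
      (fun i => perp_inv (hTQ i) (hPi i)) ⟨i₀, hns i₀⟩ hinj.injOn (fun i _ => hp i) (Or.inl hex)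
    intro h0
    rw [h0, finrank_top] at hPs
    omega
  -- case (1): not all scalar on `D'`
  push Not at hsc
  obtain ⟨i₁, hi₁⟩ := hsc
  have hne : ∃ i, ∀ a : F, ¬ ∀ v ∈ perp Q D, T i v = a • v := by
    refine ⟨i₁, fun a ha => ?_⟩
    obtain ⟨v, hv, hv'⟩ := hi₁ a
    exact hv' (ha v hv)
  have hD't : perp Q D ≠ ⊤ := by
    intro h0
    rw [h0, finrank_top] at hsum
    omega
  by_cases h5 : 5 ≤ finrank F (perp Q D)
  · classical
    by_cases hex : Nat.card F = 2 ∧ finrank F (perp Q D) = 6 ∧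
          ∃ U : Submodule F (perp Q D), (∀ v ∈ U, Q (v : V) = 0) ∧ finrank F U = 3
    swap
    · exact h.box_A (perp Q D) (Cfsg.Agent.LieClassical.OrthFinite.good_of_finite hD'n h5) hD't hD'i hne hinj.injOn
        (fun i _ => hp i) (Or.inl hex)
    by_cases hss : {i | ∀ a : F, ¬ ∀ v ∈ perp Q D, T i v = a • v}.Subsingleton
    · exact h.box_A (perp Q D) (Cfsg.Agent.LieClassical.OrthFinite.good_of_finite hD'n h5) hD't hD'i hne hinj.injOn
        (fun i _ => hp i) (Or.inr hss)
    obtain ⟨hF, h6, U, hU, hU3⟩ := hex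
    rw [Set.not_subsingleton_iff] at hss
    obtain ⟨i, hi, j, hj, hij⟩ := hss
    have hnt : ∀ k, (∀ a : F, ¬ ∀ v ∈ perp Q D, T k v = a • v) → ∃ v ∈ perp Q D, T k v ≠ v := by
      intro k hk
      have := hk 1
      push Not at this
      obtain ⟨v, hv, hv'⟩ := this
      rw [one_smul] at hv'
      exact ⟨v, hv, hv'⟩
    have hp2 : p = 2 := by
      have h2 := two_zero hF
      have h3 : ((2 : ℕ) : F) = 0 := by exact_mod_cast h2
      rw [CharP.cast_eq_zero_iff F p] at h3
      rcases (Nat.dvd_prime Nat.prime_two).1 h3 with h4 | h4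
      · exfalso
        subst h4
        have := CharP.cast_eq_zero F 1
        rw [Nat.cast_one] at this
        exact one_ne_zero this
      · exact h4
    have hrF : ∀ k, (r k : F) ≠ 0 := by
      intro k h0
      rw [CharP.cast_eq_zero_iff F p] at h0
      have h1 := (Nat.prime_dvd_prime_iff_eq (by rw [hp2]; exact Nat.prime_two) (h.prime k)).1 h0
      exact hp k h1.symm
    -- a member with fixed vectors
    have key : ∀ k, (∀ a : F, ¬ ∀ v ∈ perp Q D, T k v = a • v) → fixIn (T k) (perp Q D) ≠ ⊥ → finrank F D ≤ 3 := by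
      intro k hk hk0
      have hCn := fix_nondeg (hTQ k) (hrF k) (hTr k) hD'n (hD'i k)
      have hCle : fixIn (T k) (perp Q D) ≤ perp Q D := fun v hv => hv.1
      have hCi : ∀ l, ∀ v ∈ fixIn (T k) (perp Q D), T l v ∈ fixIn (T k) (perp Q D) := by
        intro l v hv
        refine ⟨hD'i l v hv.1, ?_⟩
        have h1 : T k (T l v) = T l (T k v) := by
          change (T k * T l) v = (T l * T k) v
          rw [h.commX]
        rw [h1, hv.2]
      obtain ⟨h1, h2⟩ := sub_perp hQ hCn hD'n hCle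
      have h3 := hmin _ hCn hCi hk0
      have h4 := hmin _ h1 (fun l v hv => ⟨hD'i l v hv.1, perp_inv (hTQ l) (hCi l) v hv.2⟩) (by
        intro h0
        rw [h0, finrank_bot, add_zero] at h2
        have h5 := Submodule.eq_of_le_of_finrank_eq hCle h2
        obtain ⟨v, hv, hv'⟩ := hnt k hk
        rw [← h5] at hv
        exact hv' hv.2)
      omega
    have hD3 : finrank F D ≤ 3 := by
      by_cases hi0 : fixIn (T i) (perp Q D) = ⊥
      · by_cases hj0 : fixIn (T j) (perp Q D) = ⊥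
        · exfalso
          apply hij
          apply hinj
          rw [eq_seven hF hD'n h6 hU hU3 (hTQ i) (hD'i i) (h.prime i) (hTr i) hi0,
            eq_seven hF hD'n h6 hU hU3 (hTQ j) (hD'i j) (h.prime j) (hTr j) hj0]
        · exact key j hj hj0
      · exact key i hi hi0
    have hD2 : finrank F D = 2 := by
      obtain ⟨m, hm⟩ := heven
      omega
    refine h4 D hF (by omega) hD2 hDn hDi ⟨U.map (perp Q D).subtype, ?_, ?_, ?_⟩ i j hij (hnt i hi) (hnt j hj)
    · exact Submodule.map_subtype_le _ _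
    · rintro _ ⟨u, hu, rfl⟩
      exact hU u hu
    · rw [← hU3]
      exact Submodule.finrank_map_subtype_eq _ _
  · -- case (3)
    have hD4 : finrank F D = 4 := by omega
    exact h3 D (by omega) hD4 hDn hDi fun W hW hWi hW0 => hD4 ▸ hmin W hW hWi hW0

/-- **box E5** in the form of helper93's stub (`hD` with plain invariance), given box F1 and the cases (3) and (4)
(helper551) -/
theorem box_E5_of (hG : Good Q) (hE : Env G Ω N) (hρ : _root_.Cfsg.Agent.H93.RC.Rep Q N ρ) (hIH : IH (Nat.card (P Q)))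
    {p : ℕ} [CharP F p] (hLR : LR Q Ω ρ p) {ι : Type} [Finite ι] {x : ι → G} {M : ι → Gam Q} {r : ι → ℕ}
    (hl : ∀ i, Lf ρ (x i) (M i)) (hx : PF x r) (hcov : Cov Ω x)
    (h8 : 8 ≤ Module.finrank F V) (heven : Even (Module.finrank F V))
    (T : ι → V ≃ₗ[F] V) (hTO : ∀ i, T i ∈ O Q) (hTM : ∀ i v, (M i).1 v = T i v)
    (hTr : ∀ i, T i ^ r i = 1) (hTc : ∀ i j, T i * T j = T j * T i)
    (hD : ∃ D : Submodule F V, D ≠ ⊥ ∧ D ≠ ⊤ ∧ Nondeg (Q.comp D.subtype) ∧ ∀ i, ∀ v ∈ D, T i v ∈ D)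
    (hp : ∀ i, r i ≠ p) (h3 : Sit Q N ρ Ω x M r T p → Case3 Q T → False)
    (h4 : Sit Q N ρ Ω x M r T p → Case4 Q T → False) : False := by
  have hTQ : ∀ i v, Q (T i v) = Q v := fun i v => hTO i v
  have hQ := hG.nondeg
  have S : Sit Q N ρ Ω x M r T p :=
    { good := hG
      dim := h8
      env := hE
      rep := hρ
      pf := hx
      cov := hcov
      lf := hl
      iso := hTQ
      pow := hTr
      comm := hTc
      lift := fun i => ⟨1, one_ne_zero, fun v => by rw [hTM, one_smul]⟩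
      rp := hp
      ih := hIH
      box := hLR }
  refine e5 (cv_of hG hE hρ hIH hLR hl hx hcov hTQ hTM hTc) hx.inj hTQ hTr h8 heven hD hp ?_ ?_
  · intro D h8 hD4 hDn hDi hmin
    have hs := finrank_add_perp hQ D
    exact h3 S ⟨h8, D, perp Q D, hD4, by omega, isCompl_perp hDn, fun v hv w hw => hw v hv, hDi,
      fun i => perp_inv (hTQ i) (hDi i), hmin⟩
  · intro D hF h8 hD2 hDn hDi hU i j hij hi hj
    have hs := finrank_add_perp hQ D
    exact h4 S ⟨hF, h8, D, perp Q D, hD2, by omega, isCompl_perp hDn, fun v hv w hw => hw v hv, hDi,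
      fun i => perp_inv (hTQ i) (hDi i), hU, i, j, hij, hi, hj⟩

end Cfsg.Agent.H273.RC.Fev
end

-- part: H721/RC/Boxes
section
/-!
# S3510, row F, even dimension: the boxes proved by helper520, 338, 479, 237, 406, 31, 273 (helper721)
-/

set_option autoImplicit false
open Cfsg

namespace Cfsg.Agent.H721.RC

open QuadraticMap MulAction
open Cfsg.Agent.LieClassical.OrthCore Cfsg.Agent.LieClassical.OrthTrans
open Cfsg.Agent.LieClassical.OrthSimple Cfsg.Agent.ClassicalGeometry.OrthSemi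
open Cfsg.Agent.ClassicalGeometry.OrthAut1 Cfsg.Agent.H106.RC Cfsg.Agent.H93.RC

theorem boxB : BoxB := by
  intro F V _ _ _ _ _ Q G Ω _ _ _ _ N ρ hG hE hρ hIH p _ ι _ x M r hl hlin hx hcov h8 h82 W W' hWW hW hW' hi hi'
  exact H520.RC.box_B (p := p) hG hE hρ hIH hl hlin hx hcov h8 h82 W W' hWW hW hW' hi hi'

theorem boxC : BoxC := by
  intro F V _ _ _ _ _ Q G Ω _ _ _ _ N ρ hG hE hρ hIH p _ ι _ x M r hl hlin hx hcov h8 κ s t h1 h2 h3 h4
  exact H338.RC.box_CF (p := p) hG hE hρ hIH hl hlin hx hcov h8 κ s t h1 h2 h3 h4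

theorem boxD5 : BoxD5 := by
  intro F V _ _ _ _ _ Q G Ω _ _ _ _ N ρ hG hE hρ hIH p _ ι _ x M r hl hlin hx hcov h8 κ s t h1 h2 h3 h4 h5
  exact H479.RC.box_D5 (p := p) hG hE hρ hIH hl hlin hx hcov h8 κ s t h1 h2 h3 h4 h5

theorem boxD4p : BoxD4p := by
  intro F V _ _ _ _ _ Q G Ω _ _ _ _ N ρ hG hE hρ hIH p _ ι _ x M r hl hlin hx hcov h8 κ s t h1 h2 h3 h4 h5 U h6 h7 h8' h9
  exact H31.RC.box_D4p_of (p := p) hG hE hρ hIH (H520.RC.lr_of hG hE hρ) hl hlin hx hcov h8 κ s t h1 h2 h3 h5 U h6 h7 h8' h9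

theorem boxE0 : BoxE0 := by
  intro F V _ _ _ _ _ Q hG p _ M hM r hr hs
  exact H237.RC.box_E0 (p := p) hG M hM hr hs

theorem boxE6 : BoxE6 := by
  intro p F V _ _ _ _ _ Q G Ω _ _ _ _ N ρ hG hE hρ hIH _ ι _ x M r hl hx hcov h8 heven T hTO hTM hTr hTc hD hp2 i₀ hi₀
  refine H406.RC.box_E6 (p := p) hG hE hρ hIH hl hx hcov h8 T hTO hTM hTr hTc ?_ hp2 i₀ hi₀
  obtain ⟨D, h1, h2, h3, h4⟩ := hD
  exact ⟨D, h1, h2, h3, fun f hf => h4 f hf⟩

/-- box E5 from helper551's two cases -/
theorem boxE5_of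
    (h3 : ∀ {F V : Type} [Field F] [Finite F] [AddCommGroup V] [Module F V] [FiniteDimensional F V]
      {Q : QuadraticForm F V} {G Ω : Type} [Group G] [Finite G] [MulAction G Ω] [Nonempty Ω]
      {N : Subgroup G} {ρ : ↥(E Q) →* G} {p : ℕ} [CharP F p] {ι : Type} [Finite ι] {x : ι → G}
      {M : ι → Gam Q} {r : ι → ℕ} {T : ι → V ≃ₗ[F] V},
      H273.RC.Fev.Sit Q N ρ Ω x M r T p → H273.RC.Fev.Case3 Q T → False)
    (h4 : ∀ {F V : Type} [Field F] [Finite F] [AddCommGroup V] [Module F V] [FiniteDimensional F V]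
      {Q : QuadraticForm F V} {G Ω : Type} [Group G] [Finite G] [MulAction G Ω] [Nonempty Ω]
      {N : Subgroup G} {ρ : ↥(E Q) →* G} {p : ℕ} [CharP F p] {ι : Type} [Finite ι] {x : ι → G}
      {M : ι → Gam Q} {r : ι → ℕ} {T : ι → V ≃ₗ[F] V},
      H273.RC.Fev.Sit Q N ρ Ω x M r T p → H273.RC.Fev.Case4 Q T → False) : BoxE5 := by
  intro p F V _ _ _ _ _ Q G Ω _ _ _ _ N ρ hG hE hρ hIH _ ι _ x M r hl hx hcov h8 heven T hTO hTM hTr hTc hD hp
  refine H273.RC.Fev.box_E5_of (p := p) hG hE hρ hIH (H520.RC.lr_of hG hE hρ) hl hx hcov h8 heven T hTO hTM hTr hTc ?_ hp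
    (fun S hc => h3 S hc) (fun S hc => h4 S hc)
  obtain ⟨D, h1, h2, h3, h4⟩ := hD
  refine ⟨D, h1, h2, h3, fun i v hv => h4 (T i : V →ₗ[F] V) (fun j w => ?_) v hv⟩
  exact LinearEquiv.congr_fun (hTc i j) w

end Cfsg.Agent.H721.RC
end

private theorem dce_f62f43e07d54 : _root_.True := by
  try have : _root_.True := by simp only [_root_.Cfsg.Agent.H479.RC.psi.congr_simp]
  exact _root_.True.intro
end

-- part: H93/RC/Odd
section
prune_inst 0xd420330563620000001c0512620040d3910004020008800000a50382020802c0080288411ab0001950a2094040050068110000300240000004840400000101000080100400400011000086000008010000000000000000000000000000000000014010000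
set_option linter.all false
open scoped Cfsg.Agent.FastGrp

-- part: H205/RC/Norm
section
/-!
# S3510, row F, `box_norm` (helper205)
-/

set_option autoImplicit false

namespace Cfsg.Agent.H205.RC

open Cfsg QuadraticMap Module
open Cfsg.Agent.LieClassical.OrthCore Cfsg.Agent.LieClassical.OrthTrans
open Cfsg.Agent.LieClassical.OrthSimple Cfsg.Agent.ClassicalGeometry.OrthSemi
open Cfsg.Agent.H93.RC

/-- **`box_norm`** (odd dimension): a linear lift is a scalar times an isometry of the right order. -/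
theorem box_norm {F V : Type*} [Field F] [Finite F] [AddCommGroup V] [Module F V]
    [FiniteDimensional F V] {Q : QuadraticForm F V} (hG : Good Q) {p : ℕ} [CharP F p] (hp2 : p ≠ 2)
    (hodd : Odd (Module.finrank F V)) (M : Gam Q) (hM : IsLin M) {r : ℕ} (hr : r.Prime)
    (hpow : IsScal (M ^ r)) :
    ∃ (T : V ≃ₗ[F] V) (a : F), T ∈ O Q ∧ T ^ r = 1 ∧ a ≠ 0 ∧ ∀ v, M.1 v = a • T v := by
  have h2 : (2 : F) ≠ 0 := by
    intro h
    have h1 : ((2 : ℕ) : F) = 0 := by exact_mod_cast h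
    rw [CharP.cast_eq_zero_iff F p] at h1
    have hp : p.Prime ∨ p = 0 := CharP.char_is_prime_or_zero F p
    rcases hp with hp | hp
    · exact hp2 ((Nat.prime_dvd_prime_iff_eq hp Nat.prime_two).1 h1)
    · subst hp
      norm_num at h1
  obtain ⟨g, a, ha, h1, h3, h4⟩ := exists_iso hG.nondeg h2 hodd hM hr hpow
  exact ⟨g, a, h3, h4, ha, h1⟩

end Cfsg.Agent.H205.RC
end

-- part: H220/RC/OddEig
section
/-!
# S3510, row F, BOX F4: a common nonsingular eigenvector in odd dimension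

The group generated by the commuting lifts is cyclic modulo scalars, generated by one semisimilitude `Y`.
`Z`, `L` are powers of `Y`: `Z` has the field automorphism `σ` of `Y` and `Z ^ |σ|` is a scalar, `L` is linear and `L ^ m`
is a scalar, `p ∤ m`.  `c` = multiplier of `L`: the form `(L x, y) - (x, L y)` is alternating with radical
`W = ker (L ^ 2 - c)`, so `dim W` is odd, `c = b ^ 2`, `σ b = b` (otherwise `Z` interchanges the two eigenspaces), an
eigenspace `E` of `L` is nondegenerate and `Z`-invariant, Galois descent on `E`.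
-/

set_option autoImplicit false

namespace Cfsg.Agent.H220.RC

open QuadraticMap Module
open Cfsg.Agent.LieClassical.OrthCore Cfsg.Agent.ClassicalGeometry.OrthSemi Cfsg.Agent.H93.RC

section core

variable {F V : Type*} [Field F] [AddCommGroup V] [Module F V]

/-- the eigenspace -/
def Eg (L : Module.End F V) (b : F) : Submodule F V := LinearMap.ker (L - b • (1 : Module.End F V))

theorem mem_Eg {L : Module.End F V} {b : F} {x : V} : x ∈ Eg L b ↔ L x = b • x := by
  unfold Eg
  rw [LinearMap.mem_ker, LinearMap.sub_apply, sub_eq_zero]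
  rfl

theorem exists_Q_ne {Q : QuadraticForm F V} {W : Submodule F V} {x : V} (hx : x ∈ W) (hx0 : x ≠ 0)
    (hW : ∀ x ∈ W, (∀ y ∈ W, polar Q x y = 0) → x = 0) : ∃ v ∈ W, Q v ≠ 0 := by
  by_contra hne
  push Not at hne
  refine hx0 (hW x hx fun y hy => ?_)
  rw [polar, hne _ (W.add_mem hx hy), hne x hx, hne y hy]
  simp

variable {Q : QuadraticForm F V}

/-- an eigenspace of a similitude `L` with `L ^ m` scalar, `m ≠ 0` in `F`, is nondegenerate -/
theorem nondeg_Eg (hQ : Nondeg Q) {L : Module.End F V} {b : F} (hb : b ≠ 0) (hL : ∀ v, Q (L v) = b ^ 2 * Q v) {m : ℕ}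
    (hm : (m : F) ≠ 0) {lam : F} (hLm : ∀ v, (L ^ m) v = lam • v) {x : V} (hx : x ∈ Eg L b)
    (h0 : ∀ y ∈ Eg L b, polar Q x y = 0) : x = 0 := by
  by_contra hx0
  set T : Module.End F V := b⁻¹ • L with hT
  have hTx : T x = x := by
    rw [hT, LinearMap.smul_apply, mem_Eg.1 hx, smul_smul, inv_mul_cancel₀ hb, one_smul]
  have hTQ : ∀ v, Q (T v) = Q v := by
    intro v
    rw [hT, LinearMap.smul_apply, QuadraticMap.map_smul, hL, smul_eq_mul]
    field_simp
  have hTp : ∀ (i : ℕ) (u v : V), polar Q ((T ^ i) u) ((T ^ i) v) = polar Q u v := by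
    intro i
    induction i with
    | zero => intro u v; simp
    | succ i ih =>
      intro u v
      rw [pow_succ', Module.End.mul_apply, Module.End.mul_apply, polar, ← map_add, hTQ, hTQ, hTQ]
      exact ih u v
  have hTm1 : ∃ mu : F, ∀ v, (T ^ m) v = mu • v := by
    refine ⟨b⁻¹ ^ m * lam, fun v => ?_⟩
    rw [hT, smul_pow, LinearMap.smul_apply, hLm, smul_smul]
  obtain ⟨mu, hmu⟩ := hTm1
  have hTix : ∀ i : ℕ, (T ^ i) x = x := by
    intro i
    induction i with
    | zero => simp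
    | succ i ih => rw [pow_succ', Module.End.mul_apply, ih, hTx]
  have hTm : ∀ v, (T ^ m) v = v := by
    have h1 : mu • x = x := by rw [← hmu, hTix]
    have h2 : (mu - 1) • x = 0 := by rw [sub_smul, h1, one_smul, sub_self]
    rcases smul_eq_zero.1 h2 with h | h
    · intro v
      rw [hmu, sub_eq_zero.1 h, one_smul]
    · exact absurd h hx0
  apply hx0
  apply hQ
  intro y
  -- the projection of `y`
  have h1 : T (∑ i ∈ Finset.range m, (T ^ i) y) = ∑ i ∈ Finset.range m, (T ^ i) y := by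
    rw [map_sum]
    have h2 := Finset.sum_range_succ' (fun i => (T ^ i) y) m
    rw [Finset.sum_range_succ, hTm, pow_zero, Module.End.one_apply] at h2
    rw [add_right_cancel h2]
    refine Finset.sum_congr rfl fun i _ => ?_
    rw [pow_succ']
    rfl
  have h2 : (∑ i ∈ Finset.range m, (T ^ i) y) ∈ Eg L b := by
    rw [mem_Eg]
    have h3 := congrArg (fun w => b • w) h1
    simp only [hT, LinearMap.smul_apply, smul_smul, mul_inv_cancel₀ hb, one_smul] at h3
    rw [hT]
    exact h3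
  have h3 := h0 _ h2
  have h4 : polar Q x (∑ i ∈ Finset.range m, (T ^ i) y) = ∑ i ∈ Finset.range m, polar Q x ((T ^ i) y) := by
    change polarBilin Q x _ = _
    rw [map_sum]
    rfl
  rw [h4] at h3
  have h5 : ∀ i ∈ Finset.range m, polar Q x ((T ^ i) y) = polar Q x y := by
    intro i _
    have := hTp i x y
    rwa [hTix] at this
  rw [Finset.sum_congr rfl h5, Finset.sum_const, Finset.card_range, nsmul_eq_mul] at h3
  exact (mul_eq_zero.1 h3).resolve_left hm

variable [FiniteDimensional F V]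

omit [FiniteDimensional F V] in
/-- a similitude is injective -/
theorem injective_of_sim (hQ : Nondeg Q) {c : F} (hc : c ≠ 0) (L : Module.End F V) (hL : ∀ v, Q (L v) = c * Q v) :
    Function.Injective L := by
  rw [← LinearMap.ker_eq_bot, LinearMap.ker_eq_bot']
  intro x hx
  apply hQ
  intro y
  have h1 : polar Q (L x) (L y) = c * polar Q x y := by
    rw [polar, ← map_add, hL, hL, hL, polar]
    ring
  rw [hx, polar_zero_left] at h1
  exact (mul_eq_zero.1 h1.symm).resolve_left hc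

/-- **Parity**: the multiplier `c` of a similitude `L` in odd dimension is a square, `c = b ^ 2`, and the sum of the
dimensions of the eigenspaces for `b` and `- b` is odd. -/
theorem parity (hQ : Nondeg Q) (h2 : (2 : F) ≠ 0) (hodd : Odd (finrank F V)) {c : F} (hc : c ≠ 0)
    (L : Module.End F V) (hL : ∀ v, Q (L v) = c * Q v) :
    ∃ b : F, b ^ 2 = c ∧ Odd (finrank F (Eg L b) + finrank F (Eg L (-b))) := by
  have hLp : ∀ x y, polar Q (L x) (L y) = c * polar Q x y := by
    intro x y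
    rw [polar, ← map_add, hL, hL, hL, polar]
    ring
  have hLinj : Function.Injective L := injective_of_sim hQ hc L hL
  have hLsurj : Function.Surjective L := LinearMap.surjective_of_injective hLinj
  -- the alternating form
  let ω : LinearMap.BilinForm F V := (polarBilin Q).compl₁₂ L LinearMap.id - (polarBilin Q).compl₁₂ LinearMap.id L
  have hω : ∀ x y, ω x y = polar Q (L x) y - polar Q x (L y) := fun x y => rfl
  have hωalt : ω.IsAlt := by
    intro x
    rw [hω, polar_comm Q (L x) x, sub_self]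
  set W : Submodule F V := LinearMap.ker ω with hWdef
  have hW : ∀ x, x ∈ W ↔ L (L x) = c • x := by
    intro x
    rw [hWdef, LinearMap.mem_ker]
    constructor
    · intro h
      rw [← sub_eq_zero]
      apply hQ
      intro z
      obtain ⟨y, rfl⟩ := hLsurj z
      have h1 : ω x y = 0 := by rw [h]; rfl
      rw [hω, sub_eq_zero] at h1
      rw [polar_sub_left, polar_smul_left, hLp, h1, smul_eq_mul, sub_self]
    · intro h
      ext y
      rw [hω]
      have h1 := hLp (L x) y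
      rw [h, polar_smul_left, smul_eq_mul] at h1
      have h3 := mul_left_cancel₀ hc h1
      rw [h3, sub_self]
      rfl
  obtain ⟨k, hk⟩ := ClassicalGeometry.TwoFamilies.exists_finrank_eq_ker_add ω hωalt
  have hWodd : Odd (finrank F W) := by
    rw [hk] at hodd
    have h1 : Even (k + k) := ⟨k, rfl⟩
    exact (Nat.odd_add.1 hodd).2 h1
  have hWL : ∀ x ∈ W, L x ∈ W := by
    intro x hx
    rw [hW] at hx ⊢
    rw [hx, map_smul]
  -- `c` is a square
  obtain ⟨b, hb⟩ : ∃ b : F, b ^ 2 = c := by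
    obtain ⟨j, hj⟩ := hWodd
    let LW : Module.End F W := L.restrict hWL
    have h1 : LW * LW = c • (1 : Module.End F W) := by
      ext x
      exact (hW x).1 x.2
    have h3 := congrArg LinearMap.det h1
    rw [map_mul, LinearMap.det_smul, hj, map_one, mul_one] at h3
    refine ⟨LinearMap.det LW * (c ^ j)⁻¹, ?_⟩
    have hcj : c ^ j ≠ 0 := pow_ne_zero j hc
    rw [mul_pow, _root_.sq (LinearMap.det LW), h3, inv_pow]
    field_simp
    ring
  have hb0 : b ≠ 0 := by
    rintro rfl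
    apply hc
    rw [← hb]
    ring
  -- the two eigenspaces
  have hEW : ∀ b' : F, b' ^ 2 = c → Eg L b' ≤ W := by
    intro b' hb' x hx
    rw [mem_Eg] at hx
    rw [hW, hx, map_smul, hx, smul_smul, ← _root_.sq, hb']
  have hnb : (-b) ^ 2 = c := by rw [neg_sq, hb]
  have hsup : Eg L b ⊔ Eg L (-b) = W := by
    refine le_antisymm (sup_le (hEW b hb) (hEW _ hnb)) fun x hx => ?_
    have hx' := (hW x).1 hx
    have h1 : (2 * b)⁻¹ • (L x + b • x) ∈ Eg L b := by
      refine Submodule.smul_mem _ _ ?_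
      rw [mem_Eg, map_add, map_smul, hx', ← hb, smul_add, smul_smul, _root_.sq, add_comm]
    have h3 : (2 * b)⁻¹ • (b • x - L x) ∈ Eg L (-b) := by
      refine Submodule.smul_mem _ _ ?_
      rw [mem_Eg, map_sub, map_smul, hx', ← hb, neg_smul, smul_sub, smul_smul, ← _root_.sq, neg_sub]
    have h4 : x = (2 * b)⁻¹ • (L x + b • x) + (2 * b)⁻¹ • (b • x - L x) := by
      rw [← smul_add, show L x + b • x + (b • x - L x) = b • x + b • x by abel, ← two_smul F, smul_smul, smul_smul]
      rw [mul_assoc, inv_mul_cancel₀ (mul_ne_zero h2 hb0), one_smul]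
    rw [h4]
    exact Submodule.add_mem_sup h1 h3
  have hinf : Eg L b ⊓ Eg L (-b) = ⊥ := by
    rw [Submodule.eq_bot_iff]
    rintro x ⟨h1, h3⟩
    rw [SetLike.mem_coe, mem_Eg] at h1 h3
    rw [h1, neg_smul] at h3
    have h4 : (2 * b) • x = 0 := by
      rw [mul_smul, two_smul]
      nth_rewrite 1 [h3]
      exact neg_add_cancel _
    exact (smul_eq_zero.1 h4).resolve_left (mul_ne_zero h2 hb0)
  have hdim : finrank F (Eg L b) + finrank F (Eg L (-b)) = finrank F W := by
    have h1 := Submodule.finrank_sup_add_finrank_inf_eq (Eg L b) (Eg L (-b))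
    rw [hinf, hsup, finrank_bot, add_zero] at h1
    exact h1.symm
  refine ⟨b, hb, ?_⟩
  rw [hdim]
  exact hWodd

variable [Finite F]

end core

section grp

end grp

section scal

variable {F V : Type*} [Field F] [AddCommGroup V] [Module F V]

/-- the scalars -/
def Sc (Q : QuadraticForm F V) : Subgroup (Gam Q) where
  carrier := {M | IsScal M}
  one_mem' := ⟨1, one_ne_zero, fun v => by rw [one_smul]; rfl⟩
  mul_mem' := by
    rintro A B ⟨a, ha, hA⟩ ⟨b, hb, hB⟩
    refine ⟨a * b, mul_ne_zero ha hb, fun v => ?_⟩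
    change A.1 (B.1 v) = _
    rw [hB, hA, smul_smul]
  inv_mem' := by
    rintro A ⟨a, ha, hA⟩
    refine ⟨a⁻¹, inv_ne_zero ha, fun v => ?_⟩
    change A.1⁻¹ v = _
    have h1 : A.1 (a⁻¹ • v) = v := by rw [hA, smul_smul, mul_inv_cancel₀ ha, one_smul]
    nth_rewrite 1 [← h1]
    rw [inv_apply]

instance (Q : QuadraticForm F V) : (Sc Q).Normal where
  conj_mem := by
    rintro A ⟨a, ha, hA⟩ M
    obtain ⟨σ, c, hM⟩ := M.2
    refine ⟨σ a, by simpa using ha, fun v => ?_⟩
    change M.1 (A.1 (M.1⁻¹ v)) = _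
    rw [hA, hM.smul, apply_inv]

variable [Finite F] [FiniteDimensional F V] {Q : QuadraticForm F V}

end scal

section family

universe v

theorem two_ne {F : Type*} [Field F] [Finite F] {p : ℕ} [CharP F p] (hp2 : p ≠ 2) : (2 : F) ≠ 0 := by
  have hpp : p.Prime := (CharP.char_is_prime_or_zero F p).resolve_right fun h => by
    subst h
    have := CharP.charP_to_charZero F
    exact not_finite F
  intro h
  have h1 : ((2 : ℕ) : F) = 0 := by exact_mod_cast h
  rw [CharP.cast_eq_zero_iff F p] at h1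
  exact hp2 ((Nat.prime_dvd_prime_iff_eq hpp Nat.prime_two).1 h1)

theorem cast_ne {F : Type*} [Field F] [Finite F] {p : ℕ} [CharP F p] {r : ℕ} (hr : r.Prime) (hrp : r ≠ p) :
    (r : F) ≠ 0 := by
  have hpp : p.Prime := (CharP.char_is_prime_or_zero F p).resolve_right fun h => by
    subst h
    have := CharP.charP_to_charZero F
    exact not_finite F
  intro h
  rw [CharP.cast_eq_zero_iff F p] at h
  exact hrp ((Nat.prime_dvd_prime_iff_eq hpp hr).1 h).symm

variable {F : Type*} [Field F]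

/-- one isometry -/
theorem exists_odd_Eg {V : Type*} [AddCommGroup V] [Module F V] [FiniteDimensional F V] {Q : QuadraticForm F V}
    (hQ : Nondeg Q) (h2 : (2 : F) ≠ 0) (hodd : Odd (finrank F V)) (T : Module.End F V) (hT : ∀ v, Q (T v) = Q v)
    {m : ℕ} (hm : (m : F) ≠ 0) (hTm : T ^ m = 1) :
    ∃ b : F, (b = 1 ∨ b = -1) ∧ Odd (finrank F (Eg T b)) ∧
      ∀ x ∈ Eg T b, (∀ y ∈ Eg T b, polar Q x y = 0) → x = 0 := by
  have hnd : ∀ b : F, b = 1 ∨ b = -1 → ∀ x ∈ Eg T b, (∀ y ∈ Eg T b, polar Q x y = 0) → x = 0 := by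
    intro b hb x hx h0
    have hb0 : b ≠ 0 := by
      rcases hb with rfl | rfl
      · exact one_ne_zero
      · exact neg_ne_zero.2 one_ne_zero
    have hb2 : b ^ 2 = 1 := by
      rcases hb with rfl | rfl <;> ring
    exact nondeg_Eg (lam := 1) hQ hb0 (fun v => by rw [hb2, one_mul, hT]) hm
      (fun v => by rw [hTm, one_smul]; rfl) hx h0
  obtain ⟨b, hb, hbo⟩ := parity hQ h2 hodd (c := 1) one_ne_zero T (fun v => by rw [hT, one_mul])
  have hb1 : b = 1 ∨ b = -1 := sq_eq_one_iff.1 hb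
  have hbn : -b = 1 ∨ -b = -1 := by
    rcases hb1 with rfl | rfl
    · exact Or.inr rfl
    · exact Or.inl (neg_neg _)
  rcases Nat.even_or_odd (finrank F (Eg T b)) with h | h
  · exact ⟨-b, hbn, (Nat.odd_add'.1 hbo).2 h, hnd _ hbn⟩
  · exact ⟨b, hb1, h, hnd _ hb1⟩

/-- a commuting family of isometries -/
theorem exists_family (h2 : (2 : F) ≠ 0) {ι : Type*} (s : Finset ι) : ∀ {V : Type v} [AddCommGroup V] [Module F V]
    [FiniteDimensional F V] {Q : QuadraticForm F V} (_ : Nondeg Q) (_ : Odd (finrank F V)) (X : ι → Module.End F V)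
    (m : ι → ℕ) (_ : ∀ i v, Q (X i v) = Q v) (_ : ∀ i, (m i : F) ≠ 0) (_ : ∀ i, X i ^ m i = 1)
    (_ : ∀ i j, X i * X j = X j * X i), ∃ v : V, Q v ≠ 0 ∧ ∀ i ∈ s, X i v = v ∨ X i v = -v := by
  classical
  induction s using Finset.induction_on with
  | empty =>
    intro V _ _ _ Q hQ hodd X m _ _ _ _
    have hnt : Nontrivial V := Module.nontrivial_of_finrank_pos hodd.pos
    obtain ⟨w0, hw0⟩ := exists_ne (0 : V)
    obtain ⟨v0, -, hv0⟩ := exists_Q_ne (Q := Q) (W := ⊤) (Submodule.mem_top (x := w0)) hw0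
      (fun x _ h => hQ x fun y => h y Submodule.mem_top)
    exact ⟨v0, hv0, by simp⟩
  | insert a s _ ih =>
    intro V _ _ _ Q hQ hodd X m hX hm hpow hc
    obtain ⟨b, hb, hbo, hnd⟩ := exists_odd_Eg hQ h2 hodd (X a) (hX a) (hm a) (hpow a)
    have hinv : ∀ i, ∀ x ∈ Eg (X a) b, X i x ∈ Eg (X a) b := by
      intro i x hx
      rw [mem_Eg] at hx ⊢
      have h1 : X a (X i x) = X i (X a x) := LinearMap.congr_fun (hc a i) x
      rw [h1, hx, map_smul]
    have hpi : ∀ (i : ι) (n : ℕ) (x : Eg (X a) b), ((((X i).restrict (hinv i)) ^ n) x : V) = (X i ^ n) x := by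
      intro i n
      induction n with
      | zero => intro x; rfl
      | succ n ihn =>
        intro x
        rw [pow_succ, pow_succ, Module.End.mul_apply, ihn]
        rfl
    obtain ⟨v, hv, hvs⟩ := ih (V := Eg (X a) b) (Q := Q.comp (Eg (X a) b).subtype)
      (fun x h => Subtype.ext (hnd x x.2 fun y hy => h ⟨y, hy⟩)) hbo (fun i => (X i).restrict (hinv i)) m
      (fun i v => hX i v) hm (fun i => LinearMap.ext fun x => Subtype.ext (by rw [hpi, hpow]; rfl))
      (fun i j => LinearMap.ext fun x => Subtype.ext (LinearMap.congr_fun (hc i j) x))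
    refine ⟨v, hv, fun i hi => ?_⟩
    rcases Finset.mem_insert.1 hi with rfl | hi
    · have h1 := mem_Eg.1 v.2
      rcases hb with rfl | rfl
      · left
        rwa [one_smul] at h1
      · right
        rwa [neg_one_smul] at h1
    · rcases hvs i hi with h | h
      · exact Or.inl (congrArg Subtype.val h)
      · exact Or.inr (congrArg Subtype.val h)

/-- **BOX F4** (odd dimension): a common nonsingular eigenvector. No distinctness of the `r i`. -/
theorem box_eig {F V : Type*} [Field F] [Finite F] [AddCommGroup V] [Module F V]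
    [FiniteDimensional F V] {Q : QuadraticForm F V} (hQ : Nondeg Q) {p : ℕ} [CharP F p] (hp2 : p ≠ 2)
    (hodd : Odd (Module.finrank F V)) {ι : Type*} [Finite ι] (X : ι → V ≃ₗ[F] V) (r : ι → ℕ)
    (hO : ∀ i, X i ∈ O Q) (hr : ∀ i, (r i).Prime) (hrp : ∀ i, r i ≠ p) (hpow : ∀ i, X i ^ r i = 1)
    (hc : ∀ i j, X i * X j = X j * X i) :
    ∃ v : V, Q v ≠ 0 ∧ ∀ i, X i v = v ∨ X i v = -v := by
  have := Fintype.ofFinite ι
  have hpi : ∀ (i : ι) (n : ℕ) (x : V), (((X i : V →ₗ[F] V) : Module.End F V) ^ n) x = (X i ^ n) x := by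
    intro i n
    induction n with
    | zero => intro x; rfl
    | succ n ihn =>
      intro x
      rw [pow_succ, pow_succ, Module.End.mul_apply, ihn]
      rfl
  obtain ⟨v, hv, h⟩ := exists_family (two_ne (F := F) hp2) (Finset.univ : Finset ι) hQ hodd
    (fun i => ((X i : V →ₗ[F] V) : Module.End F V)) r (fun i v => hO i v) (fun i => cast_ne (hr i) (hrp i))
    (fun i => LinearMap.ext fun x => by rw [hpi, hpow]; rfl)
    (fun i j => LinearMap.ext fun x => LinearEquiv.congr_fun (hc i j) x)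
  exact ⟨v, hv, fun i => h i (Finset.mem_univ i)⟩

end family

end Cfsg.Agent.H220.RC
end

-- part: H93/RC/Odd
section
/-!
# S3510, row F, odd dimension

`false_odd` : no cover by commuting elements of different prime orders whose members have lifts to
semisimilitudes, given the long root rule `LR`.
-/

set_option autoImplicit false
open Cfsg

namespace Cfsg.Agent.H93.RC

open QuadraticMap MulAction
open Cfsg.Agent.LieClassical.OrthCore Cfsg.Agent.LieClassical.OrthTrans
open Cfsg.Agent.LieClassical.OrthSimple Cfsg.Agent.ClassicalGeometry.OrthSemi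
open Cfsg.Agent.ClassicalGeometry.OrthAut1 Cfsg.Agent.H106.RC Cfsg.Agent.H138.RC

section lifts

variable {F V G : Type*} [Field F] [AddCommGroup V] [Module F V] [Group G] {Q : QuadraticForm F V}
  {ρ : ↥(E Q) →* G}

/-- an isometry as a semisimilitude -/
def gamO (T : V ≃ₗ[F] V) (hT : T ∈ O Q) : Gam Q :=
  ⟨T.toEquiv, RingEquiv.refl F, 1, one_ne_zero, fun u v => map_add T u v, fun a v => map_smul T a v,
    fun v => by rw [one_mul]; exact hT v⟩

/-- a scalar multiple of a lift is a lift -/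
theorem lf_smul {y : G} {M L : Gam Q} (h : Lf ρ y M) {a : F} (hML : ∀ v, M.1 v = a • L.1 v) :
    Lf ρ y L := by
  intro t
  rw [h t]
  congr 1
  apply Subtype.ext
  rw [coe_conjE, coe_conjE]
  ext v
  obtain ⟨v, rfl⟩ := M.1.surjective v
  rw [conjLin_apply', hML, hML, map_smul, conjLin_apply']

/-- two elements with the same lift are equal -/
theorem eq_of_lf (hG : Good Q) {N : Subgroup G} {Ω : Type*} [MulAction G Ω] (hE : Env G Ω N)
    (hρ : Rep Q N ρ) {y z : G} {M L : Gam Q} (h : Lf ρ y M) (h' : Lf ρ z L) (hML : ∀ v, M.1 v = L.1 v) :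
    y = z := by
  have h1 := h.mul h'.inv
  have h2 : y * z⁻¹ = 1 := by
    rw [h1.eq_one_iff hG hE hρ]
    refine ⟨1, one_ne_zero, fun v => ?_⟩
    have h3 : M = L := Subtype.ext (Equiv.ext hML)
    rw [h3, mul_inv_cancel, one_smul]
    rfl
  exact mul_inv_eq_one.1 h2

end lifts

variable {F V G Ω : Type} [Field F] [Finite F] [AddCommGroup V] [Module F V] [FiniteDimensional F V]
  {Q : QuadraticForm F V} [Group G] [Finite G] [MulAction G Ω] [Nonempty Ω] {N : Subgroup G}
  {ρ : ↥(E Q) →* G}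

theorem card_ne_two (h2 : (2 : F) ≠ 0) : Nat.card F ≠ 2 := by
  intro h1
  apply h2
  have := Fintype.ofFinite F
  rw [Nat.card_eq_fintype_card] at h1
  have h3 := FiniteField.cast_card_eq_zero F
  rw [h1] at h3
  exact_mod_cast h3

/-- the vector orthogonal complement of a nonsingular vector -/
theorem good_perp (hG : Good Q) (h2 : (2 : F) ≠ 0) (h7 : 7 ≤ Module.finrank F V) {v : V} (hv : Q v ≠ 0) :
    Good (Q.comp (LinearMap.ker (polarBilin Q v)).subtype) ∧ LinearMap.ker (polarBilin Q v) ≠ ⊤ ∧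
      ∀ x : V, ∃ a : F, x - a • v ∈ LinearMap.ker (polarBilin Q v) := by
  have hvv : polar Q v v ≠ 0 := by
    rw [polar_self, two_smul, ← two_mul]
    exact mul_ne_zero h2 hv
  have hdec : ∀ x : V, ∃ a : F, x - a • v ∈ LinearMap.ker (polarBilin Q v) := by
    intro x
    refine ⟨polar Q v x / polar Q v v, ?_⟩
    rw [LinearMap.mem_ker]
    show polar Q v (x - _) = 0
    rw [polar_sub_right, polar_smul_right, smul_eq_mul, div_mul_cancel₀ _ hvv, sub_self]
  refine ⟨Cfsg.Agent.LieClassical.OrthFinite.good_of_finite ?_ ?_, ?_, hdec⟩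
  · intro x hx
    apply Subtype.ext
    apply hG.nondeg
    intro y
    obtain ⟨a, ha⟩ := hdec y
    have h1 := hx ⟨_, ha⟩
    have h3 : polar Q (x : V) (y - a • v) = 0 := h1
    have h4 : polar Q (x : V) v = 0 := by
      rw [polar_comm]
      exact x.2
    rw [polar_sub_right, polar_smul_right, h4, smul_zero, sub_zero] at h3
    exact h3
  · have h1 := LinearMap.finrank_range_add_finrank_ker (polarBilin Q v)
    have h3 : Module.finrank F (LinearMap.range (polarBilin Q v)) ≤ 1 := by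
      refine le_trans (Submodule.finrank_le _) ?_
      rw [Module.finrank_self]
    omega
  · intro h
    apply hvv
    have h1 : v ∈ LinearMap.ker (polarBilin Q v) := by rw [h]; trivial
    exact h1

/-- **Odd dimension.** -/
theorem false_odd (hG : Good Q) (hodd : Odd (Module.finrank F V)) (h7 : 7 ≤ Module.finrank F V)
    (hE : Env G Ω N) (hρ : Rep Q N ρ) {p : ℕ} [CharP F p] (hp2 : p ≠ 2) (hLR : LR Q Ω ρ p)
    (hIH : IH (Nat.card (P Q))) {ι : Type} [Finite ι] {x : ι → G} {M : ι → Gam Q} {r : ι → ℕ}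
    (hl : ∀ i, Lf ρ (x i) (M i)) (hx : PF x r) (hcov : Cov Ω x) : False := by
  classical
  by_cases hnl : ∃ i, ¬ IsLin (M i)
  · exact Cfsg.Agent.H236.RC.box_FA' hG h7 hE hρ hl hx hcov hIH hnl
  push Not at hnl
  have hpp : p.Prime := CharP.char_is_prime F p
  have h2 : (2 : F) ≠ 0 := by
    intro h0
    have h1 : ((2 : ℕ) : F) = 0 := by exact_mod_cast h0
    rw [CharP.cast_eq_zero_iff F p] at h1
    exact hp2 ((Nat.prime_dvd_prime_iff_eq hpp Nat.prime_two).1 h1)
  have hcard : Nat.card F ≠ 2 := card_ne_two h2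
  -- isometries
  have hT : ∀ i, ∃ (T : V ≃ₗ[F] V) (a : F), T ∈ O Q ∧ T ^ (r i) = 1 ∧ a ≠ 0 ∧ ∀ v, (M i).1 v = a • T v :=
    fun i => Cfsg.Agent.H205.RC.box_norm hG hp2 hodd (M i) (hnl i) (hx.prime i)
      ((hl i).pow_scal hG hρ (hx.pow i))
  choose T a hTO hTr ha hTM using hT
  let M' : ι → Gam Q := fun i => gamO (T i) (hTO i)
  have hl' : ∀ i, Lf ρ (x i) (M' i) := fun i => lf_smul (hl i) (hTM i)
  have hcT : ∀ i j, T i * T j = T j * T i := by
    intro i j
    obtain ⟨b, hb, h1⟩ := (hl' i).comm hG hρ (hl' j) (hx.comm i j)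
    ext v
    exact Cfsg.Agent.H205.RC.comm_exact hG.nondeg h2 hodd (M := M' i) (hTO j) (hx.prime j) (hTr j) h1 v
  have hcardN : Nat.card (P Q) = Nat.card N := by
    obtain ⟨e⟩ := Cfsg.Agent.H236.RC.exists_equiv_P hρ
    exact (Nat.card_congr e.toEquiv).symm
  have hC : CV Q Ω N ρ p x M' T (fun _ => 1) r := by
    refine ⟨hG, hE, hρ, hLR, hcardN ▸ hIH, hx.prime, hx.pow, hx.ne, hx.comm, hcov, hl', fun i v => rfl,
      fun i v => ?_, hcT⟩
    rw [one_mul]
    exact hTO i v
  have hns : ∀ i, T i ≠ 1 ∧ ∃ v, T i v ≠ -v := by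
    intro i
    constructor
    · intro h1
      exact hC.not_scal i 1 fun v => by rw [h1, one_smul]; rfl
    · by_contra h1
      push Not at h1
      exact hC.not_scal i (-1) fun v => by rw [h1, neg_one_smul]
  by_cases hp : ∃ i₀, r i₀ = p
  · -- a unipotent member
    obtain ⟨i₀, hi₀⟩ := hp
    obtain ⟨j₀, hj₀⟩ := Cov.two hE hcov hx.ne i₀
    have : Nonempty {i : ι // i ≠ i₀} := ⟨⟨j₀, hj₀⟩⟩
    have hup : T i₀ ^ p = 1 := by rw [← hi₀]; exact hTr i₀
    rcases Cfsg.Agent.H205.RC.box_uni hG hp2 h7 hodd (T i₀) (hTO i₀) hup (hns i₀).1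
        (fun i : {i : ι // i ≠ i₀} => T i) (fun i : {i : ι // i ≠ i₀} => r i) (fun i => hTO i)
        (fun i => hx.prime i) (fun i h => i.2 (hx.inj (h.trans hi₀.symm))) (fun i => hTr i)
        (fun i j => hcT i j) (fun i => hcT i i₀) (fun i => hns i) with
      ⟨W, hWG, hWt, hW1, hW2, v, hvW, hv⟩ | ⟨e, f, b, h, heb, hfb, hb, hsc, hu⟩ |
      ⟨e, w, he, hw, hew, he0, hind, hu, hL⟩
    · have hinv : ∀ i, ∀ v ∈ W, T i v ∈ W := by
        intro i z hz
        by_cases hi : i = i₀
        · subst hi; exact hW2 z hz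
        · exact hW1 ⟨i, hi⟩ z hz
      have hi₀n : ∀ a : F, ¬ ∀ v ∈ W, T i₀ v = a • v := by
        intro a h1
        have h3 : ∀ k : ℕ, ∀ v ∈ W, (T i₀ ^ k) v = a ^ k • v := by
          intro k
          induction k with
          | zero => intro v _; rw [pow_zero, pow_zero, one_smul]; rfl
          | succ k ih =>
            intro v hv
            rw [pow_succ, pow_succ]
            show (T i₀ ^ k) (T i₀ v) = _
            rw [h1 v hv, map_smul, ih v hv, smul_smul, mul_comm]
        have hv0 : v ≠ 0 := by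
          rintro rfl
          exact hv (map_zero _)
        have h4 := h3 p v hvW
        rw [hup] at h4
        have h5 : (a ^ p - 1) • v = 0 := by
          rw [sub_smul, one_smul, ← h4]
          exact sub_self v
        have h6 : a ^ p = 1 := sub_eq_zero.1 ((smul_eq_zero.1 h5).resolve_right hv0)
        have hfr : Fact p.Prime := ⟨hpp⟩
        have h7 : a = 1 := by
          have h8 : (a - 1) ^ p = 0 := by rw [sub_pow_char, one_pow, h6, sub_self]
          exact sub_eq_zero.1 (pow_eq_zero_iff hpp.ne_zero |>.1 h8)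
        apply hv
        rw [h1 v hvW, h7, one_smul]
      refine hC.box_A W hWG hWt hinv ⟨i₀, hi₀n⟩ (hx.inj.injOn) ?_ (Or.inl fun h => hcard h.1)
      rintro i ⟨a, ha⟩ hrp
      have : i = i₀ := hx.inj (hrp.trans hi₀.symm)
      subst this
      exact hi₀n a ha
    · refine box_B3 hC hp2 hx.inj h7 i₀ hi₀ (hTO i₀) hup h heb hfb hb ?_ hu
      intro i hi
      rcases hsc ⟨i, hi⟩ with h1 | h1
      · exact ⟨1, fun v hv => by rw [one_smul]; exact h1 v hv⟩
      · exact ⟨-1, fun v hv => by rw [neg_one_smul]; exact h1 v hv⟩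
    · have hxe : x i₀ = ρ (AutOrth.SemiSim.sg Q e w he hew) := by
        refine eq_of_lf hG hE hρ (hl' i₀) (Lf.tg _) fun v => ?_
        rw [tg_apply]
        show T i₀ v = _
        rw [hu]
        rfl
      refine hC.no_lr {i | i ≠ i₀} (fun i hi h => hi (hx.inj (h.trans hi₀.symm))) he hw hew he0 hind
        (fun i hi => hL ⟨i, hi⟩) fun ω => ?_
      obtain ⟨i, hi⟩ := hcov ω
      by_cases h0 : i = i₀
      · subst h0
        left
        rw [← hxe]
        exact hi
      · exact Or.inr ⟨i, h0, hi⟩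
  · -- no unipotent member
    push Not at hp
    obtain ⟨v, hv, hev⟩ := Cfsg.Agent.H220.RC.box_eig hG.nondeg hp2 hodd T r hTO hx.prime hp hTr hcT
    obtain ⟨hWG, hWt, hdec⟩ := good_perp hG h2 h7 hv
    have hpT : ∀ i a b, polar Q (T i a) (T i b) = polar Q a b := by
      intro i a b
      rw [polar, polar, ← map_add, hTO i, hTO i, hTO i]
    have hinv : ∀ i, ∀ w ∈ LinearMap.ker (polarBilin Q v), T i w ∈ LinearMap.ker (polarBilin Q v) := by
      intro i w hw
      have hw' : polar Q v w = 0 := hw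
      show polar Q v (T i w) = 0
      rcases hev i with h1 | h1
      · rw [← hw', ← hpT i v w, h1]
      · have h3 : v = T i (-v) := by rw [map_neg, h1, neg_neg]
        rw [h3, hpT, polar_neg_left, hw', neg_zero]
    -- a member scalar on `v^⊥` is an involution
    have hinvol : ∀ i, (∃ a : F, ∀ w ∈ LinearMap.ker (polarBilin Q v), T i w = a • w) → r i = 2 := by
      rintro i ⟨a, ha⟩
      have hw0 : ∃ w ∈ LinearMap.ker (polarBilin Q v), Q w ≠ 0 := by
        by_contra hno
        push Not at hno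
        obtain ⟨x1, hx1, -⟩ := hWG.sing
        obtain ⟨y1, hy1⟩ := hWG.nondeg.exists_polar_ne hx1
        apply hy1
        show polar Q (x1 : V) (y1 : V) = 0
        rw [polar, hno _ x1.2, hno _ y1.2, hno _ (Submodule.add_mem _ x1.2 y1.2)]
        simp
      obtain ⟨w, hw, hQw⟩ := hw0
      have ha2 : a * a = 1 := by
        have h1 := hTO i w
        rw [ha w hw, QuadraticMap.map_smul, smul_eq_mul] at h1
        exact mul_right_cancel₀ hQw (h1.trans (one_mul _).symm)
      have hsq : T i ^ 2 = 1 := by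
        ext z
        obtain ⟨b, hb⟩ := hdec z
        have h1 : z = (z - b • v) + b • v := by abel
        rw [h1, map_add, map_smul]
        show T i (T i (z - b • v)) + b • T i (T i v) = (z - b • v) + b • v
        have h3 : T i (T i v) = v := by
          rcases hev i with h | h
          · rw [h, h]
          · rw [h, map_neg, h, neg_neg]
        rw [h3, ha _ hb, map_smul, ha _ hb, smul_smul, ha2, one_smul]
      have h4 : orderOf (T i) ∣ 2 := orderOf_dvd_of_pow_eq_one hsq
      have h5 : orderOf (T i) = r i := orderOf_eq_prime (hp := ⟨hx.prime i⟩) (hTr i) (hns i).1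
      rw [h5] at h4
      exact (Nat.prime_dvd_prime_iff_eq (hx.prime i) Nat.prime_two).1 h4
    have hne : ∃ i, ∀ a : F, ¬ ∀ w ∈ LinearMap.ker (polarBilin Q v), T i w = a • w := by
      by_contra hno
      push Not at hno
      obtain ⟨ω⟩ := ‹Nonempty Ω›
      obtain ⟨i, -⟩ := hcov ω
      obtain ⟨j, hj⟩ := Cov.two hE hcov hx.ne i
      exact hj (hx.inj ((hinvol j (hno j)).trans (hinvol i (hno i)).symm))
    exact hC.box_A _ hWG hWt hinv hne hx.inj.injOn (fun i _ => hp i) (Or.inl fun h => hcard h.1)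

/-- the long root rule in the form of `CV` -/
theorem lr_all {F V G Ω : Type} [Field F] [Finite F] [AddCommGroup V] [Module F V] [FiniteDimensional F V]
    {Q : QuadraticForm F V} [Group G] [Finite G] [MulAction G Ω] [Nonempty Ω] {N : Subgroup G}
    {ρ : ↥(E Q) →* G} (hG : Good Q) (hE : Env G Ω N) (hρ : Rep Q N ρ) (p : ℕ) [CharP F p] :
    LR Q Ω ρ p := by
  intro κ _ y L s h1 h2 h3 h4 h5 h6 u w hu hw huw hu0 hind hL hcov
  exact Cfsg.Agent.H297.RC.box_LR hG hE hρ h1 h2 h3 h4 h5 h6 hu hw huw hu0 hind hL hcov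

theorem exists_pe {F : Type*} [Field F] {ι : Type} [Fintype ι] [DecidableEq ι]
    {Q : QuadraticForm F (ι → F)} {f : (ι → F) → F} (hG : Good Q) (h : ⇑Q = f) :
    Nonempty (Cfsg.POmega F f ≃* P Q) := by
  subst h
  exact ⟨AutOrth.Main.pe hG⟩

/-- **Row `PΩ_{2m+1}(q)`.** -/
theorem row_odd : Row (fun S _ => IsPOmegaOdd S) := by
  intro S _ _ hS hSn hP _ hIH
  obtain ⟨F, _, _, m, hm, hq, ⟨e⟩⟩ := hP
  apply rc_of_noCov hS hSn
  intro G _ _ Ω _ _ _ N hE eN ι _ x r hx hcov _
  classical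
  obtain ⟨p, hp⟩ := CharP.exists F
  have h2 : (2 : F) ≠ 0 := by
    intro h0
    have h1 : CharP F 2 := CharTwo.of_one_ne_zero_of_two_eq_zero one_ne_zero h0
    have h3 := FiniteField.even_card_of_char_two (F := F) (ringChar.eq F 2)
    exact (Nat.not_even_iff_odd.2 hq) (Nat.even_iff.2 h3)
  have hG : Good (Cfsg.Agent.LieClassical.OrthForms.oddForm m F) :=
    Cfsg.Agent.ClassicalGeometry.OrthSemiForms.good_odd (by omega) h2
  obtain ⟨f'⟩ := exists_pe hG (Cfsg.Agent.LieClassical.OrthForms.coe_oddForm m F)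
  have f : S ≃* P (Cfsg.Agent.LieClassical.OrthForms.oddForm m F) := e.trans f'
  obtain ⟨ρ, hρ⟩ := exists_rep eN f
  have hs := AutOrth.Final.surjective_odd (F := F) hm h2
  have hN := hE.norm
  choose M hl using fun i => exists_Lf hN hρ hs (x i)
  refine false_odd hG ?_ ?_ hE hρ (p := p) ?_ (lr_all hG hE hρ p) ?_ hl hx hcov
  · rw [Module.finrank_fintype_fun_eq_card]
    simp only [Fintype.card_sum, Fintype.card_unit, Fintype.card_fin]
    exact ⟨m, by ring⟩
  · rw [Module.finrank_fintype_fun_eq_card]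
    simp only [Fintype.card_sum, Fintype.card_unit, Fintype.card_fin]
    omega
  · rintro rfl
    apply h2
    exact_mod_cast CharP.cast_eq_zero F 2
  · rw [← Nat.card_congr f.toEquiv]
    exact hIH

end Cfsg.Agent.H93.RC
end
end

-- part: H183/RC/PartI_mg
section
prune_inst 0x1100050024c000000000008001000000200000000040000000000000020000000000004012000000000a000000080020000000804040000004000400000000000080040000000008000080000000000000000000000000000000000000000004000000000
set_option linter.all false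
open scoped Cfsg.Agent.FastGrp

-- part: H183/RC/Defs
section
/-!
# S3510, row C (`PSL₂(q)`): the interface (helper183)

* `Acts e g A σ` : for an isomorphism `e : N ≃* PSL₂(F)`, the element `g` of `G` acts on `N` by conjugation as the
  semilinear map `(A, σ)` : `s ↦ A σ(s) A⁻¹`;
* `NoEig A` : `A` has no eigenvector;
* `FixL A σ v` : the line of `v` is invariant under `v ↦ A σ(v)`.
-/

set_option autoImplicit false

open Cfsg Matrix

namespace Cfsg.Agent.H183.RC

/-- `PSL₂(F)` -/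
abbrev PS (F : Type*) [Field F] := Matrix.ProjectiveSpecialLinearGroup (Fin 2) F

/-- `SL₂(F)` -/
abbrev SL (F : Type*) [Field F] := Matrix.SpecialLinearGroup (Fin 2) F

/-- `g` acts on `N` as `s ↦ A σ(s) A⁻¹` -/
def Acts {G F : Type*} [Group G] [Field F] {N : Subgroup G} (e : N ≃* PS F) (g : G) (A : GL (Fin 2) F)
    (σ : F ≃+* F) : Prop :=
  ∀ (n n' : N) (s s' : SL F), (n' : G) = g * n * g⁻¹ →
    (s' : Matrix (Fin 2) (Fin 2) F) = (A : Matrix (Fin 2) (Fin 2) F) * (s : Matrix (Fin 2) (Fin 2) F).map σ *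
      ((A⁻¹ : GL (Fin 2) F) : Matrix (Fin 2) (Fin 2) F) →
    e n = QuotientGroup.mk s → e n' = QuotientGroup.mk s'

/-- the entrywise image of `B` -/
abbrev gmap {F : Type*} [Field F] (σ : F ≃+* F) (B : GL (Fin 2) F) : GL (Fin 2) F :=
  Matrix.GeneralLinearGroup.map (σ : F →+* F) B

/-- `A` has no eigenvector -/
def NoEig {F : Type*} [Field F] (A : GL (Fin 2) F) : Prop :=
  ∀ (c : F) (v : Fin 2 → F), v ≠ 0 → (A : Matrix (Fin 2) (Fin 2) F) *ᵥ v ≠ c • v

/-- the line of `v` is invariant under `(A, σ)` -/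
def FixL {F : Type*} [Field F] (A : GL (Fin 2) F) (σ : F ≃+* F) (v : Fin 2 → F) : Prop :=
  ∃ c : F, (A : Matrix (Fin 2) (Fin 2) F) *ᵥ (fun i => σ (v i)) = c • v

end Cfsg.Agent.H183.RC
end

-- part: H183/RC/Sem
section
/-!
# S3510, row C: the calculus of `Acts` (helper183)

The action of `G` on `N ≅ PSL₂(F)` as a homomorphism `cn` into the automorphism group, `Acts e g A σ ↔ cn g = lift (cj A * fld σ)`.
-/

set_option autoImplicit false

namespace Cfsg.Agent.H183.RC

open Cfsg Matrix Cfsg.Agent.H106.RC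
open Cfsg.Agent.ClassicalGeometry.AutPSL.Root
open Cfsg.Agent.ClassicalGeometry.AutPSL.Auto
open Cfsg.Agent.ClassicalGeometry.AutPSL.Main

section mat

variable {F : Type*} [Field F]

theorem coe_gmap (σ : F ≃+* F) (B : GL (Fin 2) F) :
    ((gmap σ B : GL (Fin 2) F) : Matrix (Fin 2) (Fin 2) F) = (B : Matrix (Fin 2) (Fin 2) F).map σ := rfl

theorem gmap_one (A : GL (Fin 2) F) : gmap (1 : F ≃+* F) A = A := by
  apply Units.ext
  ext i j
  rfl

theorem gmap_gmap (σ τ : F ≃+* F) (A : GL (Fin 2) F) : gmap σ (gmap τ A) = gmap (σ * τ) A := by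
  apply Units.ext
  ext i j
  rfl

theorem fld_mul_cj (σ : F ≃+* F) (A : GL (Fin 2) F) :
    (fld σ : MulAut (SL F)) * cj A = cj (gmap σ A) * fld σ := by
  apply MulEquiv.ext
  intro g
  apply Subtype.ext
  have h1 : (((gmap σ A)⁻¹ : GL (Fin 2) F) : Matrix (Fin 2) (Fin 2) F) =
      ((A⁻¹ : GL (Fin 2) F) : Matrix (Fin 2) (Fin 2) F).map σ := by
    rw [← map_inv]; rfl
  change ((A : Matrix (Fin 2) (Fin 2) F) * g.1 * ((A⁻¹ : GL (Fin 2) F) : Matrix (Fin 2) (Fin 2) F)).map σ =
    (A : Matrix (Fin 2) (Fin 2) F).map σ * (g.1.map σ) * (((gmap σ A)⁻¹ : GL (Fin 2) F) : Matrix (Fin 2) (Fin 2) F)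
  rw [h1]
  change ((A : Matrix (Fin 2) (Fin 2) F) * g.1 * ((A⁻¹ : GL (Fin 2) F) : Matrix (Fin 2) (Fin 2) F)).map (σ : F →+* F) =
    (A : Matrix (Fin 2) (Fin 2) F).map (σ : F →+* F) * (g.1.map (σ : F →+* F)) *
      ((A⁻¹ : GL (Fin 2) F) : Matrix (Fin 2) (Fin 2) F).map (σ : F →+* F)
  rw [Matrix.map_mul, Matrix.map_mul]

theorem cjfld_mul (σ τ : F ≃+* F) (A B : GL (Fin 2) F) :
    (cj A * fld σ) * (cj B * fld τ) = (cj (A * gmap σ B) * fld (σ * τ) : MulAut (SL F)) := by
  rw [map_mul cj, map_mul fld, mul_assoc, ← mul_assoc (fld σ), fld_mul_cj]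
  simp only [mul_assoc]

theorem cj_smul {A A' : GL (Fin 2) F} (c : F)
    (hA : (A' : Matrix (Fin 2) (Fin 2) F) = c • (A : Matrix (Fin 2) (Fin 2) F)) : cj A' = cj A := by
  have h1 : cj (A' * A⁻¹) = 1 := by
    apply cj_eq_one_of_scalar (r := c)
    rw [Units.val_mul, hA, Matrix.smul_mul, ← Units.val_mul, mul_inv_cancel, Units.val_one]
    ext i j
    rw [Matrix.scalar_apply, Matrix.diagonal_apply, Matrix.smul_apply, Matrix.one_apply]
    split_ifs <;> simp
  rw [map_mul, map_inv] at h1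
  exact mul_inv_eq_one.1 h1

theorem map_mulVec (σ : F ≃+* F) (M : Matrix (Fin 2) (Fin 2) F) (v : Fin 2 → F) :
    (fun i => σ ((M *ᵥ v) i)) = (M.map σ) *ᵥ (fun i => σ (v i)) := by
  funext i
  simp only [Matrix.mulVec, dotProduct, Matrix.map_apply, _root_.Fin.sum_univ_two, _root_.Fin.isValue, _root_.map_add, _root_.map_mul]

end mat

section cn

variable {G F : Type*} [Group G] [Field F] {N : Subgroup G}

/-- the action of `g` on `N`, moved to `PSL₂(F)` -/
noncomputable def cn (hN : N.Normal) (e : N ≃* PS F) : G →* MulAut (PS F) :=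
  (MulAut.congr e).toMonoidHom.comp (MulAut.conjNormal (G := G) (H := N))

theorem cn_apply (hN : N.Normal) (e : N ≃* PS F) (g : G) (n : N) :
    cn hN e g (e n) = e ⟨g * n * g⁻¹, hN.conj_mem _ n.2 g⟩ := by
  change e (MulAut.conjNormal g (e.symm (e n))) = _
  rw [e.symm_apply_apply]
  rfl

theorem acts_iff (hN : N.Normal) {e : N ≃* PS F} {g : G} {A : GL (Fin 2) F} {σ : F ≃+* F} :
    Acts e g A σ ↔ cn hN e g = lift (cj A * fld σ) := by
  constructor
  · intro h
    apply MulEquiv.ext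
    intro y
    obtain ⟨n, rfl⟩ := e.surjective y
    obtain ⟨s, hs⟩ := pr_surjective (e n)
    rw [cn_apply, ← hs, lift_pr]
    exact h n ⟨g * n * g⁻¹, hN.conj_mem _ n.2 g⟩ s ((cj A * fld σ : MulAut (SL F)) s) rfl rfl hs.symm
  · intro h n n' s s' hn hs he
    have h1 := cn_apply hN e g n
    rw [he, h] at h1
    have h2 : n' = ⟨g * n * g⁻¹, hN.conj_mem _ n.2 g⟩ := Subtype.ext hn
    rw [h2, ← h1]
    change lift (cj A * fld σ) (pr s) = pr s'
    rw [lift_pr]
    congr 1
    exact Subtype.ext hs.symm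

theorem cn_injective (hN : N.Normal) (hc : Subgroup.centralizer (N : Set G) = ⊥) (e : N ≃* PS F) :
    Function.Injective (cn hN e) := by
  rw [injective_iff_map_eq_one]
  intro g hg
  have h1 : g ∈ Subgroup.centralizer (N : Set G) := by
    rw [Subgroup.mem_centralizer_iff]
    intro n hn
    have h2 := cn_apply hN e g ⟨n, hn⟩
    rw [hg, MulAut.one_apply] at h2
    have h3 := congrArg Subtype.val (e.injective h2)
    have h4 : n = g * n * g⁻¹ := h3
    calc n * g = (g * n * g⁻¹) * g := by rw [← h4]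
      _ = g * n := by group
  rw [hc] at h1
  exact Subgroup.mem_bot.1 h1

theorem acts_exists [Finite F] (hN : N.Normal) (e : N ≃* PS F) (_h4 : 4 ≤ Nat.card F) (g : G) :
    ∃ (A : GL (Fin 2) F) (σ : F ≃+* F), Acts e g A σ := by
  obtain ⟨p, hp⟩ := CharP.exists F
  have hpr : Fact p.Prime := ⟨(CharP.char_is_prime_or_zero F p).resolve_right (CharP.char_ne_zero_of_finite F p)⟩
  have := Fintype.ofFinite F
  obtain ⟨A, σ, h⟩ := surj_two p (cn hN e g)
  exact ⟨A, σ, (acts_iff hN).2 h⟩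

theorem acts_one (e : N ≃* PS F) : Acts e 1 1 1 := by
  intro n n' s s' hn hs he
  have h1 : n' = n := Subtype.ext (by simpa using hn)
  have h2 : s' = s := by
    apply Subtype.ext
    rw [hs]
    have : (s : Matrix (Fin 2) (Fin 2) F).map (1 : F ≃+* F) = s := by
      ext i j
      rfl
    simp
  rw [h1, h2, he]

theorem acts_mul (hN : N.Normal) {e : N ≃* PS F} {g h : G} {A B : GL (Fin 2) F} {σ τ : F ≃+* F}
    (h1 : Acts e g A σ) (h2 : Acts e h B τ) : Acts e (g * h) (A * gmap σ B) (σ * τ) := by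
  rw [acts_iff hN] at h1 h2 ⊢
  rw [map_mul, h1, h2, ← map_mul, cjfld_mul]

theorem acts_pow (hN : N.Normal) {e : N ≃* PS F} {g : G} {A : GL (Fin 2) F}
    (h1 : Acts e g A 1) (n : ℕ) : Acts e (g ^ n) (A ^ n) 1 := by
  rw [acts_iff hN] at h1 ⊢
  rw [map_pow, h1, map_one, mul_one, ← map_pow, ← map_pow, mul_one]

theorem acts_inv (hN : N.Normal) {e : N ≃* PS F} {g : G} {A : GL (Fin 2) F} {σ : F ≃+* F}
    (h1 : Acts e g A σ) : Acts e g⁻¹ (gmap σ⁻¹ A⁻¹) σ⁻¹ := by
  rw [acts_iff hN] at h1 ⊢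
  rw [map_inv, h1, ← map_inv]
  congr 1
  rw [inv_eq_iff_mul_eq_one, cjfld_mul, gmap_gmap, mul_inv_cancel, gmap_one, mul_inv_cancel, map_one, map_one, mul_one]

/-- an element of `N` acts as an inner automorphism -/
theorem acts_mem {e : N ≃* PS F} (n : N) (s : SL F) (h : e n = QuotientGroup.mk s) :
    Acts e (n : G) (Matrix.SpecialLinearGroup.toGL s) 1 := by
  intro m m' u u' hm hu hem
  have h1 : m' = n * m * n⁻¹ := Subtype.ext hm
  have h2 : u' = s * u * s⁻¹ := by
    apply Subtype.ext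
    rw [hu]
    have h3 : (u : Matrix (Fin 2) (Fin 2) F).map (1 : F ≃+* F) = u := by
      ext i j
      rfl
    rw [h3, ← map_inv]
    rfl
  rw [h1, h2, map_mul, map_mul, map_inv, h, hem]
  rfl

/-- scalars do not matter -/
theorem acts_smul {e : N ≃* PS F} {g : G} {A A' : GL (Fin 2) F} {σ : F ≃+* F} (h : Acts e g A σ) (c : F)
    (hA : (A' : Matrix (Fin 2) (Fin 2) F) = c • (A : Matrix (Fin 2) (Fin 2) F)) : Acts e g A' σ := by
  intro n n' s s' hn hs he
  refine h n n' s s' hn ?_ he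
  rw [hs]
  have h1 := congrArg (fun f : MulAut (SL F) => ((f (fld σ s) : SL F) : Matrix (Fin 2) (Fin 2) F)) (cj_smul c hA)
  exact h1

/-- uniqueness -/
theorem acts_uniq [Finite F] (hN : N.Normal) {e : N ≃* PS F} (_h4 : 4 ≤ Nat.card F) {g : G}
    {A A' : GL (Fin 2) F} {σ σ' : F ≃+* F} (h : Acts e g A σ) (h' : Acts e g A' σ') :
    σ = σ' ∧ ∃ c : F, c ≠ 0 ∧ (A' : Matrix (Fin 2) (Fin 2) F) = c • (A : Matrix (Fin 2) (Fin 2) F) := by
  rw [acts_iff hN] at h h'
  rw [h] at h'
  have h1 : lift (cj (A⁻¹ * A') * fld σ') = lift (fld σ) := by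
    rw [map_mul cj, map_inv, mul_assoc, map_mul, ← h', ← map_mul, ← mul_assoc, inv_mul_cancel, one_mul]
  obtain ⟨⟨c, hc⟩, hσ⟩ := injective_aux h1
  refine ⟨hσ.symm, c, ?_, ?_⟩
  · rintro rfl
    have h2 : ((A⁻¹ * A' : GL (Fin 2) F) : Matrix (Fin 2) (Fin 2) F) = 0 := by rw [← hc]; simp
    exact (A⁻¹ * A').ne_zero h2
  · have h2 : (A' : Matrix (Fin 2) (Fin 2) F) =
        (A : Matrix (Fin 2) (Fin 2) F) * ((A⁻¹ * A' : GL (Fin 2) F) : Matrix (Fin 2) (Fin 2) F) := by
      rw [← Units.val_mul, mul_inv_cancel_left]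
    rw [h2, ← hc]
    ext i j
    rw [Matrix.scalar_apply, Matrix.mul_diagonal, Matrix.smul_apply, smul_eq_mul, mul_comm]

/-- injectivity -/
theorem acts_inj (hN : N.Normal) (hc : Subgroup.centralizer (N : Set G) = ⊥) {e : N ≃* PS F} {g g' : G}
    {A : GL (Fin 2) F} {σ : F ≃+* F} (h : Acts e g A σ) (h' : Acts e g' A σ) : g = g' := by
  rw [acts_iff hN] at h h'
  exact cn_injective hN hc e (h.trans h'.symm)

/-- commuting elements -/
theorem acts_comm [Finite F] (hN : N.Normal) {e : N ≃* PS F} (h4 : 4 ≤ Nat.card F) {g g' : G}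
    {A A' : GL (Fin 2) F} {σ σ' : F ≃+* F} (h : Acts e g A σ) (h' : Acts e g' A' σ') (hgg : g * g' = g' * g) :
    σ * σ' = σ' * σ ∧ ∃ c : F, c ≠ 0 ∧ ((A' * gmap σ' A : GL (Fin 2) F) : Matrix (Fin 2) (Fin 2) F) =
      c • ((A * gmap σ A' : GL (Fin 2) F) : Matrix (Fin 2) (Fin 2) F) := by
  have h1 := acts_mul hN h h'
  have h2 := acts_mul hN h' h
  rw [← hgg] at h2
  exact acts_uniq hN h4 h1 h2

/-- elements with `A` scalar and `σ = 1` are trivial -/
theorem acts_triv (hN : N.Normal) (hc : Subgroup.centralizer (N : Set G) = ⊥) {e : N ≃* PS F} {g : G}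
    {A : GL (Fin 2) F} (h : Acts e g A 1) (c : F)
    (hA : (A : Matrix (Fin 2) (Fin 2) F) = c • (1 : Matrix (Fin 2) (Fin 2) F)) : g = 1 := by
  apply acts_inj hN hc h
  exact acts_smul (acts_one e) c (by rw [hA]; rfl)

/-- change of basis -/
theorem exists_chg (e : N ≃* PS F) (P : GL (Fin 2) F) :
    ∃ e' : N ≃* PS F, (∀ (n : N) (s s' : SL F), e n = QuotientGroup.mk s →
        (s' : Matrix (Fin 2) (Fin 2) F) = (P : Matrix (Fin 2) (Fin 2) F) * (s : Matrix (Fin 2) (Fin 2) F) *
          ((P⁻¹ : GL (Fin 2) F) : Matrix (Fin 2) (Fin 2) F) → e' n = QuotientGroup.mk s') ∧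
      ∀ (g : G) (A : GL (Fin 2) F) (σ : F ≃+* F), Acts e g A σ → Acts e' g (P * A * (gmap σ P)⁻¹) σ := by
  have key : ∀ (n : N) (s s' : SL F), e n = QuotientGroup.mk s →
        (s' : Matrix (Fin 2) (Fin 2) F) = (P : Matrix (Fin 2) (Fin 2) F) * (s : Matrix (Fin 2) (Fin 2) F) *
          ((P⁻¹ : GL (Fin 2) F) : Matrix (Fin 2) (Fin 2) F) →
        (e.trans (lift (cj P))) n = QuotientGroup.mk s' := by
    intro n s s' he hs
    rw [MulEquiv.trans_apply, he]
    change lift (cj P) (pr s) = pr s'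
    rw [lift_pr]
    congr 1
    exact Subtype.ext hs.symm
  refine ⟨e.trans (lift (cj P)), key, ?_⟩
  intro g A σ h n n' s s' hn hs he
  -- `u = P⁻¹ s P`
  set u : SL F := cj P⁻¹ s with hu
  set u' : SL F := (cj A * fld σ : MulAut (SL F)) u with hu'
  have h1 : e n = QuotientGroup.mk u := by
    have h2 : lift (cj P) (e n) = pr s := he
    have h3 : lift (cj P) (pr u) = pr s := by
      rw [lift_pr, hu, ← MulAut.mul_apply, ← map_mul, mul_inv_cancel, map_one, MulAut.one_apply]
    exact (lift (cj P)).injective (h2.trans h3.symm)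
  have h4 := h n n' u u' hn rfl h1
  refine key n' u' s' h4 ?_
  have h5 : (cj (P * A * (gmap σ P)⁻¹) * fld σ : MulAut (SL F)) s = cj P u' := by
    rw [hu', hu, ← MulAut.mul_apply, ← MulAut.mul_apply]
    congr 1
    rw [map_mul cj (P * A), map_mul cj P, mul_assoc (cj P) (cj A * fld σ), mul_assoc (cj A) (fld σ), fld_mul_cj,
      show gmap σ P⁻¹ = (gmap σ P)⁻¹ from map_inv _ _]
    simp only [mul_assoc]
  have h6 := congrArg Subtype.val h5
  rw [hs]
  exact h6

theorem fixL_chg {A : GL (Fin 2) F} {σ : F ≃+* F} {v : Fin 2 → F} (h : FixL A σ v) (P : GL (Fin 2) F) :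
    FixL (P * A * (gmap σ P)⁻¹) σ ((P : Matrix (Fin 2) (Fin 2) F) *ᵥ v) := by
  obtain ⟨c, hc⟩ := h
  refine ⟨c, ?_⟩
  rw [map_mulVec, Matrix.mulVec_mulVec]
  have h1 : ((P * A * (gmap σ P)⁻¹ : GL (Fin 2) F) : Matrix (Fin 2) (Fin 2) F) * (P : Matrix (Fin 2) (Fin 2) F).map σ =
      ((P * A : GL (Fin 2) F) : Matrix (Fin 2) (Fin 2) F) := by
    rw [← coe_gmap, ← Units.val_mul, inv_mul_cancel_right]
  rw [h1, Units.val_mul, ← Matrix.mulVec_mulVec, hc, Matrix.mulVec_smul]

end cn

end Cfsg.Agent.H183.RC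
end

-- part: H183/RC/Uni
section
/-!
# S3510, row C: trace functional, transvections and torus of `PSL₂(F)` inside `G` (helper183)
-/

set_option autoImplicit false

namespace Cfsg.Agent.H183.RC

open Cfsg Matrix Cfsg.Agent.H106.RC
open Cfsg.Agent.ClassicalGeometry.AutPSL.Root

section tr

variable (F : Type*) [Field F] [Finite F]

/-- a Galois invariant functional -/
theorem exists_trace : ∃ T : F →+ ZMod (ringChar F), (∀ (σ : F ≃+* F) (a : F), T (σ a) = T a) ∧
    (∀ c : F, (∀ b, T (c * b) = 0) → c = 0) ∧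
    (∀ K : AddSubgroup F, K ≠ ⊤ → ∃ c : F, c ≠ 0 ∧ ∀ b ∈ K, T (c * b) = 0) := by
  have hp : Fact (ringChar F).Prime :=
    ⟨(CharP.char_is_prime_or_zero F (ringChar F)).resolve_right (CharP.char_ne_zero_of_finite F (ringChar F))⟩
  let _ : Algebra (ZMod (ringChar F)) F := ZMod.algebra F (ringChar F)
  have hfin : FiniteDimensional (ZMod (ringChar F)) F := Module.Finite.of_finite
  refine ⟨(Algebra.trace (ZMod (ringChar F)) F).toAddMonoidHom, ?_, ?_, ?_⟩
  · intro σ a
    let σ' : F ≃ₐ[ZMod (ringChar F)] F := AlgEquiv.ofRingEquiv (f := σ) (fun r =>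
      RingHom.congr_fun (Subsingleton.elim ((σ : F →+* F).comp (algebraMap (ZMod (ringChar F)) F))
        (algebraMap (ZMod (ringChar F)) F)) r)
    exact Algebra.trace_eq_of_algEquiv σ' a
  · intro c hc
    by_contra h0
    obtain ⟨b, hb⟩ := FiniteField.trace_to_zmod_nondegenerate F h0
    exact hb (hc b)
  · intro K hK
    let W : Submodule (ZMod (ringChar F)) F := AddSubgroup.toZModSubmodule (ringChar F) K
    have hW : W < ⊤ := by
      rw [lt_top_iff_ne_top]
      intro h
      apply hK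
      rw [eq_top_iff]
      intro b _
      have : b ∈ W := by rw [h]; trivial
      exact this
    obtain ⟨f, hf0, hf⟩ := Submodule.exists_le_ker_of_lt_top W hW
    let φ : F →ₗ[ZMod (ringChar F)] Module.Dual (ZMod (ringChar F)) F :=
      LinearMap.mk₂ (ZMod (ringChar F)) (fun c b => Algebra.trace (ZMod (ringChar F)) F (c * b))
        (fun a b c => by rw [add_mul, map_add]) (fun r a b => by rw [smul_mul_assoc, map_smul])
        (fun a b c => by rw [mul_add, map_add]) (fun r a b => by rw [mul_smul_comm, map_smul])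
    have hφ : Function.Injective φ := by
      rw [← LinearMap.ker_eq_bot, LinearMap.ker_eq_bot']
      intro c hc
      by_contra h0
      obtain ⟨b, hb⟩ := FiniteField.trace_to_zmod_nondegenerate F h0
      exact hb (LinearMap.congr_fun hc b)
    have hs : Function.Surjective φ :=
      (LinearMap.injective_iff_surjective_of_finrank_eq_finrank (Subspace.dual_finrank_eq).symm).1 hφ
    obtain ⟨c, rfl⟩ := hs f
    refine ⟨c, ?_, fun b hb => hf hb⟩
    rintro rfl
    exact hf0 (map_zero φ)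

end tr

section uni

variable {G F : Type*} [Group G] [Field F] {N : Subgroup G}

/-- `1 + b E₀₁` -/
def us (b : F) : SL F := ⟨!![1, b; 0, 1], by simp [Matrix.det_fin_two]⟩

theorem coe_us (b : F) : ((us b : SL F) : Matrix (Fin 2) (Fin 2) F) = !![1, b; 0, 1] := rfl

/-- `diag(s, s⁻¹)` -/
def ds (s : F) (hs : s ≠ 0) : SL F := ⟨!![s, 0; 0, s⁻¹], by simp [Matrix.det_fin_two, hs]⟩

theorem us_add (a b : F) : us (a + b) = us a * us b := by
  apply Subtype.ext
  rw [Matrix.SpecialLinearGroup.coe_mul, coe_us, coe_us, coe_us, Matrix.mul_fin_two]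
  simp [add_comm]

theorem us_zero : us (0 : F) = 1 := by
  apply Subtype.ext
  rw [coe_us, Matrix.SpecialLinearGroup.coe_one, Matrix.one_fin_two]

/-- the transvections as elements of `G` -/
noncomputable def unH (e : N ≃* PS F) : Multiplicative F →* G where
  toFun b := (e.symm (QuotientGroup.mk (us (Multiplicative.toAdd b))) : N)
  map_one' := by
    change ((e.symm (QuotientGroup.mk (us (0 : F))) : N) : G) = 1
    rw [us_zero, QuotientGroup.mk_one, map_one]
    rfl
  map_mul' a b := by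
    change ((e.symm (QuotientGroup.mk (us (Multiplicative.toAdd a + Multiplicative.toAdd b))) : N) : G) = _
    rw [us_add, QuotientGroup.mk_mul, map_mul]
    rfl

/-- the transvections as elements of `G` -/
noncomputable def un (e : N ≃* PS F) (b : F) : G := (e.symm (QuotientGroup.mk (us b)) : N)

theorem un_add (e : N ≃* PS F) (a b : F) : (un e (a + b) : G) = un e a * un e b :=
  map_mul (unH e) (Multiplicative.ofAdd a) (Multiplicative.ofAdd b)

theorem un_zero (e : N ≃* PS F) : (un e 0 : G) = 1 := map_one (unH e)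

theorem un_neg (e : N ≃* PS F) (a : F) : (un e (-a) : G) = (un e a)⁻¹ :=
  map_inv (unH e) (Multiplicative.ofAdd a)

theorem un_mem (e : N ≃* PS F) (b : F) : (un e b : G) ∈ N := (e.symm (QuotientGroup.mk (us b))).2

theorem un_one_ne (e : N ≃* PS F) : (un e 1 : G) ≠ 1 := by
  intro h
  have h1 : (e.symm (QuotientGroup.mk (us 1)) : N) = 1 := Subtype.ext h
  have h2 : (pr (us (1 : F)) : PS F) = 1 := by
    have := congrArg e h1
    rw [e.apply_symm_apply, map_one] at this
    exact this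
  rw [pr_eq_one_iff, Matrix.SpecialLinearGroup.mem_center_iff] at h2
  obtain ⟨r, -, hr⟩ := h2
  have h3 := congrFun (congrFun hr 0) 1
  rw [coe_us] at h3
  simp at h3

theorem diag_ne {A : GL (Fin 2) F} (h : (A : Matrix (Fin 2) (Fin 2) F) 1 0 = 0) :
    (A : Matrix (Fin 2) (Fin 2) F) 0 0 ≠ 0 ∧ (A : Matrix (Fin 2) (Fin 2) F) 1 1 ≠ 0 := by
  have h1 : (A : Matrix (Fin 2) (Fin 2) F).det ≠ 0 := A.det.ne_zero
  rw [Matrix.det_fin_two, h, mul_zero, sub_zero] at h1
  exact ⟨left_ne_zero_of_mul h1, right_ne_zero_of_mul h1⟩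

theorem acts_un (hN : N.Normal) {e : N ≃* PS F} {g : G} {A : GL (Fin 2) F} {σ : F ≃+* F} (h : Acts e g A σ)
    (hA : (A : Matrix (Fin 2) (Fin 2) F) 1 0 = 0) (b : F) :
    g * un e b * g⁻¹ =
      un e ((A : Matrix (Fin 2) (Fin 2) F) 0 0 / (A : Matrix (Fin 2) (Fin 2) F) 1 1 * σ b) := by
  obtain ⟨h0, h1⟩ := diag_ne hA
  have h2 := h ⟨un e b, un_mem e b⟩ ⟨g * un e b * g⁻¹, hN.conj_mem _ (un_mem e b) g⟩ (us b)
    (us ((A : Matrix (Fin 2) (Fin 2) F) 0 0 / (A : Matrix (Fin 2) (Fin 2) F) 1 1 * σ b)) rfl ?_ ?_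
  · have h3 := congrArg (fun z => ((e.symm z : N) : G)) h2
    simp only [e.symm_apply_apply] at h3
    exact h3
  · have h3 : (us ((A : Matrix (Fin 2) (Fin 2) F) 0 0 / (A : Matrix (Fin 2) (Fin 2) F) 1 1 * σ b) :
        Matrix (Fin 2) (Fin 2) F) * (A : Matrix (Fin 2) (Fin 2) F) =
        (A : Matrix (Fin 2) (Fin 2) F) * (us b : Matrix (Fin 2) (Fin 2) F).map σ := by
      rw [coe_us, coe_us]
      ext i j
      (revert i j; simp only [Matrix.mul_apply, Fin.sum_univ_two, hA, Matrix.map_apply, _root_.Fin.forall_fin_succ, Fin.isValue, _root_.Matrix.of_apply, _root_.Matrix.cons_val', _root_.Matrix.cons_val_fin_one, _root_.Matrix.cons_val_zero, _root_.Matrix.cons_val_one, _root_.MulZeroClass.mul_zero, _root_.add_zero, _root_.map_one, _root_.mul_one, _root_.map_zero, _root_.Matrix.cons_val_succ, _root_.Fin.succ_zero_eq_one, _root_.IsEmpty.forall_iff, _root_.one_mul, _root_.MulZeroClass.zero_mul, _root_.zero_add, _root_.and_true, _root_.true_and]) <;> (repeat'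 with_reducible apply And.intro)
      field_simp
      ring
    rw [← h3, mul_assoc, ← Units.val_mul, mul_inv_cancel, Units.val_one, mul_one]
  · change e (e.symm _) = _
    rw [e.apply_symm_apply]

/-- the torus as elements of `G` -/
noncomputable def dn (e : N ≃* PS F) (s : F) (hs : s ≠ 0) : G := (e.symm (QuotientGroup.mk (ds s hs)) : N)

theorem dn_un (hN : N.Normal) (e : N ≃* PS F) (s : F) (hs : s ≠ 0) (b : F) :
    dn e s hs * un e b * (dn e s hs)⁻¹ = (un e (s ^ 2 * b) : G) := by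
  have h1 : Acts e (dn e s hs : G) (Matrix.SpecialLinearGroup.toGL (ds s hs)) 1 :=
    acts_mem _ _ (e.apply_symm_apply _)
  rw [acts_un hN h1 rfl]
  congr 1
  change s / s⁻¹ * b = s ^ 2 * b
  rw [div_inv_eq_mul, pow_two]

theorem eq_un (hN : N.Normal) (hc : Subgroup.centralizer (N : Set G) = ⊥) {e : N ≃* PS F} {g : G} {A : GL (Fin 2) F}
    (h : Acts e g A 1) (hA : (A : Matrix (Fin 2) (Fin 2) F) 1 0 = 0)
    (hd : (A : Matrix (Fin 2) (Fin 2) F) 0 0 = (A : Matrix (Fin 2) (Fin 2) F) 1 1) :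
    g = un e ((A : Matrix (Fin 2) (Fin 2) F) 0 1 / (A : Matrix (Fin 2) (Fin 2) F) 0 0) := by
  obtain ⟨h0, h1⟩ := diag_ne hA
  apply acts_inj hN hc h
  have h2 : Acts e (un e ((A : Matrix (Fin 2) (Fin 2) F) 0 1 / (A : Matrix (Fin 2) (Fin 2) F) 0 0) : G)
    (Matrix.SpecialLinearGroup.toGL (us _)) 1 := acts_mem _ _ (e.apply_symm_apply _)
  refine acts_smul h2 ((A : Matrix (Fin 2) (Fin 2) F) 0 0) ?_
  change (A : Matrix (Fin 2) (Fin 2) F) = (A : Matrix (Fin 2) (Fin 2) F) 0 0 • !![1, _; 0, 1]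
  ext i j
  (revert i j; simp only [hA, hd, _root_.Fin.forall_fin_succ, Fin.isValue, _root_.Matrix.smul_apply, _root_.Matrix.of_apply, _root_.Matrix.cons_val', _root_.Matrix.cons_val_fin_one, _root_.smul_eq_mul, _root_.Matrix.cons_val_zero, _root_.Matrix.cons_val_succ, _root_.Fin.succ_zero_eq_one, _root_.IsEmpty.forall_iff, _root_.mul_one, _root_.MulZeroClass.mul_zero, _root_.and_true, _root_.true_and]) <;> (repeat' with_reducible apply And.intro)
  field_simp

end uni

end Cfsg.Agent.H183.RC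
end

-- part: H588/RC/Count
section
/-!
# S3510, row C, task B: a good multiple `c s²` (helper588)

`count` : exact statement of `tools/plans/S3510_C.lean.txt`.
-/

set_option autoImplicit false

namespace Cfsg.Agent.H588.RC

/-- the fixed field -/
def fx {K : Type*} [Field K] (τ : K ≃+* K) : Subfield K := RingHom.eqLocusField (τ : K →+* K) (RingHom.id K)

theorem mem_fx {K : Type*} [Field K] {τ : K ≃+* K} {a : K} : a ∈ fx τ ↔ τ a = a := Iff.rfl

/-- the degree of the fixed field of an automorphism of order `p` -/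
theorem card_fx {K : Type*} [Field K] [Finite K] {p : ℕ} (hp : p.Prime) {τ : K ≃+* K} (hτ : τ ^ p = 1) (hτ1 : τ ≠ 1) :
    Nat.card K = Nat.card ↥(fx τ) ^ p := by
  classical
  have : Fact p.Prime := ⟨hp⟩
  have ho : orderOf τ = p := orderOf_eq_prime hτ hτ1
  let G : Subgroup (K ≃+* K) := Subgroup.zpowers τ
  have hGc : Nat.card ↥G = p := by rw [Nat.card_zpowers, ho]
  have hfin : Finite ↥G := Nat.finite_of_card_ne_zero (by rw [hGc]; exact hp.ne_zero)
  have : Fintype ↥G := Fintype.ofFinite _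
  have hff : FaithfulSMul ↥G K := ⟨fun {a b} h => by
    apply Subtype.ext
    ext x
    exact h x⟩
  have h1 := FixedPoints.finrank_eq_card ↥G K
  rw [← Nat.card_eq_fintype_card, hGc] at h1
  have h2 : FixedPoints.subfield ↥G K = fx τ := by
    ext a
    rw [mem_fx]
    constructor
    · intro ha
      exact ha ⟨τ, Subgroup.mem_zpowers τ⟩
    · rintro ha ⟨g, hg⟩
      have h1 : Subgroup.zpowers τ ≤ MulAction.stabilizer (K ≃+* K) a := by
        rw [Subgroup.zpowers_le]
        exact ha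
      exact h1 hg
  rw [h2] at h1
  have h3 : Nat.card K = Nat.card ↥(fx τ) ^ Module.finrank ↥(fx τ) K :=
    Module.natCard_eq_pow_finrank (K := ↥(fx τ)) (V := K)
  rw [h3, h1]

theorem fx_pow {K : Type*} [Field K] [Finite K] {p f r : ℕ} (hp : p.Prime) (hK : Nat.card K = p ^ f) (hr : r.Prime)
    {τ : K ≃+* K} (hτ : τ ^ r = 1) (hτ1 : τ ≠ 1) : ∃ m, Nat.card ↥(fx τ) = p ^ m ∧ r * m = f ∧ 1 ≤ m := by
  have h1 := card_fx hr hτ hτ1
  have h2 : Nat.card ↥(fx τ) ∣ p ^ f := by
    rw [← hK, h1]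
    exact dvd_pow_self _ hr.ne_zero
  obtain ⟨m, -, hm⟩ := (Nat.dvd_prime_pow hp).1 h2
  refine ⟨m, hm, ?_, ?_⟩
  · rw [hK, hm, ← pow_mul] at h1
    rw [mul_comm]
    exact (Nat.pow_right_injective hp.two_le h1).symm
  · rcases Nat.eq_zero_or_pos m with h | h
    · exfalso
      rw [h, pow_zero] at hm
      have : Nontrivial ↥(fx τ) := inferInstance
      exact absurd (Finite.one_lt_card (α := ↥(fx τ))) (by rw [hm]; exact lt_irrefl _)
    · exact h

/-- the sum -/
def Sg (p M : ℕ) : ℕ := ∑ j ∈ Finset.Icc 1 M, (p ^ j - 1)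

theorem geo {p : ℕ} (hp : 1 ≤ p) (M : ℕ) : (p - 1) * Sg p M + p + (p - 1) * M = p ^ (M + 1) := by
  induction M with
  | zero => simp only [Sg, _root_.Order.lt_one_iff, _root_.Finset.Icc_eq_empty_of_lt, _root_.Finset.sum_empty, _root_.MulZeroClass.mul_zero, _root_.zero_add, _root_.add_zero, _root_.pow_one]
  | succ M ih =>
    have h1 : Sg p (M + 1) = Sg p M + (p ^ (M + 1) - 1) := by
      unfold Sg
      rw [Finset.sum_Icc_succ_top (by omega)]
    obtain ⟨k, rfl⟩ : ∃ k, p = k + 1 := ⟨p - 1, by omega⟩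
    have h2 : 1 ≤ (k + 1) ^ (M + 1) := Nat.one_le_pow _ _ (by omega)
    obtain ⟨t, ht⟩ : ∃ t, (k + 1) ^ (M + 1) = t + 1 := ⟨(k + 1) ^ (M + 1) - 1, by omega⟩
    rw [h1, pow_succ (k + 1) (M + 1), ht]
    rw [ht] at ih
    simp only [Nat.add_sub_cancel] at ih ⊢
    linear_combination ih

theorem sum_le {ι : Type*} [Fintype ι] {p M : ℕ} (m : ι → ℕ) (hm : Function.Injective m) (h1 : ∀ i, 1 ≤ m i)
    (h2 : ∀ i, m i ≤ M) : ∑ i, (p ^ m i - 1) ≤ Sg p M := by
  classical
  unfold Sg
  rw [← Finset.sum_image (s := Finset.univ) (g := m) (f := fun j => p ^ j - 1) (fun _ _ _ _ h => hm h)]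
  refine Finset.sum_le_sum_of_subset fun j hj => ?_
  obtain ⟨i, -, rfl⟩ := Finset.mem_image.1 hj
  exact Finset.mem_Icc.2 ⟨h1 i, h2 i⟩

theorem ineq1 {p M f : ℕ} (hp : p.Prime) (h : M + 1 ≤ f ∨ (f = 1 ∧ M = 0)) (hq : 7 ≤ p ^ f) :
    (if p = 2 then 1 else 2) * Sg p M < p ^ f - 1 := by
  have h2 := hp.two_le
  rcases h with h | ⟨rfl, rfl⟩
  · have h3 := geo (p := p) (by omega) M
    have h4 : p ^ (M + 1) ≤ p ^ f := Nat.pow_le_pow_right (by omega) h
    by_cases hp2 : p = 2
    · subst hp2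
      simp only [if_true]
      omega
    · rw [if_neg hp2]
      have h5 : 2 * Sg p M ≤ (p - 1) * Sg p M := Nat.mul_le_mul_right _ (by omega)
      omega
  · simp only [Sg]
    simp only [_root_.Order.lt_one_iff, _root_.Finset.Icc_eq_empty_of_lt, _root_.Finset.sum_empty, _root_.MulZeroClass.mul_zero, _root_.pow_one, _root_.tsub_pos_iff_lt, _root_.gt_iff_lt]
    simp at hq
    omega

theorem ineq2 {p M f : ℕ} (hp : p.Prime) (h : M + 1 ≤ f ∨ (f = 1 ∧ M = 0)) (h' : p ≤ 3 → M + 2 ≤ f)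
    (hq : 7 ≤ p ^ f) : (if p = 2 then 1 else 2) * (p ^ (f - 1) - 1 + Sg p M) < p ^ f - 1 := by
  have h2 := hp.two_le
  have h3 := geo (p := p) (by omega) M
  by_cases hp3 : p ≤ 3
  · have h4 := h' hp3
    have h5 : p ^ (M + 1) ≤ p ^ (f - 1) := Nat.pow_le_pow_right (by omega) (by omega)
    obtain ⟨g, rfl⟩ : ∃ g, f = g + 1 := ⟨f - 1, by omega⟩
    simp only [Nat.add_sub_cancel] at h5 ⊢
    rw [pow_succ] at hq ⊢
    interval_cases p
    · simp only [if_true]
      omega
    · simp only [show ¬ (3 = 2) by norm_num, if_false]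
      omega
  · rw [if_neg (by omega)]
    have hp5 : 5 ≤ p := by
      rcases Nat.lt_or_ge p 5 with h6 | h6
      · have : p = 4 := by omega
        rw [this] at hp
        norm_num at hp
      · exact h6
    rcases h with h | ⟨rfl, rfl⟩
    · have h4 : p ^ (M + 1) ≤ p ^ f := Nat.pow_le_pow_right (by omega) h
      obtain ⟨g, rfl⟩ : ∃ g, f = g + 1 := ⟨f - 1, by omega⟩
      simp only [Nat.add_sub_cancel]
      have h5 : 4 * Sg p M ≤ (p - 1) * Sg p M := Nat.mul_le_mul_right _ (by omega)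
      have h6 : 5 * p ^ g ≤ p ^ (g + 1) := by
        rw [pow_succ, mul_comm]; exact Nat.mul_le_mul_left _ hp5
      have h7 : 1 ≤ p ^ g := Nat.one_le_pow _ _ (by omega)
      omega
    · simp only [Sg]
      simp only [_root_.tsub_self, _root_.pow_zero, _root_.Order.lt_one_iff, _root_.Finset.Icc_eq_empty_of_lt, _root_.Finset.sum_empty, _root_.add_zero, _root_.MulZeroClass.mul_zero, _root_.pow_one, _root_.tsub_pos_iff_lt, _root_.gt_iff_lt]
      simp at hq
      omega

section Main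

variable {F : Type*} [Field F] [Fintype F] [DecidableEq F]

/-- the multiples -/
def Gd (c : F) : Finset F := (Finset.univ.filter fun s : F => s ≠ 0).image fun s => c * s ^ 2

theorem card_Gd {p : ℕ} (hp : p.Prime) [CharP F p] {c : F} (hc : c ≠ 0) :
    Fintype.card F - 1 ≤ (if p = 2 then 1 else 2) * (Gd c).card := by
  have h0 : (Finset.univ.filter fun s : F => s ≠ 0).card = Fintype.card F - 1 := by
    rw [Finset.filter_ne', Finset.card_erase_of_mem (Finset.mem_univ _), Finset.card_univ]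
  rw [← h0]
  refine Finset.card_le_mul_card_image _ _ fun a ha => ?_
  obtain ⟨y, hy, rfl⟩ := Finset.mem_image.1 ha
  have key : ∀ x : F, c * x ^ 2 = c * y ^ 2 → x = y ∨ x = -y := by
    intro x hx
    exact sq_eq_sq_iff_eq_or_eq_neg.1 (mul_left_cancel₀ hc hx)
  by_cases h2 : p = 2
  · rw [if_pos h2]
    subst h2
    refine Finset.card_le_one.2 fun a ha b hb => ?_
    have : ∀ x : F, c * x ^ 2 = c * y ^ 2 → x = y := by
      intro x hx
      rcases key x hx with h | h
      · exact h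
      · rw [h, CharTwo.neg_eq]
    rw [this a (Finset.mem_filter.1 ha).2, this b (Finset.mem_filter.1 hb).2]
  · rw [if_neg h2]
    refine le_trans (Finset.card_le_card (t := {y, -y}) fun x hx => ?_) Finset.card_le_two
    rcases key x (Finset.mem_filter.1 hx).2 with h | h
    · rw [h]; exact Finset.mem_insert_self _ _
    · rw [h]; exact Finset.mem_insert_of_mem (Finset.mem_singleton_self _)

theorem card_bad (τ : F ≃+* F) (a : F) :
    (Finset.univ.filter fun y : F => y ≠ 0 ∧ τ y = a * y).card ≤ Nat.card ↥(fx τ) - 1 := by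
  have : Fintype ↥(fx τ) := Fintype.ofFinite _
  have h1 : Nat.card ↥(fx τ) = (Finset.univ.filter fun y : F => τ y = y).card := by
    rw [Nat.card_eq_fintype_card, Fintype.card_of_subtype]
    intro x
    rw [Finset.mem_filter, mem_fx]
    simp
  rcases (Finset.univ.filter fun y : F => y ≠ 0 ∧ τ y = a * y).eq_empty_or_nonempty with h | ⟨z, hz⟩
  · rw [h]; simp only [_root_.Finset.card_empty, _root_.Nat.card_eq_fintype_card, _root_.zero_le]
  · obtain ⟨-, hz0, hz1⟩ := Finset.mem_filter.1 hz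
    have h0 : (0 : F) ∈ Finset.univ.filter fun y : F => τ y = y := Finset.mem_filter.2 ⟨Finset.mem_univ _, map_zero τ⟩
    rw [h1, ← Finset.card_erase_of_mem h0]
    refine Finset.card_le_card_of_injOn (fun y => y / z) ?_ ?_
    · intro y hy
      obtain ⟨-, hy0, hy1⟩ := Finset.mem_filter.1 hy
      have hτz : τ z ≠ 0 := (map_ne_zero τ).2 hz0
      have ha : a ≠ 0 := by
        rintro rfl
        rw [zero_mul] at hz1
        exact hτz hz1
      refine Finset.mem_coe.2 (Finset.mem_erase.2 ⟨div_ne_zero hy0 hz0, Finset.mem_filter.2 ⟨Finset.mem_univ _, ?_⟩⟩)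
      rw [map_div₀, hy1, hz1, mul_div_mul_left _ _ ha]
    · intro x _ y _ hxy
      exact (div_left_inj' hz0).1 hxy

theorem card_K {p f : ℕ} (hp : p.Prime) (hF : Nat.card F = p ^ f) (K : AddSubgroup F) (hK : K ≠ ⊤) {x₀ : F}
    (hx : x₀ ≠ 0) [DecidablePred fun y : F => y ≠ 0 ∧ y * x₀ ∈ K] :
    (Finset.univ.filter fun y : F => y ≠ 0 ∧ y * x₀ ∈ K).card ≤ p ^ (f - 1) - 1 := by
  classical
  have h1 : Nat.card K ∣ p ^ f := by rw [← hF]; exact AddSubgroup.card_addSubgroup_dvd_card K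
  obtain ⟨k, hk, hk'⟩ := (Nat.dvd_prime_pow hp).1 h1
  have h2 : k ≠ f := by
    rintro rfl
    exact hK (AddSubgroup.eq_top_of_card_eq K (by rw [hk', hF]))
  have h3 : Nat.card K ≤ p ^ (f - 1) := by
    rw [hk']; exact Nat.pow_le_pow_right hp.pos (by omega)
  have h4 : Nat.card K = (Finset.univ.filter fun y : F => y ∈ K).card := by
    rw [Nat.card_eq_fintype_card, Fintype.card_of_subtype]
    intro x
    simp
  refine le_trans ?_ (Nat.sub_le_sub_right h3 1)
  have h0 : (0 : F) ∈ Finset.univ.filter fun y : F => y ∈ K := Finset.mem_filter.2 ⟨Finset.mem_univ _, K.zero_mem⟩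
  rw [h4, ← Finset.card_erase_of_mem h0]
  refine Finset.card_le_card_of_injOn (fun y => y * x₀) ?_ ?_
  · intro y hy
    obtain ⟨-, hy0, hy1⟩ := Finset.mem_filter.1 hy
    exact Finset.mem_coe.2 (Finset.mem_erase.2 ⟨mul_ne_zero hy0 hx, Finset.mem_filter.2 ⟨Finset.mem_univ _, hy1⟩⟩)
  · intro x _ y _ hxy
    exact mul_right_cancel₀ hx hxy

end Main

theorem count {F : Type*} [Field F] [Finite F] (h7 : 7 ≤ Nat.card F) (h9 : Nat.card F ≠ 9)
    {ι : Type*} [Finite ι] (σ : ι → F ≃+* F) (a : ι → F) (r : ι → ℕ) (hr : ∀ i, (r i).Prime)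
    (hσ : ∀ i, σ i ≠ 1) (hσr : ∀ i, σ i ^ r i = 1) (hinj : Function.Injective r)
    (c : F) (hc : c ≠ 0) :
    (∃ s : F, s ≠ 0 ∧ ∀ i, σ i (c * s ^ 2) ≠ a i * (c * s ^ 2)) ∧
    ((∀ i, r i ≠ ringChar F) → ∀ K : AddSubgroup F, K ≠ ⊤ → ∀ x₀ : F, x₀ ≠ 0 →
      ∃ s : F, s ≠ 0 ∧ (∀ i, σ i (c * s ^ 2) ≠ a i * (c * s ^ 2)) ∧ c * s ^ 2 * x₀ ∉ K) := by
  classical
  have := Fintype.ofFinite F
  have := Fintype.ofFinite ι
  set p := ringChar F with hpd
  have hCh : CharP F p := ringChar.charP F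
  obtain ⟨f', hp, hf⟩ := FiniteField.card F p
  set f : ℕ := (f' : ℕ) with hfd
  have hF : Nat.card F = p ^ f := by rw [Nat.card_eq_fintype_card, hf]
  have hf1 : 1 ≤ f := f'.2
  choose m hm1 hm2 hm3 using fun i => fx_pow hp hF (hr i) (hσr i) (hσ i)
  have hminj : Function.Injective m := by
    intro i j h
    apply hinj
    have h1 := hm2 i
    rw [← hm2 j, h] at h1
    exact Nat.eq_of_mul_eq_mul_right (by have := hm3 j; omega) h1
  have hq : 7 ≤ p ^ f := by rw [← hF]; exact h7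
  -- the bad elements
  set B : ι → Finset F := fun i => Finset.univ.filter fun y : F => y ≠ 0 ∧ σ i y = a i * y with hB
  have hBc : ∀ M, (∀ i, m i ≤ M) → (Finset.univ.biUnion B).card ≤ Sg p M := by
    intro M hM
    refine le_trans Finset.card_biUnion_le (le_trans (Finset.sum_le_sum fun i _ => ?_) (sum_le m hminj hm3 hM))
    rw [← hm1 i]
    exact card_bad (σ i) (a i)
  have hG := card_Gd (F := F) hp hc
  rw [← Nat.card_eq_fintype_card, hF] at hG
  have hm2' : ∀ i, m i ≤ f / 2 := by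
    intro i
    rw [Nat.le_div_iff_mul_le (by norm_num), ← hm2 i, mul_comm]
    exact Nat.mul_le_mul_right _ (hr i).two_le
  have hM : f / 2 + 1 ≤ f ∨ (f = 1 ∧ f / 2 = 0) := by omega
  have hlt : ∀ {x y k : ℕ}, k * x < p ^ f - 1 → p ^ f - 1 ≤ k * y → x < y := fun h1 h2 =>
    Nat.lt_of_mul_lt_mul_left (lt_of_lt_of_le h1 h2)
  constructor
  · by_contra hcon
    push Not at hcon
    have h1 : Gd c ⊆ Finset.univ.biUnion B := by
      intro y hy
      obtain ⟨s, hs, rfl⟩ := Finset.mem_image.1 hy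
      have hs0 := (Finset.mem_filter.1 hs).2
      obtain ⟨i, hi⟩ := hcon s hs0
      exact Finset.mem_biUnion.2 ⟨i, Finset.mem_univ _, Finset.mem_filter.2 ⟨Finset.mem_univ _,
        mul_ne_zero hc (pow_ne_zero 2 hs0), hi⟩⟩
    have h2 := (Finset.card_le_card h1).trans (hBc (f / 2) hm2')
    exact absurd h2 (not_le.2 (hlt (ineq1 hp hM hq) hG))
  · intro hrp K hK x₀ hx
    by_contra hcon
    push Not at hcon
    set B' : Finset F := Finset.univ.filter fun y : F => y ≠ 0 ∧ y * x₀ ∈ K with hB'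
    have h1 : Gd c ⊆ B' ∪ Finset.univ.biUnion B := by
      intro y hy
      obtain ⟨s, hs, rfl⟩ := Finset.mem_image.1 hy
      have hs0 := (Finset.mem_filter.1 hs).2
      have hcs : c * s ^ 2 ≠ 0 := mul_ne_zero hc (pow_ne_zero 2 hs0)
      by_cases h2 : ∀ i, σ i (c * s ^ 2) ≠ a i * (c * s ^ 2)
      · exact Finset.mem_union_left _ (Finset.mem_filter.2 ⟨Finset.mem_univ _, hcs, hcon s hs0 h2⟩)
      · push Not at h2
        obtain ⟨i, hi⟩ := h2
        exact Finset.mem_union_right _ (Finset.mem_biUnion.2 ⟨i, Finset.mem_univ _,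
          Finset.mem_filter.2 ⟨Finset.mem_univ _, hcs, hi⟩⟩)
    obtain ⟨M, hM1, hM2, hM3⟩ : ∃ M, (∀ i, m i ≤ M) ∧ (M + 1 ≤ f ∨ (f = 1 ∧ M = 0)) ∧ (p ≤ 3 → M + 2 ≤ f) := by
      by_cases hp2 : p = 2
      · refine ⟨f / 3, fun i => ?_, ?_, ?_⟩
        · rw [Nat.le_div_iff_mul_le (by norm_num), ← hm2 i, mul_comm]
          refine Nat.mul_le_mul_right _ ?_
          have h3 := (hr i).two_le
          have h4 := hrp i
          omega
        · omega
        · intro _
          have : 3 ≤ f := by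
            by_contra h
            have h5 : f ≤ 2 := by omega
            rw [hp2] at hq
            have : 2 ^ f ≤ 2 ^ 2 := Nat.pow_le_pow_right (by norm_num) h5
            omega
          omega
      · refine ⟨f / 2, hm2', hM, fun h3 => ?_⟩
        have hp3 : p = 3 := by have := hp.two_le; omega
        have : 3 ≤ f := by
          by_contra h
          have h5 : f = 1 ∨ f = 2 := by omega
          rw [hF] at h9
          rcases h5 with h5 | h5 <;> rw [h5, hp3] at hq h9 <;> omega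
        omega
    have h2 : (Gd c).card ≤ p ^ (f - 1) - 1 + Sg p M :=
      (Finset.card_le_card h1).trans ((Finset.card_union_le _ _).trans (add_le_add (card_K hp hF K hK hx) (hBc M hM1)))
    exact absurd h2 (not_le.2 (hlt (ineq2 hp hM2 hM3 hq) hG))

end Cfsg.Agent.H588.RC
end

-- part: H183/RC/PartI
section
/-!
# S3510, row C, part C: commuting elements with a common fixed line do not cover (helper183)
-/

set_option autoImplicit false

namespace Cfsg.Agent.H183.RC

open Cfsg Matrix Cfsg.Agent.H106.RC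

section part

variable {G Ω F ι : Type*} [Group G] [Field F] {N : Subgroup G}

/-- powers -/
theorem exists_acts_pow (hN : N.Normal) {e : N ≃* PS F} {g : G} {A : GL (Fin 2) F} {σ : F ≃+* F}
    (h : Acts e g A σ) (n : ℕ) : ∃ B : GL (Fin 2) F, Acts e (g ^ n) B (σ ^ n) := by
  induction n with
  | zero => exact ⟨1, by rw [pow_zero, pow_zero]; exact acts_one e⟩
  | succ n ih =>
    obtain ⟨B, hB⟩ := ih
    exact ⟨_, by rw [pow_succ, pow_succ]; exact acts_mul hN hB h⟩

theorem sigma_pow [Finite F] (hN : N.Normal) {e : N ≃* PS F} (h4 : 4 ≤ Nat.card F) {g : G} {A : GL (Fin 2) F}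
    {σ : F ≃+* F} (h : Acts e g A σ) {n : ℕ} (hn : g ^ n = 1) : σ ^ n = 1 := by
  obtain ⟨B, hB⟩ := exists_acts_pow hN h n
  rw [hn] at hB
  exact (acts_uniq hN h4 hB (acts_one e)).1

theorem partI_aux [Finite G] [MulAction G Ω] [Nonempty Ω] [Finite F]
    (hE : Env G Ω N) (e : N ≃* PS F) (h7 : 7 ≤ Nat.card F) (h9 : Nat.card F ≠ 9)
    [Finite ι] (x : ι → G) (r : ι → ℕ) (A : ι → GL (Fin 2) F) (σ : ι → F ≃+* F)
    (hA : ∀ i, Acts e (x i) (A i) (σ i)) (hr : ∀ i, (r i).Prime) (hx : ∀ i, x i ^ r i = 1)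
    (hx1 : ∀ i, x i ≠ 1) (hc : ∀ i j, x i * x j = x j * x i)
    (hp : ∀ i j, r i = ringChar F → r j = ringChar F → i = j)
    (hs : ∀ i j, σ i ≠ 1 → σ j ≠ 1 → r i = r j → i = j)
    (h10 : ∀ i, (A i : Matrix (Fin 2) (Fin 2) F) 1 0 = 0)
    (hcov : ∀ ω : Ω, ∃ i, x i • ω = ω) : False := by
  classical
  have hN := hE.norm
  have h4 : 4 ≤ Nat.card F := by omega
  obtain ⟨T, hT1, hT2, hT3⟩ := exists_trace F
  -- the point
  obtain ⟨ω, hω⟩ : ∃ ω : Ω, (un e 1 : G) • ω ≠ ω := hE.exists_move (un_one_ne e)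
  let K₀ : AddSubgroup F :=
    { carrier := {b | (un e b : G) • ω = ω}
      zero_mem' := by
        change (un e 0 : G) • ω = ω
        rw [un_zero, one_smul]
      add_mem' := by
        intro a b ha hb
        change (un e (a + b) : G) • ω = ω
        rw [un_add, mul_smul, hb, ha]
      neg_mem' := by
        intro a ha
        change (un e (-a) : G) • ω = ω
        rw [un_neg, inv_smul_eq_iff]
        exact ha.symm }
  have hK₀ : K₀ ≠ ⊤ := by
    intro h
    apply hω
    have : (1 : F) ∈ K₀ := by rw [h]; trivial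
    exact this
  obtain ⟨c, hc0, hcK⟩ := hT3 K₀ hK₀
  set a : ι → F := fun i => (A i : Matrix (Fin 2) (Fin 2) F) 0 0 / (A i : Matrix (Fin 2) (Fin 2) F) 1 1 with ha
  let KT : AddSubgroup F := T.ker
  have hKT : KT ≠ ⊤ := by
    intro h
    apply one_ne_zero (α := F)
    apply hT2 1
    intro b
    have : 1 * b ∈ KT := by rw [h]; trivial
    exact this
  let κ : Type _ := {i : ι // σ i ≠ 1}
  have hp' : (ringChar F).Prime :=
    (CharP.char_is_prime_or_zero F (ringChar F)).resolve_right (CharP.char_ne_zero_of_finite F (ringChar F))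
  -- `u ^ p = 1`
  have hup : ∀ b : F, (un e b : G) ^ ringChar F = 1 := by
    intro b
    have h1 : ∀ n : ℕ, (un e b : G) ^ n = un e (n * b) := by
      intro n
      induction n with
      | zero => rw [pow_zero, Nat.cast_zero, zero_mul, un_zero]
      | succ n ih => rw [pow_succ, ih, ← un_add]; congr 1; push_cast; ring
    rw [h1, ringChar.Nat.cast_ringChar, zero_mul, un_zero]
  have hrp : ∀ i x₀, x i = un e x₀ → r i = ringChar F := by
    intro i x₀ h
    by_contra hne
    have hcop : Nat.Coprime (r i) (ringChar F) := (Nat.coprime_primes (hr i) hp').2 hne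
    apply hx1 i
    have h1 := hup x₀
    rw [← h] at h1
    have h2 : orderOf (x i) ∣ 1 := by
      rw [← hcop]
      exact Nat.dvd_gcd (orderOf_dvd_of_pow_eq_one (hx i)) (orderOf_dvd_of_pow_eq_one h1)
    exact orderOf_eq_one_iff.1 (Nat.dvd_one.1 h2)
  -- the good multiple
  have hcount := Cfsg.Agent.H588.RC.count h7 h9 (fun i : κ => σ i) (fun i : κ => a i) (fun i : κ => r i) (fun i => hr i) (fun i => i.2)
    (fun i => sigma_pow hN h4 (hA i) (hx i)) (fun i j hij => Subtype.ext (hs i j i.2 j.2 hij)) c hc0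
  obtain ⟨s, hs0, hs1, hs2⟩ : ∃ s : F, s ≠ 0 ∧ (∀ i, σ i ≠ 1 → σ i (c * s ^ 2) ≠ a i * (c * s ^ 2)) ∧
      ∀ i, ∀ x₀ : F, x i = un e x₀ → T (c * s ^ 2 * x₀) ≠ 0 := by
    by_cases hex : ∃ i x₀, x i = un e x₀
    · obtain ⟨i₀, x₀, hx₀⟩ := hex
      have hx00 : x₀ ≠ 0 := by
        rintro rfl
        rw [un_zero] at hx₀
        exact hx1 _ hx₀
      have hi₀ : σ i₀ = 1 := by
        have h1 : Acts e (un e x₀ : G) (Matrix.SpecialLinearGroup.toGL (us x₀)) 1 :=
          acts_mem _ _ (e.apply_symm_apply _)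
        have h2 := hA i₀
        rw [hx₀] at h2
        exact (acts_uniq hN h4 h2 h1).1
      obtain ⟨s, h1, h2, h3⟩ := hcount.2 (fun i hi => i.2 (by
        have := hp i i₀ hi (hrp i₀ x₀ hx₀)
        rw [this]; exact hi₀)) KT hKT x₀ hx00
      refine ⟨s, h1, fun i hi => h2 ⟨i, hi⟩, ?_⟩
      intro i y hy
      have hii : i = i₀ := hp _ _ (hrp i y hy) (hrp i₀ x₀ hx₀)
      subst hii
      -- `y = x₀` up to the kernel of `un`
      have hinj : y = x₀ := by
        have h4' : (un e (y - x₀) : G) = 1 := by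
          rw [sub_eq_add_neg, un_add, un_neg, ← hy, ← hx₀, mul_inv_cancel]
        by_contra hne
        have hd : y - x₀ ≠ 0 := sub_ne_zero.2 hne
        -- conjugate by anything: use the uniqueness of the matrix
        have h5 : Acts e (un e (y - x₀) : G) (Matrix.SpecialLinearGroup.toGL (us (y - x₀))) 1 :=
          acts_mem _ _ (e.apply_symm_apply _)
        rw [h4'] at h5
        obtain ⟨-, d, hd0, hd1⟩ := acts_uniq hN h4 (acts_one e) h5
        have h6 := congrFun (congrFun hd1 0) 1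
        have h7' : (y - x₀ : F) = d * (1 : Matrix (Fin 2) (Fin 2) F) 0 1 := h6
        rw [Matrix.one_apply_ne (by decide), mul_zero] at h7'
        exact hd h7'
      rw [hinj]
      exact h3
    · push Not at hex
      obtain ⟨s, h1, h2⟩ := hcount.1
      exact ⟨s, h1, fun i hi => h2 ⟨i, hi⟩, fun i x₀ h => (hex i x₀ h).elim⟩
  -- the orbit
  have hs0' : s⁻¹ ≠ 0 := inv_ne_zero hs0
  let U : Subgroup G := (unH e : Multiplicative F →* G).range
  have hUm : ∀ b : F, (un e b : G) ∈ U := fun b => ⟨Multiplicative.ofAdd b, rfl⟩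
  have hUm' : ∀ u ∈ U, ∃ b : F, u = un e b := by
    rintro _ ⟨b, rfl⟩
    exact ⟨Multiplicative.toAdd b, rfl⟩
  obtain ⟨i, hi⟩ := Cfsg.Agent.H202.RC.cover hr hx hc hcov (U := U) (by
    intro i u hu
    obtain ⟨b, rfl⟩ := hUm' u hu
    rw [acts_un hN (hA i) (h10 i)]
    exact hUm _) (Or.inl ⟨by
      intro u hu v hv
      obtain ⟨b, rfl⟩ := hUm' u hu
      obtain ⟨b', rfl⟩ := hUm' v hv
      rw [← un_add, ← un_add, add_comm], by
      have key : ∀ i, ¬ (r i).Coprime (Nat.card U) → r i = ringChar F := by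
        intro i hi
        have h1 : r i ∣ Nat.card U := by
          by_contra h
          exact hi (((hr i).coprime_iff_not_dvd).2 h)
        have h2 : Nat.card U ∣ Nat.card F := Subgroup.card_range_dvd (unH e : Multiplicative F →* G)
        obtain ⟨n, hn⟩ : ∃ n : ℕ, Nat.card F = ringChar F ^ n := by
          have := Fintype.ofFinite F
          obtain ⟨n, -, hn⟩ := FiniteField.card F (ringChar F)
          exact ⟨n, by rw [Nat.card_eq_fintype_card, hn]⟩
        rw [hn] at h2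
        exact (Nat.prime_dvd_prime_iff_eq (hr i) hp').1 ((hr i).dvd_of_dvd_pow (h1.trans h2))
      intro i j h1 h2
      exact hp i j (key i h1) (key j h2)⟩) ((dn e s⁻¹ hs0' : G) • ω)
  set ω' : Ω := (dn e s⁻¹ hs0' : G) • ω with hω'
  -- the stabiliser of `ω'`
  have hst : ∀ b : F, (un e b : G) • ω' = ω' → T (c * s ^ 2 * b) = 0 := by
    intro b hb
    have h1 := dn_un hN e s⁻¹ hs0' (s ^ 2 * b)
    have h2 : (s⁻¹) ^ 2 * (s ^ 2 * b) = b := by field_simp
    rw [h2] at h1
    rw [hω', ← h1, ← mul_smul, inv_mul_cancel_right, mul_smul] at hb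
    have h3 : s ^ 2 * b ∈ K₀ := (MulAction.injective _) hb
    have h4' := hcK _ h3
    rw [← mul_assoc] at h4'
    exact h4'
  -- the equation
  have hfix : x i • ω' = ω' := by
    have := hi 1 U.one_mem
    rwa [one_smul] at this
  have hall : ∀ b : F, T (c * s ^ 2 * (a i * σ i b - b)) = 0 := by
    intro b
    apply hst
    have h1 := hi _ (hUm b)
    have h2 : (x i * un e b * (x i)⁻¹) • ω' = (un e b : G) • ω' := by
      rw [mul_smul, inv_smul_eq_iff.2 hfix.symm, mul_smul, h1]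
    rw [acts_un hN (hA i) (h10 i)] at h2
    rw [sub_eq_add_neg, add_comm, un_add, un_neg, mul_smul, inv_smul_eq_iff]
    exact h2
  by_cases hσ : σ i = 1
  · have h1 : a i = 1 := by
      have h2 : c * s ^ 2 * (a i - 1) = 0 := by
        apply hT2
        intro b
        have h3 := hall b
        rw [hσ] at h3
        have h4' : c * s ^ 2 * (a i - 1) * b = c * s ^ 2 * (a i * (1 : F ≃+* F) b - b) := by
          change _ = c * s ^ 2 * (a i * b - b)
          ring
        rw [h4']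
        exact h3
      have h3 : c * s ^ 2 ≠ 0 := mul_ne_zero hc0 (pow_ne_zero 2 hs0)
      exact sub_eq_zero.1 ((mul_eq_zero.1 h2).resolve_left h3)
    have h2 : (A i : Matrix (Fin 2) (Fin 2) F) 0 0 = (A i : Matrix (Fin 2) (Fin 2) F) 1 1 := by
      have := (diag_ne (h10 i)).2
      rw [ha] at h1
      exact (div_eq_one_iff_eq this).1 h1
    have hA' := hA i
    rw [hσ] at hA'
    have h3 := eq_un hN hE.cent hA' (h10 i) h2
    apply hs2 i _ h3
    apply hst
    rw [← h3]
    exact hfix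
  · apply hs1 i hσ
    have h1 : (σ i)⁻¹ (c * s ^ 2 * a i) - c * s ^ 2 = 0 := by
      apply hT2
      intro b
      have h2 := hall b
      have h3 : T ((σ i)⁻¹ (c * s ^ 2 * a i) * b) = T (c * s ^ 2 * (a i * σ i b)) := by
        rw [← hT1 (σ i), map_mul]
        congr 1
        have h4' : (σ i) ((σ i)⁻¹ (c * s ^ 2 * a i)) = c * s ^ 2 * a i := (σ i).apply_symm_apply _
        rw [h4']
        ring
      rw [sub_mul, map_sub, h3, ← map_sub]
      rw [← h2]
      congr 1
      ring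
    have h2 : (σ i)⁻¹ (c * s ^ 2 * a i) = c * s ^ 2 := sub_eq_zero.1 h1
    have h3 := congrArg (σ i) h2
    have h4' : (σ i) ((σ i)⁻¹ (c * s ^ 2 * a i)) = c * s ^ 2 * a i := (σ i).apply_symm_apply _
    rw [h4'] at h3
    rw [← h3, mul_comm]

end part

theorem partI {G Ω F ι : Type*} [Group G] [Finite G] [MulAction G Ω] [Nonempty Ω] [Field F] [Finite F]
    {N : Subgroup G} (hE : Env G Ω N) (e : N ≃* PS F) (h7 : 7 ≤ Nat.card F) (h9 : Nat.card F ≠ 9)
    [Finite ι] (x : ι → G) (r : ι → ℕ) (A : ι → GL (Fin 2) F) (σ : ι → F ≃+* F)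
    (hA : ∀ i, Acts e (x i) (A i) (σ i)) (hr : ∀ i, (r i).Prime) (hx : ∀ i, x i ^ r i = 1)
    (hx1 : ∀ i, x i ≠ 1) (hc : ∀ i j, x i * x j = x j * x i)
    (hp : ∀ i j, r i = ringChar F → r j = ringChar F → i = j)
    (hs : ∀ i j, σ i ≠ 1 → σ j ≠ 1 → r i = r j → i = j)
    (v : Fin 2 → F) (hv : v ≠ 0) (hfix : ∀ i, FixL (A i) (σ i) v) : ∃ ω : Ω, ∀ i, x i • ω ≠ ω := by
  classical
  by_contra hcon
  push Not at hcon
  -- a matrix moving `v` to the first basis vector
  obtain ⟨P, hP⟩ : ∃ P : GL (Fin 2) F, (P : Matrix (Fin 2) (Fin 2) F) *ᵥ v = ![1, 0] := by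
    by_cases h0 : v 0 = 0
    · have h1 : v 1 ≠ 0 := by
        intro h1
        apply hv
        funext i
        fin_cases i
        · exact h0
        · exact h1
      refine ⟨Matrix.GeneralLinearGroup.mkOfDetNeZero !![0, (v 1)⁻¹; 1, 0] (by simp [Matrix.det_fin_two, h1]), ?_⟩
      change !![0, (v 1)⁻¹; 1, 0] *ᵥ v = _
      funext i
      (revert i; simp only [Matrix.mulVec, dotProduct, Fin.sum_univ_two, h0, h1, _root_.Fin.forall_fin_succ, Fin.isValue, _root_.Matrix.of_apply, _root_.Matrix.cons_val', _root_.Matrix.cons_val_fin_one, _root_.Matrix.cons_val_zero, _root_.MulZeroClass.mul_zero, _root_.Matrix.cons_val_one, _root_.zero_add, _root_.Nat.succ_eq_add_one, Nat.reduceAdd, _root_.ne_eq, _root_.not_false_eq_true, _root_.inv_mul_cancel₀, _root_.Matrix.cons_val_succ, _root_.MulZeroClass.zero_mul, _root_.implies_true, _root_.and_self])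
    · refine ⟨Matrix.GeneralLinearGroup.mkOfDetNeZero !![(v 0)⁻¹, 0; -(v 1) / v 0, 1]
        (by simp [Matrix.det_fin_two, h0]), ?_⟩
      change !![(v 0)⁻¹, 0; -(v 1) / v 0, 1] *ᵥ v = _
      funext i
      (revert i; simp only [Matrix.mulVec, dotProduct, Fin.sum_univ_two, h0, _root_.Fin.forall_fin_succ, Fin.isValue, _root_.Matrix.of_apply, _root_.Matrix.cons_val', _root_.Matrix.cons_val_fin_one, _root_.Matrix.cons_val_zero, _root_.Matrix.cons_val_one, _root_.Nat.succ_eq_add_one, Nat.reduceAdd, _root_.ne_eq, _root_.not_false_eq_true, _root_.inv_mul_cancel₀, _root_.MulZeroClass.zero_mul, _root_.add_zero, _root_.Matrix.cons_val_succ, _root_.isUnit_iff_ne_zero, _root_.IsUnit.div_mul_cancel, _root_.one_mul, _root_.neg_add_cancel, _root_.implies_true, _root_.and_self])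
  obtain ⟨e', -, hch⟩ := exists_chg (G := G) e P
  refine partI_aux hE e' h7 h9 x r (fun i => P * A i * (gmap (σ i) P)⁻¹) σ (fun i => hch _ _ _ (hA i)) hr hx hx1 hc hp hs
    ?_ hcon
  intro i
  obtain ⟨d, hd⟩ := fixL_chg (hfix i) P
  rw [hP] at hd
  have h1 : (fun j => σ i ((![1, 0] : Fin 2 → F) j)) = ![1, 0] := by
    funext j
    (revert j; simp only [_root_.Fin.forall_fin_succ, _root_.Nat.succ_eq_add_one, Nat.reduceAdd, Fin.isValue, _root_.Matrix.cons_val_zero, _root_.map_one, _root_.Matrix.cons_val_succ, _root_.Matrix.cons_val_fin_one, _root_.map_zero, _root_.implies_true, _root_.and_self])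
  rw [h1] at hd
  have h2 := congrFun hd 1
  simpa only [Matrix.mulVec, dotProduct, Fin.sum_univ_two, _root_.Fin.isValue, _root_.Units.val_mul, _root_.Matrix.coe_units_inv, _root_.Matrix.GeneralLinearGroup.val_map_apply, _root_.RingHom.coe_coe, _root_.Nat.succ_eq_add_one, _root_.Nat.reduceAdd, _root_.Matrix.cons_val_zero, _root_.mul_one, _root_.Matrix.cons_val_one, _root_.Matrix.cons_val_fin_one, _root_.MulZeroClass.mul_zero, _root_.add_zero, _root_.Pi.smul_apply, _root_.smul_eq_mul] using h2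

end Cfsg.Agent.H183.RC
end

-- part: H397/RC/PermBound
section
/-!
# A bound for the permutation character (S3510, row C, task E1; helper397)

`G` finite, `f : G → A` onto a finite abelian group such that the linear characters of `G` are the `l ∘ f`;
all other irreducible characters have degree at least `D` and satisfy `D |χ(t)| ≤ 2 χ(1)`.
Then the permutation character of `G` on `G/H` satisfies the corresponding bound.
-/

set_option autoImplicit false

open scoped ComplexConjugate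
open Cfsg Cfsg.Agent.Characters.Core Cfsg.Agent.OddOrderCharacters.IndRes

namespace Cfsg.Agent.H397.RC

theorem sum_hom {A : Type*} [CommGroup A] [Finite A] [Fintype (A →* ℂˣ)] (x : A) [Decidable (x = 1)] :
    ∑ l : A →* ℂˣ, ((l x : ℂˣ) : ℂ) = if x = 1 then (Nat.card A : ℂ) else 0 := by
  split_ifs with h
  · subst h
    have h1 := CommGroup.card_monoidHom_of_hasEnoughRootsOfUnity A ℂ
    simp only [map_one, Units.val_one, Finset.sum_const, Finset.card_univ, nsmul_eq_mul, mul_one]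
    rw [← Nat.card_eq_fintype_card, h1]
  · obtain ⟨l0, h0⟩ := CommGroup.exists_apply_ne_one_of_hasEnoughRootsOfUnity A ℂ h
    have h1 : ∑ l : A →* ℂˣ, ((l x : ℂˣ) : ℂ) = ((l0 x : ℂˣ) : ℂ) * ∑ l : A →* ℂˣ, ((l x : ℂˣ) : ℂ) := by
      rw [Finset.mul_sum]
      symm
      refine Fintype.sum_equiv (Equiv.mulLeft l0) _ _ fun l => ?_
      simp
    have h2 : (1 - ((l0 x : ℂˣ) : ℂ)) * ∑ l : A →* ℂˣ, ((l x : ℂˣ) : ℂ) = 0 := by
      rw [sub_mul, one_mul, ← h1, sub_self]
    rcases mul_eq_zero.1 h2 with h3 | h3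
    · exact absurd (Units.ext (sub_eq_zero.1 h3).symm) h0
    · exact h3

section

variable {G A : Type*} [Group G] [Fintype G] [CommGroup A] [Finite A]

/-- the sum of the multiplicities of the linear characters in the permutation character -/
theorem sum_lin [Fintype (IrrCharacter G)] (f : G →* A) (hf : Function.Surjective f)
    (hcard : Nat.card {χ : IrrCharacter G // (χ : G → ℂ) 1 = 1} = Nat.card A)
    (H : Subgroup G) (m : IrrCharacter G → ℕ)
    (hm : indFun H 1 = ∑ ψ : IrrCharacter G, m ψ • (ψ : G → ℂ))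
    [DecidablePred fun χ : IrrCharacter G => (χ : G → ℂ) 1 = 1] :
    (∑ χ ∈ Finset.univ.filter (fun χ : IrrCharacter G => (χ : G → ℂ) 1 = 1), m χ) * Nat.card H =
      Nat.card A * Nat.card (H ⊓ f.ker : Subgroup G) := by
  classical
  have : Finite (A →* ℂˣ) := Nat.finite_of_card_ne_zero (by
    rw [CommGroup.card_monoidHom_of_hasEnoughRootsOfUnity A ℂ]; exact Nat.card_pos.ne')
  let _ : Fintype (A →* ℂˣ) := Fintype.ofFinite _
  let _ : Fintype H := Fintype.ofFinite _
  have hirr : ∀ l : A →* ℂˣ, IsIrrCharacter G (fun g => ((l (f g) : ℂˣ) : ℂ)) := fun l =>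
    Characters.Linear.isIrrCharacter_hom (l.comp f)
  let Φ : (A →* ℂˣ) → {χ : IrrCharacter G // (χ : G → ℂ) 1 = 1} := fun l =>
    ⟨⟨fun g => ((l (f g) : ℂˣ) : ℂ), hirr l⟩, by simp⟩
  have hinj : Function.Injective Φ := by
    intro l l' h
    have h1 : (fun g => ((l (f g) : ℂˣ) : ℂ)) = fun g => ((l' (f g) : ℂˣ) : ℂ) :=
      congrArg Subtype.val (congrArg Subtype.val h)
    ext a
    obtain ⟨g, rfl⟩ := hf a
    exact congrFun h1 g
  have hbij : Function.Bijective Φ := by
    rw [Nat.bijective_iff_injective_and_card]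
    refine ⟨hinj, ?_⟩
    rw [hcard, CommGroup.card_monoidHom_of_hasEnoughRootsOfUnity A ℂ]
  have hsum : ∑ χ ∈ Finset.univ.filter (fun χ : IrrCharacter G => (χ : G → ℂ) 1 = 1), m χ =
      ∑ l : A →* ℂˣ, m (Φ l).1 := by
    rw [Function.Bijective.sum_comp hbij (fun χ => m χ.1)]
    exact Finset.sum_subtype _ (fun x => by simp only [_root_.Finset.mem_filter, _root_.Finset.mem_univ, _root_.true_and]) m
  have hval : ∀ l : A →* ℂˣ, (m (Φ l).1 : ℂ) * Nat.card H = ∑ h : H, conj ((l (f h) : ℂˣ) : ℂ) := by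
    intro l
    have h1 : classInner (indFun H 1) ((Φ l).1 : G → ℂ) = (m (Φ l).1 : ℂ) := by
      rw [hm, classInner_sum_nsmul_irr]
    have h0 := classInner_indFun_left H (1 : H → ℂ) (isIrr_isClassFunction (hirr l))
    have h2 := h1.symm.trans h0
    rw [h2, classInner_def, mul_comm, ← mul_assoc, mul_inv_cancel₀ card_ne_zero_complex, one_mul]
    refine Finset.sum_congr rfl fun h _ => ?_
    rw [Pi.one_apply, one_mul]
    rfl
  have hfin : ((∑ l : A →* ℂˣ, m (Φ l).1 : ℕ) : ℂ) * Nat.card H =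
      Nat.card A * Nat.card (H ⊓ f.ker : Subgroup G) := by
    rw [Nat.cast_sum, Finset.sum_mul, Finset.sum_congr rfl fun l _ => hval l, Finset.sum_comm]
    have h1 : ∀ h : H, ∑ l : A →* ℂˣ, conj ((l (f h) : ℂˣ) : ℂ) = if f h = 1 then (Nat.card A : ℂ) else 0 := by
      intro h
      rw [← map_sum, sum_hom]
      split_ifs <;> simp
    rw [Finset.sum_congr rfl fun h _ => h1 h, ← Finset.sum_filter, Finset.sum_const, nsmul_eq_mul, mul_comm]
    congr 2
    rw [← Fintype.card_subtype, ← Nat.card_eq_fintype_card]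
    refine Nat.card_congr ⟨fun x => ⟨x.1.1, x.1.2, x.2⟩, fun x => ⟨⟨x.1, x.2.1⟩, x.2.2⟩, fun _ => rfl, fun _ => rfl⟩
  rw [hsum]
  exact_mod_cast hfin

/-- the bound for the permutation character -/
theorem perm_bound (f : G →* A) (hf : Function.Surjective f)
    (hcard : Nat.card {χ : IrrCharacter G // (χ : G → ℂ) 1 = 1} = Nat.card A)
    (hdeg : ∀ χ : G → ℂ, IsIrrCharacter G χ → χ 1 ≠ 1 → (Nat.card A : ℝ) ≤ ‖χ 1‖)
    (hA : 2 ≤ Nat.card A) (H : Subgroup G) (hS : ∃ s ∈ f.ker, s ∉ H) :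
    Nat.card H + Nat.card (H ⊓ f.ker : Subgroup G) ≤ Nat.card f.ker ∧
    ∀ t : G, (∀ χ : G → ℂ, IsIrrCharacter G χ → χ 1 ≠ 1 → (Nat.card A : ℝ) * ‖χ t‖ ≤ 2 * ‖χ 1‖) →
      Nat.card A * Nat.card {g : G // g⁻¹ * t * g ∈ H} + 2 * (Nat.card A * Nat.card (H ⊓ f.ker : Subgroup G)) ≤
        Nat.card A * (Nat.card A * Nat.card (H ⊓ f.ker : Subgroup G)) + 2 * Nat.card G := by
  classical
  have : Finite (IrrCharacter G) := finite_irr
  let _ : Fintype (IrrCharacter G) := Fintype.ofFinite _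
  let _ : Fintype H := Fintype.ofFinite _
  have hchar : IsCharacter G (indFun H 1) := isCharacter_indFun H isCharacter_one
  obtain ⟨m, hm⟩ := exists_nat_comb hchar
  have hlin := sum_lin f hf hcard H m hm
  set L : Finset (IrrCharacter G) := Finset.univ.filter (fun χ : IrrCharacter G => (χ : G → ℂ) 1 = 1) with hL
  set a : ℕ := ∑ χ ∈ L, m χ with ha
  have hHpos : 0 < Nat.card H := Nat.card_pos
  have hdec : ∀ g : G, indFun H 1 g = ∑ χ ∈ L, (m χ : ℂ) * (χ : G → ℂ) g +
      ∑ χ ∈ Lᶜ, (m χ : ℂ) * (χ : G → ℂ) g := by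
    intro g
    rw [Finset.sum_add_sum_compl, hm, Finset.sum_apply]
    exact Finset.sum_congr rfl fun χ _ => by simp [nsmul_eq_mul]
  have hd : ∀ χ : IrrCharacter G, ∃ n : ℕ, 0 < n ∧ (χ : G → ℂ) 1 = n := fun χ => isIrr_apply_one χ.2
  choose d hd0 hd1 using hd
  have hLone : ∀ χ ∈ L, (χ : G → ℂ) 1 = 1 := fun χ h => by rw [hL, Finset.mem_filter] at h; exact h.2
  have hLne : ∀ χ ∈ Lᶜ, (χ : G → ℂ) 1 ≠ 1 := fun χ h => by
    rw [Finset.mem_compl, hL, Finset.mem_filter] at h
    exact fun h' => h ⟨Finset.mem_univ _, h'⟩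
  have hone : (H.index : ℂ) = (a : ℂ) + ((∑ χ ∈ Lᶜ, m χ * d χ : ℕ) : ℂ) := by
    have h1 := hdec 1
    rw [indFun_apply_one, Pi.one_apply, mul_one] at h1
    rw [h1, ha]
    push_cast
    congr 1
    · exact Finset.sum_congr rfl fun χ h => by rw [hLone χ h, mul_one]
    · exact Finset.sum_congr rfl fun χ _ => by rw [hd1]
  have honeN : H.index = a + ∑ χ ∈ Lᶜ, m χ * d χ := by exact_mod_cast hone
  have hidx : H.index * Nat.card H = Nat.card G := by rw [mul_comm]; exact H.card_mul_index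
  have hGA : Nat.card G = Nat.card A * Nat.card f.ker := by
    have h1 := f.ker.card_mul_index
    rw [Subgroup.index_ker, (MonoidHom.range_eq_top.2 hf), Subgroup.card_top] at h1
    rw [← h1, mul_comm]
  set K := Nat.card (H ⊓ f.ker : Subgroup G) with hK
  have hKle : K < Nat.card f.ker := by
    obtain ⟨s, hs, hsH⟩ := hS
    refine lt_of_le_of_ne (Nat.card_le_card_of_injective (fun x : (H ⊓ f.ker : Subgroup G) =>
      (⟨x.1, x.2.2⟩ : f.ker)) fun x y h => Subtype.ext (Subtype.mk.inj h)) fun h => ?_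
    have h1 : (H ⊓ f.ker : Subgroup G) = f.ker :=
      Subgroup.eq_of_le_of_card_ge inf_le_right (le_of_eq (by rw [← hK, h]))
    have h2 : s ∈ (H ⊓ f.ker : Subgroup G) := by rw [h1]; exact hs
    exact hsH h2.1
  have hAD : (2 : ℝ) ≤ Nat.card A := by exact_mod_cast hA
  have hdA : ∀ χ ∈ Lᶜ, Nat.card A ≤ d χ := fun χ h => by
    have h1 := hdeg χ χ.2 (hLne χ h)
    rw [hd1, Complex.norm_natCast] at h1
    exact_mod_cast h1
  refine ⟨?_, fun t ht => ?_⟩
  · -- some nonlinear constituent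
    have hne : ∃ χ ∈ Lᶜ, m χ ≠ 0 := by
      by_contra hcon
      push Not at hcon
      have h1 : ∑ χ ∈ Lᶜ, m χ * d χ = 0 := Finset.sum_eq_zero fun χ h => by rw [hcon χ h, zero_mul]
      rw [h1, add_zero] at honeN
      rw [← honeN, hidx, hGA] at hlin
      exact absurd (Nat.eq_of_mul_eq_mul_left (by omega) hlin) hKle.ne'
    obtain ⟨χ, hχ, hmχ⟩ := hne
    have h1 : Nat.card A ≤ ∑ χ ∈ Lᶜ, m χ * d χ :=
      le_trans (le_trans (hdA χ hχ) (Nat.le_mul_of_pos_left _ (Nat.pos_of_ne_zero hmχ)))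
        (Finset.single_le_sum (f := fun χ => m χ * d χ) (fun _ _ => Nat.zero_le _) hχ)
    have h2 : a + Nat.card A ≤ H.index := by rw [honeN]; omega
    have h3 : (a + Nat.card A) * Nat.card H ≤ Nat.card A * Nat.card f.ker := by
      rw [← hGA, ← hidx]; exact Nat.mul_le_mul_right _ h2
    rw [add_mul, hlin, ← mul_add] at h3
    have h4 := Nat.le_of_mul_le_mul_left h3 (by omega)
    omega
  · -- the value at `t`
    have hπ : indFun H 1 t * Nat.card H = (Nat.card {g : G // g⁻¹ * t * g ∈ H} : ℂ) := by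
      rw [indFun_apply, mul_comm, ← mul_assoc, mul_inv_cancel₀ card_ne_zero_complex, one_mul]
      rw [Nat.card_eq_fintype_card, Fintype.card_subtype, Finset.card_eq_sum_ones, Finset.sum_filter]
      push_cast
      refine Finset.sum_congr rfl fun g _ => ?_
      split_ifs with h
      · rw [extendByZero_of_mem H _ h, Pi.one_apply]
      · rw [extendByZero_of_notMem H _ h]
    have hnorm : (Nat.card A : ℝ) * ‖indFun H 1 t‖ ≤ Nat.card A * a + 2 * (∑ χ ∈ Lᶜ, m χ * d χ : ℕ) := by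
      rw [hdec t]
      calc (Nat.card A : ℝ) * ‖∑ χ ∈ L, (m χ : ℂ) * (χ : G → ℂ) t + ∑ χ ∈ Lᶜ, (m χ : ℂ) * (χ : G → ℂ) t‖
          ≤ Nat.card A * (∑ χ ∈ L, (m χ : ℝ) + ∑ χ ∈ Lᶜ, (m χ : ℝ) * ‖(χ : G → ℂ) t‖) := by
            refine mul_le_mul_of_nonneg_left ?_ (by positivity)
            refine le_trans (norm_add_le _ _) (add_le_add ?_ ?_)
            · refine le_trans (norm_sum_le _ _) (Finset.sum_le_sum fun χ h => ?_)
              rw [norm_mul, Complex.norm_natCast]
              have h1 : ‖(χ : G → ℂ) t‖ ≤ 1 := by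
                obtain ⟨l, hl⟩ := Characters.Linear.exists_hom_of_isIrrCharacter χ.2 (hLone χ h)
                rw [hl]
                exact (Characters.Linear.norm_hom_apply l t).le
              exact mul_le_of_le_one_right (by (clear * -; positivity)) h1
            · refine le_trans (norm_sum_le _ _) (Finset.sum_le_sum fun χ h => ?_)
              rw [norm_mul, Complex.norm_natCast]
        _ ≤ Nat.card A * a + 2 * (∑ χ ∈ Lᶜ, m χ * d χ : ℕ) := by
            rw [mul_add, ha]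
            push_cast
            refine add_le_add le_rfl ?_
            rw [Finset.mul_sum, Finset.mul_sum]
            refine Finset.sum_le_sum fun χ h => ?_
            have h1 := ht χ χ.2 (hLne χ h)
            rw [hd1, Complex.norm_natCast] at h1
            calc (Nat.card A : ℝ) * ((m χ : ℝ) * ‖(χ : G → ℂ) t‖)
                = (m χ : ℝ) * (Nat.card A * ‖(χ : G → ℂ) t‖) := by ring
              _ ≤ (m χ : ℝ) * (2 * d χ) := mul_le_mul_of_nonneg_left h1 (by (clear * -; positivity))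
              _ = 2 * ((m χ : ℝ) * d χ) := by ring
    have hπ2 : ‖indFun H 1 t‖ * Nat.card H = (Nat.card {g : G // g⁻¹ * t * g ∈ H} : ℝ) := by
      have := congrArg norm hπ
      rwa [norm_mul, Complex.norm_natCast, Complex.norm_natCast] at this
    have h5 : (Nat.card A : ℝ) * (Nat.card {g : G // g⁻¹ * t * g ∈ H} : ℝ) ≤
        (Nat.card A * a + 2 * (∑ χ ∈ Lᶜ, m χ * d χ : ℕ)) * Nat.card H := by
      rw [← hπ2, ← mul_assoc]
      exact mul_le_mul_of_nonneg_right hnorm (by positivity)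
    have h6 : Nat.card A * Nat.card {g : G // g⁻¹ * t * g ∈ H} ≤
        (Nat.card A * a + 2 * (∑ χ ∈ Lᶜ, m χ * d χ)) * Nat.card H := by exact_mod_cast h5
    have h7 : (∑ χ ∈ Lᶜ, m χ * d χ) * Nat.card H + Nat.card A * K = Nat.card G := by
      rw [← hlin, ← hidx, honeN]; ring
    calc Nat.card A * Nat.card {g : G // g⁻¹ * t * g ∈ H} + 2 * (Nat.card A * K)
        ≤ (Nat.card A * a + 2 * (∑ χ ∈ Lᶜ, m χ * d χ)) * Nat.card H + 2 * (Nat.card A * K) := by omega
      _ = Nat.card A * (a * Nat.card H) + 2 * ((∑ χ ∈ Lᶜ, m χ * d χ) * Nat.card H + Nat.card A * K) := by ring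
      _ = Nat.card A * (Nat.card A * K) + 2 * Nat.card G := by rw [hlin, h7]

end

end Cfsg.Agent.H397.RC
end

-- part: H397/RC/FixBound
section
/-!
# S3510, row C, task E1: fixed points of elements without eigenvectors (helper397)
-/

set_option autoImplicit false

open Cfsg Matrix Cfsg.Agent.H183.RC

namespace Cfsg.Agent.H397.RC

variable {F : Type*} [Field F] [Finite F]

/-- `det` is onto on the centralizer of an element without eigenvectors -/
theorem exists_comm_det (t : GL (Fin 2) F) (ht : NoEig t) (d : Fˣ) :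
    ∃ c : GL (Fin 2) F, Matrix.GeneralLinearGroup.det c = d ∧ c * t = t * c := by
  classical
  let _ : Fintype F := Fintype.ofFinite F
  -- enough: `x • 1 + y • t` has determinant `d`
  suffices h : ∃ x y : F, Matrix.det (x • (1 : Matrix (Fin 2) (Fin 2) F) + y • (t : Matrix (Fin 2) (Fin 2) F)) = d by
    obtain ⟨x, y, hxy⟩ := h
    refine ⟨Matrix.GeneralLinearGroup.mk'' (x • (1 : Matrix (Fin 2) (Fin 2) F) + y • (t : Matrix (Fin 2) (Fin 2) F))
      (by rw [hxy]; exact d.isUnit), ?_, ?_⟩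
    · ext
      rw [Matrix.GeneralLinearGroup.val_det_apply]
      exact hxy
    · ext1
      change (x • (1 : Matrix (Fin 2) (Fin 2) F) + y • (t : Matrix (Fin 2) (Fin 2) F)) * (t : Matrix (Fin 2) (Fin 2) F) =
        (t : Matrix (Fin 2) (Fin 2) F) * (x • (1 : Matrix (Fin 2) (Fin 2) F) + y • (t : Matrix (Fin 2) (Fin 2) F))
      rw [add_mul, mul_add, smul_mul_assoc, mul_smul_comm, smul_mul_assoc, mul_smul_comm, one_mul, mul_one]
  by_cases h2 : ringChar F = 2
  · obtain ⟨e, he⟩ := FiniteField.isSquare_of_char_two h2 (d : F)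
    refine ⟨e, 0, ?_⟩
    rw [zero_smul, add_zero, Matrix.det_smul, Matrix.det_one, mul_one, he]
    simp [sq]
  · have h2' : (2 : F) ≠ 0 := Ring.two_ne_zero h2
    obtain ⟨e, he⟩ : ∃ e : F, e + e = (t : Matrix (Fin 2) (Fin 2) F) 0 0 + (t : Matrix (Fin 2) (Fin 2) F) 1 1 :=
      ⟨((t : Matrix (Fin 2) (Fin 2) F) 0 0 + (t : Matrix (Fin 2) (Fin 2) F) 1 1) / 2, by field_simp; ring⟩
    have hδ : e ^ 2 - ((t : Matrix (Fin 2) (Fin 2) F) 0 0 * (t : Matrix (Fin 2) (Fin 2) F) 1 1 -
      (t : Matrix (Fin 2) (Fin 2) F) 0 1 * (t : Matrix (Fin 2) (Fin 2) F) 1 0) ≠ 0 := by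
      intro h
      have h1 : Matrix.det ((t : Matrix (Fin 2) (Fin 2) F) - e • (1 : Matrix (Fin 2) (Fin 2) F)) = 0 := by
        rw [Matrix.det_fin_two]
        simp only [Matrix.sub_apply, Matrix.smul_apply, Matrix.one_apply_eq, smul_eq_mul, mul_one, ne_eq,
          zero_ne_one, not_false_eq_true, Matrix.one_apply_ne, one_ne_zero, mul_zero, sub_zero]
        linear_combination -h + e * he
      obtain ⟨v, hv, hv0⟩ := Matrix.exists_mulVec_eq_zero_iff.2 h1
      refine ht e v hv ?_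
      rw [Matrix.sub_mulVec, Matrix.smul_mulVec, Matrix.one_mulVec, sub_eq_zero] at hv0
      exact hv0
    obtain ⟨x, y, hxy⟩ := FiniteField.exists_root_sum_quadratic (R := F) (f := Polynomial.X ^ 2)
      (g := Polynomial.C (-(e ^ 2 - ((t : Matrix (Fin 2) (Fin 2) F) 0 0 * (t : Matrix (Fin 2) (Fin 2) F) 1 1 -
      (t : Matrix (Fin 2) (Fin 2) F) 0 1 * (t : Matrix (Fin 2) (Fin 2) F) 1 0))) * Polynomial.X ^ 2 +
        Polynomial.C 0 * Polynomial.X + Polynomial.C (-(d : F)))
      (Polynomial.degree_X_pow 2) (Polynomial.degree_quadratic (neg_ne_zero.2 hδ))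
      (FiniteField.odd_card_of_char_ne_two h2)
    simp only [Polynomial.eval_pow, Polynomial.eval_X, Polynomial.eval_add, Polynomial.eval_mul,
      Polynomial.eval_C, zero_mul, add_zero] at hxy
    refine ⟨x - y * e, y, ?_⟩
    rw [Matrix.det_fin_two]
    simp only [Matrix.add_apply, Matrix.smul_apply, Matrix.one_apply_eq, smul_eq_mul, mul_one, ne_eq,
      zero_ne_one, not_false_eq_true, Matrix.one_apply_ne, one_ne_zero, mul_zero, zero_add]
    linear_combination hxy - (x - y * e) * y * he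

omit [Finite F] in
/-- elements of `SL₂` as elements of the kernel of `det` -/
theorem card_sl_and (P : GL (Fin 2) F → Prop) :
    Nat.card {s : SL F // P (Matrix.SpecialLinearGroup.toGL s)} =
      Nat.card {g : GL (Fin 2) F // Matrix.GeneralLinearGroup.det g = 1 ∧ P g} := by
  refine Nat.card_congr (Equiv.ofBijective (fun s => ⟨Matrix.SpecialLinearGroup.toGL s.1, ?_, s.2⟩) ⟨?_, ?_⟩)
  · ext
    rw [Matrix.GeneralLinearGroup.val_det_apply]
    exact s.1.2
  · rintro ⟨s, hs⟩ ⟨s', hs'⟩ h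
    have h1 : Matrix.SpecialLinearGroup.toGL s = Matrix.SpecialLinearGroup.toGL s' := Subtype.mk.inj h
    have h2 : (s : Matrix (Fin 2) (Fin 2) F) = s' := congrArg (fun g : GL (Fin 2) F => (g : Matrix (Fin 2) (Fin 2) F)) h1
    exact Subtype.ext (Subtype.ext h2)
  · rintro ⟨g, hg, hP⟩
    have h1 : Matrix.det (g : Matrix (Fin 2) (Fin 2) F) = 1 := by
      rw [← Matrix.GeneralLinearGroup.val_det_apply, hg, Units.val_one]
    have h2 : Matrix.SpecialLinearGroup.toGL (⟨g, h1⟩ : SL F) = g := by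
      ext1
      rfl
    exact ⟨⟨⟨g, h1⟩, by rw [h2]; exact hP⟩, Subtype.ext h2⟩

omit [Finite F] in
theorem det_surj : Function.Surjective (Matrix.GeneralLinearGroup.det : GL (Fin 2) F →* Fˣ) := by
  intro d
  refine ⟨Matrix.GeneralLinearGroup.mk'' !![(d : F), 0; 0, 1] (by rw [Matrix.det_fin_two_of]; simp), ?_⟩
  ext
  rw [Matrix.GeneralLinearGroup.val_det_apply]
  change Matrix.det !![(d : F), 0; 0, 1] = d
  rw [Matrix.det_fin_two_of]
  simp

/-- counting conjugators in `GL₂` and in `SL₂` -/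
theorem card_conj (t : GL (Fin 2) F) (ht : NoEig t) (H : Subgroup (GL (Fin 2) F)) :
    Nat.card {g : GL (Fin 2) F // g⁻¹ * t * g ∈ H} = Nat.card Fˣ *
      Nat.card {s : SL F // (Matrix.SpecialLinearGroup.toGL s)⁻¹ * t * Matrix.SpecialLinearGroup.toGL s ∈ H} := by
  choose c hc1 hc2 using exists_comm_det t ht
  rw [card_sl_and (fun g => g⁻¹ * t * g ∈ H), ← Nat.card_prod]
  have hcc : ∀ (d : Fˣ), (c d)⁻¹ * t * c d = t := fun d => by rw [mul_assoc, ← hc2, ← mul_assoc, inv_mul_cancel, one_mul]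
  refine Nat.card_congr ⟨fun g => (Matrix.GeneralLinearGroup.det g.1,
      ⟨(c (Matrix.GeneralLinearGroup.det g.1))⁻¹ * g.1, ?_, ?_⟩),
    fun x => ⟨c x.1 * x.2.1, ?_⟩, fun g => ?_, fun x => ?_⟩
  · rw [map_mul, map_inv, hc1, inv_mul_cancel]
  · have h1 : ((c (Matrix.GeneralLinearGroup.det g.1))⁻¹ * g.1)⁻¹ * t * ((c (Matrix.GeneralLinearGroup.det g.1))⁻¹ * g.1) =
        g.1⁻¹ * t * g.1 := by
      have h2 := hcc (Matrix.GeneralLinearGroup.det g.1)
      have h3 : c (Matrix.GeneralLinearGroup.det g.1) * t * (c (Matrix.GeneralLinearGroup.det g.1))⁻¹ = t := by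
        rw [hc2, mul_assoc, mul_inv_cancel, mul_one]
      calc ((c (Matrix.GeneralLinearGroup.det g.1))⁻¹ * g.1)⁻¹ * t * ((c (Matrix.GeneralLinearGroup.det g.1))⁻¹ * g.1)
          = g.1⁻¹ * (c (Matrix.GeneralLinearGroup.det g.1) * t * (c (Matrix.GeneralLinearGroup.det g.1))⁻¹) * g.1 := by group
        _ = _ := by rw [h3]
    rw [h1]
    exact g.2
  · have h1 : (c x.1 * x.2.1)⁻¹ * t * (c x.1 * x.2.1) = x.2.1⁻¹ * t * x.2.1 := by
      calc (c x.1 * x.2.1)⁻¹ * t * (c x.1 * x.2.1) = x.2.1⁻¹ * ((c x.1)⁻¹ * t * c x.1) * x.2.1 := by group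
        _ = _ := by rw [hcc]
    rw [h1]
    exact x.2.2.2
  · apply Subtype.ext
    simp
  · obtain ⟨d, g, hg, hP⟩ := x
    have h1 : Matrix.GeneralLinearGroup.det (c d * g) = d := by rw [map_mul, hc1, hg, mul_one]
    refine Prod.ext h1 (Subtype.ext ?_)
    simp [h1]

theorem two_card_ge (H : Subgroup (GL (Fin 2) F))
    (hZ : ∀ (z : GL (Fin 2) F) (c : F), (z : Matrix (Fin 2) (Fin 2) F) = c • (1 : Matrix (Fin 2) (Fin 2) F) → z ∈ H) :
    Nat.card Fˣ * Nat.card (H ⊓ (Matrix.GeneralLinearGroup.det : GL (Fin 2) F →* Fˣ).ker : Subgroup (GL (Fin 2) F)) ≤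
      2 * Nat.card H := by
  classical
  let φ : H →* Fˣ := (Matrix.GeneralLinearGroup.det : GL (Fin 2) F →* Fˣ).comp H.subtype
  have h1 : Nat.card φ.ker * Nat.card φ.range = Nat.card H := by
    rw [← Subgroup.index_ker, Subgroup.card_mul_index]
  have h2 : Nat.card φ.ker =
      Nat.card (H ⊓ (Matrix.GeneralLinearGroup.det : GL (Fin 2) F →* Fˣ).ker : Subgroup (GL (Fin 2) F)) :=
    Nat.card_congr ⟨fun x => ⟨x.1.1, x.1.2, x.2⟩, fun x => ⟨⟨x.1, x.2.1⟩, x.2.2⟩, fun _ => rfl, fun _ => rfl⟩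
  let sq : Fˣ →* Fˣ := powMonoidHom 2
  have h3 : Nat.card sq.ker * Nat.card sq.range = Nat.card Fˣ := by
    rw [← Subgroup.index_ker, Subgroup.card_mul_index]
  have h4 : Nat.card sq.ker ≤ 2 := by
    have h5 : (sq.ker : Set Fˣ) ⊆ {1, -1} := by
      intro z hz
      have h6 : z ^ 2 = 1 := hz
      have h7 : ((z : F)) ^ 2 = 1 := by rw [← Units.val_pow_eq_pow_val, h6, Units.val_one]
      rcases (sq_eq_one_iff.1 h7) with h8 | h8
      · exact Or.inl (Units.ext h8)
      · exact Or.inr (Units.ext (by rw [h8, Units.val_neg, Units.val_one]))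
    have h6 := Set.ncard_le_ncard h5 (Set.toFinite _)
    have h7 : Nat.card sq.ker = (sq.ker : Set Fˣ).ncard := (Nat.card_coe_set_eq _)
    rw [h7]
    exact h6.trans ((Set.ncard_insert_le _ _).trans (by rw [Set.ncard_singleton]))
  have h5 : sq.range ≤ φ.range := by
    rintro _ ⟨z, rfl⟩
    refine ⟨⟨Matrix.GeneralLinearGroup.mk'' ((z : F) • (1 : Matrix (Fin 2) (Fin 2) F)) ?_, hZ _ (z : F) rfl⟩, ?_⟩
    · rw [Matrix.det_smul, Matrix.det_one, mul_one]
      exact (z.isUnit).pow _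
    · ext
      change Matrix.det ((z : F) • (1 : Matrix (Fin 2) (Fin 2) F)) = _
      rw [Matrix.det_smul, Matrix.det_one, mul_one]
      simp [sq]
  have h6 : Nat.card sq.range ≤ Nat.card φ.range := Subgroup.card_le_of_le h5
  rw [← h3, ← h2, ← h1]
  calc Nat.card sq.ker * Nat.card sq.range * Nat.card φ.ker ≤ 2 * Nat.card φ.range * Nat.card φ.ker :=
        Nat.mul_le_mul_right _ (Nat.mul_le_mul h4 h6)
    _ = 2 * (Nat.card φ.ker * Nat.card φ.range) := by ring

/-- E1, with the bound D as a hypothesis -/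
theorem fix_bound_of {F : Type*} [Field F] [Fintype F] (h3 : 3 ≤ Nat.card F)
    (hD : ∀ χ : GL (Fin 2) F → ℂ, Cfsg.IsIrrCharacter (GL (Fin 2) F) χ → χ 1 ≠ 1 → ∀ t : GL (Fin 2) F, NoEig t →
      ((Fintype.card F : ℝ) - 1) * ‖χ t‖ ≤ 2 * ‖χ 1‖)
    (H : Subgroup (GL (Fin 2) F))
    (hZ : ∀ (z : GL (Fin 2) F) (c : F), (z : Matrix (Fin 2) (Fin 2) F) = c • (1 : Matrix (Fin 2) (Fin 2) F) → z ∈ H)
    (hS : ∃ s : SL F, Matrix.SpecialLinearGroup.toGL s ∉ H) :
    (Nat.card F + 1) * Nat.card {s : SL F // Matrix.SpecialLinearGroup.toGL s ∈ H} ≤ 2 * Nat.card (SL F) ∧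
    ∀ t : GL (Fin 2) F, NoEig t →
      (Nat.card F - 1) * Nat.card {s : SL F // (Matrix.SpecialLinearGroup.toGL s)⁻¹ * t *
          Matrix.SpecialLinearGroup.toGL s ∈ H} +
        2 * Nat.card {s : SL F // Matrix.SpecialLinearGroup.toGL s ∈ H} ≤
      (Nat.card F - 1) * Nat.card {s : SL F // Matrix.SpecialLinearGroup.toGL s ∈ H} + 2 * Nat.card (SL F) := by
  classical
  have hq : Nat.card F = Fintype.card F := Nat.card_eq_fintype_card
  have hA : Nat.card Fˣ = Nat.card F - 1 := by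
    rw [hq, ← Fintype.card_units, Nat.card_eq_fintype_card]
  obtain ⟨hdeg, hcount⟩ := Cfsg.Agent.S2298.result (F := F)
  have hcard : Nat.card {χ : IrrCharacter (GL (Fin 2) F) // (χ : GL (Fin 2) F → ℂ) 1 = 1} = Nat.card Fˣ := by
    rw [hA, hq]
    exact (hcount (by rw [← hq]; exact h3)).1
  have hAr : (Nat.card Fˣ : ℝ) = (Fintype.card F : ℝ) - 1 := by
    rw [hA, hq, Nat.cast_sub (by omega), Nat.cast_one]
  have hK : Nat.card {s : SL F // Matrix.SpecialLinearGroup.toGL s ∈ H} =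
      Nat.card (H ⊓ (Matrix.GeneralLinearGroup.det : GL (Fin 2) F →* Fˣ).ker : Subgroup (GL (Fin 2) F)) := by
    rw [card_sl_and (fun g => g ∈ H)]
    exact Nat.card_congr (Equiv.subtypeEquivRight fun g => by
      rw [Subgroup.mem_inf, MonoidHom.mem_ker, and_comm])
  have hSL : Nat.card (SL F) = Nat.card (Matrix.GeneralLinearGroup.det : GL (Fin 2) F →* Fˣ).ker := by
    have h1 := card_sl_and (F := F) (fun _ => True)
    rw [Nat.card_congr (Equiv.subtypeUnivEquiv fun _ => trivial)] at h1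
    rw [h1]
    exact Nat.card_congr (Equiv.subtypeEquivRight fun g => by rw [MonoidHom.mem_ker, and_true])
  have hGL : Nat.card (GL (Fin 2) F) = Nat.card Fˣ * Nat.card (SL F) := by
    have h1 := (Matrix.GeneralLinearGroup.det : GL (Fin 2) F →* Fˣ).ker.card_mul_index
    rw [Subgroup.index_ker, MonoidHom.range_eq_top.2 det_surj, Subgroup.card_top, ← hSL] at h1
    rw [← h1, mul_comm]
  obtain ⟨hp1, hp2⟩ := perm_bound (Matrix.GeneralLinearGroup.det : GL (Fin 2) F →* Fˣ) det_surj hcard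
    (fun χ hχ h1 => by
      rw [hAr]
      have hq1 : (1 : ℝ) ≤ (Fintype.card F : ℝ) := by
        rw [← hq]; exact_mod_cast (by omega : 1 ≤ Nat.card F)
      rcases hdeg χ hχ with h | h | h | h
      · exact absurd h h1
      · rw [h]
        have : ((Fintype.card F : ℂ) - 1) = (((Fintype.card F : ℝ) - 1 : ℝ) : ℂ) := by push_cast; rfl
        rw [this, Complex.norm_real, Real.norm_of_nonneg (by linarith only [hAr])]
      · rw [h, Complex.norm_natCast]
        linarith only []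
      · rw [h]
        have : ((Fintype.card F : ℂ) + 1) = ((Fintype.card F + 1 : ℕ) : ℂ) := by push_cast; rfl
        rw [this, Complex.norm_natCast]
        push_cast
        linarith only [])
    (by omega) H (by
      obtain ⟨s, hs⟩ := hS
      refine ⟨Matrix.SpecialLinearGroup.toGL s, ?_, hs⟩
      rw [MonoidHom.mem_ker]
      ext
      rw [Matrix.GeneralLinearGroup.val_det_apply]
      exact s.2)
  have h2K := two_card_ge H hZ
  rw [← hK] at hp1 h2K
  rw [← hSL] at hp1
  rw [hA] at h2K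
  refine ⟨?_, fun t ht => ?_⟩
  · have h4 : (Nat.card F + 1) = (Nat.card F - 1) + 2 := by omega
    rw [h4, add_mul]
    omega
  · have h5 := hp2 t (fun χ hχ h1 => by rw [hAr]; exact hD χ hχ h1 t ht)
    rw [card_conj t ht H, ← hK, hGL, hA] at h5
    have h6 : 0 < Nat.card F - 1 := by omega
    refine Nat.le_of_mul_le_mul_left (c := Nat.card F - 1) ?_ h6
    calc (Nat.card F - 1) * ((Nat.card F - 1) * Nat.card {s : SL F // (Matrix.SpecialLinearGroup.toGL s)⁻¹ * t *
          Matrix.SpecialLinearGroup.toGL s ∈ H} +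
        2 * Nat.card {s : SL F // Matrix.SpecialLinearGroup.toGL s ∈ H})
        = (Nat.card F - 1) * ((Nat.card F - 1) * Nat.card {s : SL F // (Matrix.SpecialLinearGroup.toGL s)⁻¹ * t *
          Matrix.SpecialLinearGroup.toGL s ∈ H}) +
          2 * ((Nat.card F - 1) * Nat.card {s : SL F // Matrix.SpecialLinearGroup.toGL s ∈ H}) := by ring
      _ ≤ _ := h5
      _ = _ := by ring

end Cfsg.Agent.H397.RC
end

-- part: H183/RC/Ub
section
/-!
# S3510, row C, part E: elements without eigenvectors do not cover (helper183), given the character bound `hD` (part D)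
-/

set_option autoImplicit false

namespace Cfsg.Agent.H183.RC

open Cfsg Matrix Cfsg.Agent.H106.RC MulAction

/-- numerical part -/
theorem ub_num {q S K m : ℕ} (hq : 4 ≤ q) (hS : 0 < S) (h1 : (q + 1) * K ≤ 2 * S)
    (h2 : (q - 1) * S + m * (2 * K) ≤ m * ((q - 1) * K + 2 * S)) (hm : 4 * m ≤ q) : False := by
  obtain ⟨a, rfl⟩ : ∃ a, q = a + 4 := ⟨q - 4, by omega⟩
  have e1 : a + 4 - 1 = a + 3 := by omega
  rw [e1] at h2
  -- `(a+3) S ≤ m ((a+1) K + 2 S)`
  have h3 : (a + 3) * S ≤ m * ((a + 1) * K + 2 * S) := by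
    have : m * ((a + 3) * K + 2 * S) = m * ((a + 1) * K + 2 * S) + m * (2 * K) := by ring
    omega
  have h4 : 4 * ((a + 3) * S) ≤ (a + 4) * ((a + 1) * K + 2 * S) := by
    calc 4 * ((a + 3) * S) ≤ 4 * (m * ((a + 1) * K + 2 * S)) := Nat.mul_le_mul_left _ h3
      _ = (4 * m) * ((a + 1) * K + 2 * S) := by ring
      _ ≤ _ := Nat.mul_le_mul_right _ hm
  have h5 : (a + 5) * (4 * ((a + 3) * S)) ≤ (a + 4) * ((a + 1) * (2 * S) + 2 * ((a + 5) * S)) := by
    calc (a + 5) * (4 * ((a + 3) * S)) ≤ (a + 5) * ((a + 4) * ((a + 1) * K + 2 * S)) := Nat.mul_le_mul_left _ h4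
      _ = (a + 4) * ((a + 1) * ((a + 4 + 1) * K) + 2 * ((a + 5) * S)) := by ring
      _ ≤ _ := Nat.mul_le_mul_left _ (Nat.add_le_add_right (Nat.mul_le_mul_left _ h1) _)
  have h6 : (a + 4) * ((a + 1) * (2 * S) + 2 * ((a + 5) * S)) + 4 * ((a + 3) * S) =
      (a + 5) * (4 * ((a + 3) * S)) := by ring
  have h7 : 0 < 4 * ((a + 3) * S) := by positivity
  omega

theorem ub_of {G Ω F ι : Type*} [Group G] [Finite G] [MulAction G Ω] [Nonempty Ω] [Field F] [Fintype F]
    (hD : ∀ χ : Matrix.GeneralLinearGroup (Fin 2) F → ℂ,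
      Cfsg.IsIrrCharacter (Matrix.GeneralLinearGroup (Fin 2) F) χ → χ 1 ≠ 1 →
      ∀ t : Matrix.GeneralLinearGroup (Fin 2) F, NoEig t → ((Fintype.card F : ℝ) - 1) * ‖χ t‖ ≤ 2 * ‖χ 1‖)
    {N : Subgroup G} (hE : Env G Ω N) (e : N ≃* PS F) (h4 : 4 ≤ Nat.card F)
    [Finite ι] (x : ι → G) (t : ι → GL (Fin 2) F)
    (hx : ∀ i, Acts e (x i) (t i) 1) (ht : ∀ i, NoEig (t i)) (hn : 4 * Nat.card ι ≤ Nat.card F) :
    ∃ ω : Ω, ∀ i, x i • ω ≠ ω := by
  classical
  by_contra hcon
  push Not at hcon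
  have hN := hE.norm
  have hcen := hE.cent
  obtain ⟨ω⟩ := (inferInstance : Nonempty Ω)
  let H : Subgroup (GL (Fin 2) F) :=
    { carrier := {g | ∃ y ∈ stabilizer G ω, Acts e y g 1}
      one_mem' := ⟨1, Subgroup.one_mem _, acts_one e⟩
      mul_mem' := by
        rintro a b ⟨y, hy, ha⟩ ⟨z, hz, hb⟩
        refine ⟨y * z, Subgroup.mul_mem _ hy hz, ?_⟩
        have := acts_mul hN ha hb
        rwa [gmap_one, mul_one] at this
      inv_mem' := by
        rintro a ⟨y, hy, ha⟩
        refine ⟨y⁻¹, Subgroup.inv_mem _ hy, ?_⟩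
        have := acts_inv hN ha
        rwa [inv_one, gmap_one] at this }
  let ns : SL F → G := fun s => (e.symm (QuotientGroup.mk s) : N)
  have hns : ∀ s, Acts e (ns s) (Matrix.SpecialLinearGroup.toGL s) 1 :=
    fun s => acts_mem _ _ (e.apply_symm_apply _)
  have hH : ∀ (y : G) (g : GL (Fin 2) F), Acts e y g 1 → (g ∈ H ↔ y ∈ stabilizer G ω) := by
    intro y g hy
    constructor
    · rintro ⟨z, hz, hg⟩
      rwa [acts_inj hN hcen hy hg]
    · intro h
      exact ⟨y, h, hy⟩
  have hZ : ∀ (z : GL (Fin 2) F) (c : F), (z : Matrix (Fin 2) (Fin 2) F) = c • (1 : Matrix (Fin 2) (Fin 2) F) →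
      z ∈ H := fun z c hz => ⟨1, Subgroup.one_mem _, acts_smul (acts_one e) c hz⟩
  have hS : ∃ s : SL F, Matrix.SpecialLinearGroup.toGL s ∉ H := by
    by_contra hno
    push Not at hno
    apply hE.nofix ω
    intro n hn
    obtain ⟨s, hs⟩ := QuotientGroup.mk_surjective (e ⟨n, hn⟩)
    exact (hH n _ (acts_mem ⟨n, hn⟩ s hs.symm)).1 (hno s)
  obtain ⟨hb1, hb2⟩ := Cfsg.Agent.H397.RC.fix_bound_of (by omega) hD H hZ hS
  have hcf : Finite (GL (Fin 2) F) := inferInstance
  have := Fintype.ofFinite ι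
  have := Fintype.ofFinite (SL F)
  set K := Nat.card {s : SL F // Matrix.SpecialLinearGroup.toGL s ∈ H} with hK
  set B : ι → ℕ := fun i => Nat.card {s : SL F // (Matrix.SpecialLinearGroup.toGL s)⁻¹ * t i *
          Matrix.SpecialLinearGroup.toGL s ∈ H} with hB
  have hcover : ∀ s : SL F, ∃ i, (Matrix.SpecialLinearGroup.toGL s)⁻¹ * t i * Matrix.SpecialLinearGroup.toGL s ∈ H := by
    intro s
    obtain ⟨i, hi⟩ := hcon (ns s • ω)
    refine ⟨i, ?_⟩
    have h1 := acts_mul hN (acts_mul hN (acts_inv hN (hns s)) (hx i)) (hns s)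
    rw [inv_one, one_mul, gmap_one, gmap_one, gmap_one, mul_one] at h1
    rw [hH _ _ h1, mem_stabilizer_iff, mul_smul, mul_smul, hi, inv_smul_smul]
  have hsum : Nat.card (SL F) ≤ ∑ i, B i := by
    have h1 : (Finset.univ : Finset (SL F)) ⊆ Finset.univ.biUnion (fun i : ι => Finset.univ.filter fun s : SL F =>
        (Matrix.SpecialLinearGroup.toGL s)⁻¹ * t i * Matrix.SpecialLinearGroup.toGL s ∈ H) := by
      intro s _
      obtain ⟨i, hi⟩ := hcover s
      exact Finset.mem_biUnion.2 ⟨i, Finset.mem_univ _, Finset.mem_filter.2 ⟨Finset.mem_univ _, hi⟩⟩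
    calc Nat.card (SL F) = (Finset.univ : Finset (SL F)).card := by rw [Nat.card_eq_fintype_card, Finset.card_univ]
      _ ≤ _ := Finset.card_le_card h1
      _ ≤ _ := Finset.card_biUnion_le
      _ = ∑ i, B i := by
        apply Finset.sum_congr rfl
        intro i _
        rw [hB]
        simp only
        rw [Nat.card_eq_fintype_card, Fintype.card_subtype]
  have hpos : 0 < Nat.card (SL F) := Nat.card_pos
  refine ub_num (K := K) (m := Nat.card ι) h4 hpos hb1 ?_ hn
  have h2 : ∑ i, ((Nat.card F - 1) * B i + 2 * K) ≤ ∑ _i : ι, ((Nat.card F - 1) * K + 2 * Nat.card (SL F)) :=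
    Finset.sum_le_sum fun i _ => hb2 (t i) (ht i)
  rw [Finset.sum_add_distrib, ← Finset.mul_sum, Finset.sum_const, Finset.sum_const, Finset.card_univ,
    ← Nat.card_eq_fintype_card, smul_eq_mul, smul_eq_mul] at h2
  have h3 := Nat.mul_le_mul_left (Nat.card F - 1) hsum
  omega

end Cfsg.Agent.H183.RC
end

private theorem dce_7f8b49b74718 : _root_.True := by
  try have : _root_.True := by simp only [_root_.Cfsg.Agent.H588.RC.Sg.eq_1]
  exact _root_.True.intro
end
end
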