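import Cfsg.Agent.H578.RC.One_m3
import Cfsg.Agent.S2119
import Cfsg.Agent.H233.RC.RedA
import Cfsg.Agent.H202.RC.Point_mg_m3
import Mathlib
import Cfsg.Agent.H514.DP.SLRes
import Cfsg.Agent.StdAlt.Six.Theta
import Cfsg.Agent.H233.RC.Red_mg_m3
import Cfsg.Agent.H93.RC.BoxB3_m3
import Cfsg.Agent.H384.RC.Types_m3
import Cfsg.Agent.S0255
import Cfsg.Agent.S0256
import Cfsg.Agent.H520.RC.MHom
import Cfsg.Agent.H566.RC.TypeI
import Cfsg.Agent.H398.RC.RowUAll_m3
import Cfsg.Agent.H721.RC.Boxes_m3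
import Cfsg.Agent.FastGrp
import Cfsg.Agent.Prune
set_option linter.all false

section
prune_inst 0x7f00000000000000000000000000000000000000000000000000000000000000000000000000000000000000000000000000000000000000000000000000000000000000000000000000000000000000001fffffffffffffffffffffffffffaeffbdffffffff

-- part: H390/RC/Exc_mg
section
prune_inst 0x200000000000000000000000000010000000000000
set_option linter.all false
open scoped Cfsg.Agent.FastGrp

-- part: H390/RC/Exc
section
/-!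
# S3510, EXC: `T = A₅`, `A₈` (helper390)
-/

set_option autoImplicit false

namespace Cfsg.Agent.H390.RC

open Equiv Equiv.Perm

/-- the embedding of `G` in `Sₙ` -/
theorem exists_psi {G : Type*} [Group G] (K : Subgroup G) [K.Normal]
    (hCK : Subgroup.centralizer (K : Set G) = ⊥) {n : ℕ} (hn : 4 ≤ n) (h6 : n ≠ 6)
    (e : K ≃* alternatingGroup (Fin n)) :
    ∃ ψ : G →* Perm (Fin n), Function.Injective ψ ∧ ∀ k : K, ψ k = (e k : Perm (Fin n)) := by
  set a : Perm (Fin n) ≃* MulAut (alternatingGroup (Fin n)) :=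
    MulEquiv.ofBijective MulAut.conjNormal (Cfsg.Agent.S2119.result n hn h6) with ha
  set ψ : G →* Perm (Fin n) :=
    (a.symm.toMonoidHom.comp (MulAut.congr e).toMonoidHom).comp (MulAut.conjNormal : G →* MulAut K) with hψ
  have h1 : ∀ (g : G), a (ψ g) = MulAut.congr e (MulAut.conjNormal g) := fun g => a.apply_symm_apply _
  refine ⟨ψ, ?_, ?_⟩
  · rw [injective_iff_map_eq_one]
    intro g hg
    have h3 := h1 g
    rw [hg, map_one] at h3
    have h4 : (MulAut.conjNormal g : MulAut K) = 1 := (MulAut.congr e).injective (by rw [← h3, map_one])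
    have h5 : g ∈ Subgroup.centralizer (K : Set G) := by
      rw [Subgroup.mem_centralizer_iff]
      intro k hk
      have h6 := MulAut.conjNormal_apply (H := K) g ⟨k, hk⟩
      rw [h4, MulAut.one_apply] at h6
      change k = g * k * g⁻¹ at h6
      nth_rewrite 1 [h6]
      rw [inv_mul_cancel_right]
    rw [hCK, Subgroup.mem_bot] at h5
    exact h5
  · intro k
    apply a.injective
    rw [h1]
    apply MulEquiv.ext
    intro x
    rw [MulAut.conjNormal_val]
    apply Subtype.ext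
    have h3 : (MulAut.congr e) (MulAut.conj k) x = e (MulAut.conj k (e.symm x)) := rfl
    rw [h3, MulAut.conj_apply, map_mul, map_mul, map_inv, e.apply_symm_apply]
    exact (MulAut.conjNormal_apply (H := alternatingGroup (Fin n)) (e k : Perm (Fin n)) x).symm

/-- an element of prime order of `⟨g⟩` in a nontrivial subgroup -/
theorem exists_prime_pow {G : Type*} [Group G] [Finite G] {Ω : Type*} [MulAction G Ω] {g : G} {ω : Ω}
    (hg : MulAction.stabilizer (Subgroup.zpowers g) ω ≠ ⊥) :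
    ∃ r : ℕ, r.Prime ∧ r ∣ orderOf g ∧ g ^ (orderOf g / r) • ω = ω := by
  obtain ⟨⟨⟨z, hz⟩, hzω⟩, ha1⟩ := Subgroup.ne_bot_iff_exists_ne_one.1 hg
  have hz1 : z ≠ 1 := by
    intro h
    apply ha1
    apply Subtype.ext
    exact Subtype.ext h
  have hzS : z ∈ MulAction.stabilizer G ω := hzω
  rw [← mem_powers_iff_mem_zpowers] at hz
  obtain ⟨k, rfl⟩ := hz
  change g ^ k ≠ 1 at hz1
  change g ^ k ∈ _ at hzS
  set n := orderOf g with hn
  have hpos : 0 < n := orderOf_pos g
  set d := Nat.gcd k n with hd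
  have hdn : d ∣ n := Nat.gcd_dvd_right _ _
  have hdpos : 0 < d := Nat.pos_of_dvd_of_pos hdn hpos
  have hdne : n / d ≠ 1 := by
    intro h
    have h1 : n = d := by
      have h2 := Nat.div_mul_cancel hdn
      rw [h, one_mul] at h2
      exact h2.symm
    apply hz1
    rw [← orderOf_dvd_iff_pow_eq_one, ← hn, h1]
    exact Nat.gcd_dvd_left _ _
  have hgd : g ^ d ∈ MulAction.stabilizer G ω := by
    have h1 : g ^ d = (g ^ k) ^ (Nat.gcdA k n) := by
      have h2 : g ^ (n : ℤ) = 1 := by rw [zpow_natCast, hn, pow_orderOf_eq_one]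
      rw [← zpow_natCast, hd, Nat.gcd_eq_gcd_ab, zpow_add, zpow_mul, zpow_mul, h2, one_zpow, mul_one, zpow_natCast]
    rw [h1]
    exact Subgroup.zpow_mem _ hzS _
  obtain ⟨r, hr, hrd⟩ := Nat.exists_prime_and_dvd hdne
  refine ⟨r, hr, hrd.trans (Nat.div_dvd_of_dvd hdn), ?_⟩
  have h1 : n / r = d * (n / d / r) := by
    obtain ⟨m, hm⟩ := hrd
    have h2 := Nat.div_mul_cancel hdn
    rw [hm] at h2 ⊢
    rw [Nat.mul_div_cancel_left _ hr.pos, ← h2, mul_assoc, Nat.mul_div_cancel_left _ hr.pos, mul_comm]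
  rw [h1, pow_mul]
  exact Subgroup.pow_mem _ hgd _

/-- an element without regular points whose order is a prime power is impossible -/
theorem exists_two_primes {G : Type*} [Group G] [Finite G] {Ω : Type*} [Nonempty Ω] [MulAction G Ω] [FaithfulSMul G Ω]
    (g : G) (hg : ∀ ω : Ω, MulAction.stabilizer (Subgroup.zpowers g) ω ≠ ⊥) :
    ∃ r₁ r₂ : ℕ, r₁.Prime ∧ r₂.Prime ∧ r₁ < r₂ ∧ r₁ ∣ orderOf g ∧ r₂ ∣ orderOf g := by
  have hpos : 0 < orderOf g := orderOf_pos g
  obtain ⟨r, hr, hd, -⟩ := exists_prime_pow (hg (Classical.arbitrary Ω))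
  have hne : g ^ (orderOf g / r) ≠ 1 := by
    intro h
    have h1 := Nat.le_of_dvd (Nat.div_pos (Nat.le_of_dvd hpos hd) hr.pos) (orderOf_dvd_of_pow_eq_one h)
    exact absurd h1 (not_le.2 (Nat.div_lt_self hpos hr.one_lt))
  obtain ⟨ω, hω⟩ : ∃ ω : Ω, g ^ (orderOf g / r) • ω ≠ ω := by
    by_contra hc
    push Not at hc
    apply hne
    apply eq_of_smul_eq_smul (α := Ω)
    intro ω
    rw [hc ω, one_smul]
  obtain ⟨r', hr', hd', hω'⟩ := exists_prime_pow (hg ω)
  have hrr : r ≠ r' := by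
    rintro rfl
    exact hω hω'
  rcases lt_or_gt_of_ne hrr with h | h
  · exact ⟨r, r', hr, hr', h, hd, hd'⟩
  · exact ⟨r', r, hr', hr, h, hd', hd⟩

theorem index_stab {n : ℕ} (hn : 3 ≤ n) (i : Fin n) :
    (MulAction.stabilizer (alternatingGroup (Fin n)) i).index = n := by
  have := alternatingGroup.isPretransitive_of_three_le_card (Fin n) (by simpa only [_root_.Nat.card_eq_fintype_card, _root_.Fintype.card_fin] using hn)
  rw [MulAction.index_stabilizer_of_transitive, Nat.card_eq_fintype_card, Fintype.card_fin]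

theorem card_dvd_of {G : Type*} [Group G] [Finite G] {Ω : Type*} [Fintype Ω] [MulAction G Ω] [FaithfulSMul G Ω]
    (T : Subgroup G) [T.Normal] {n : ℕ} (hn : 5 ≤ n) (h6 : n ≠ 6) (e : T ≃* alternatingGroup (Fin n))
    (hC : Subgroup.centralizer (T : Set G) = ⊥) (hprim : MulAction.IsPreprimitive G Ω) (g : G)
    (hg : ∀ ω : Ω, MulAction.stabilizer (Subgroup.zpowers g) ω ≠ ⊥)
    (hgood : ∀ (M : Subgroup (Perm (Fin n))) (g : Perm (Fin n)), CovG M g → ∀ r₁ r₂ : ℕ, r₁.Prime → r₂.Prime →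
      r₁ < r₂ → r₁ ∣ orderOf g → r₂ ∣ orderOf g → Good M) : Fintype.card Ω ∣ n := by
  obtain ⟨ψ, hinj, hψ⟩ := exists_psi T hC (by omega) h6 e
  have hA : Nontrivial (alternatingGroup (Fin n)) := by
    have : Nontrivial (Fin n) := Fin.nontrivial_iff_two_le.2 (by omega)
    exact alternatingGroup.nontrivial_of_three_le_card (by simpa using (by omega : 3 ≤ n))
  have hT : Nontrivial T := e.toEquiv.nontrivial
  obtain ⟨t0, ht0⟩ := exists_ne (1 : T)
  have hex : ∃ ω : Ω, (t0 : G) • ω ≠ ω := by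
    by_contra hno
    push Not at hno
    apply ht0
    apply Subtype.ext
    apply eq_of_smul_eq_smul (α := Ω)
    intro ω
    rw [hno ω]; simp
  obtain ⟨ω0, hω0⟩ := hex
  have hne : Nonempty Ω := ⟨ω0⟩
  obtain ⟨r₁, r₂, hr₁, hr₂, hlt, hd₁, hd₂⟩ := exists_two_primes g hg
  have ho : orderOf (ψ g) = orderOf g := orderOf_injective ψ hinj g
  have hcov : CovG ((MulAction.stabilizer G ω0).map ψ) (ψ g) := by
    intro a ha
    set k : T := e.symm ⟨a, mem_alternatingGroup.2 ha⟩ with hk
    have hka : ψ k = a := by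
      rw [hψ, hk, e.apply_symm_apply]
    obtain ⟨r, hr, hd, hω⟩ := exists_prime_pow (hg ((k : G)⁻¹ • ω0))
    refine ⟨r, hr, by rwa [ho], (k : G) * g ^ (orderOf g / r) * (k : G)⁻¹, ?_, ?_⟩
    · change ((k : G) * g ^ (orderOf g / r) * (k : G)⁻¹) • ω0 = ω0
      rw [mul_smul, mul_smul, hω, smul_inv_smul]
    · rw [map_mul, map_mul, map_inv, map_pow, hka, ho]
  obtain ⟨i, hi⟩ := hgood _ _ hcov r₁ r₂ hr₁ hr₂ hlt (by rwa [ho]) (by rwa [ho])
  have hle : (MulAction.stabilizer (alternatingGroup (Fin n)) i).comap e.toMonoidHom ≤ MulAction.stabilizer T ω0 := by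
    intro k hk
    have hk' : (e k : Perm (Fin n)) i = i := hk
    obtain ⟨y, hy, hyk⟩ := hi (e k) (mem_alternatingGroup.1 (e k).2) hk'
    rw [← hψ] at hyk
    have h1 := hinj hyk
    have h2 : y • ω0 = ω0 := hy
    rw [h1] at h2
    exact h2
  have hquasi : MulAction.IsQuasiPreprimitive G Ω := inferInstance
  have htr : MulAction.IsPretransitive T Ω := by
    apply MulAction.IsQuasiPreprimitive.isPretransitive_of_normal
    intro h
    have h1 : ω0 ∈ MulAction.fixedPoints T Ω := by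
      rw [h]
      trivial
    exact hω0 (h1 t0)
  have h1 := Subgroup.index_dvd_of_le hle
  rw [MulAction.index_stabilizer_of_transitive, Subgroup.index_comap_of_surjective _ e.surjective,
    index_stab (by omega), Nat.card_eq_fintype_card] at h1
  exact h1

theorem card_alt_eight : Nat.card (alternatingGroup (Fin 8)) = 20160 := by
  rw [nat_card_alternatingGroup, Nat.card_eq_fintype_card, Fintype.card_fin]
  rfl

/-- **`T = A₈`** -/
theorem exc_eight {G : Type*} [Group G] [Finite G] {Ω : Type*} [Fintype Ω] [MulAction G Ω] [FaithfulSMul G Ω]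
    (T : Subgroup G) [T.Normal] (e : T ≃* alternatingGroup (Fin 8))
    (hC : Subgroup.centralizer (T : Set G) = ⊥) (hprim : MulAction.IsPreprimitive G Ω) (g : G)
    (hg : ∀ ω : Ω, MulAction.stabilizer (Subgroup.zpowers g) ω ≠ ⊥) : Fintype.card Ω = 8 := by
  have h1 := card_dvd_of T (by norm_num) (by norm_num) e hC hprim g hg
    fun M g hc r₁ r₂ hr₁ hr₂ hlt hd₁ hd₂ => good_eight hc hr₁ hr₂ hlt hd₁ hd₂
  by_contra h8
  have h2 : Fintype.card Ω ≤ 4 := by
    have h3 := Nat.le_of_dvd (by norm_num) h1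
    interval_cases h : Fintype.card Ω <;> revert h1 h8 <;> decide
  have h3 : Function.Injective (MulAction.toPermHom T Ω) := by
    intro a b hab
    apply Subtype.ext
    apply eq_of_smul_eq_smul (α := Ω)
    intro ω
    exact DFunLike.congr_fun hab ω
  have h4 := Nat.card_le_card_of_injective _ h3
  rw [Nat.card_congr e.toEquiv, card_alt_eight, Nat.card_perm, Nat.card_eq_fintype_card] at h4
  have h5 := Nat.factorial_le h2
  have h6 : Nat.factorial 4 = 24 := rfl
  omega

/-- **`T = A₅`** -/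
theorem exc_five {G : Type*} [Group G] [Finite G] {Ω : Type*} [Fintype Ω] [MulAction G Ω] [FaithfulSMul G Ω]
    (T : Subgroup G) [T.Normal] (e : T ≃* alternatingGroup (Fin 5))
    (hC : Subgroup.centralizer (T : Set G) = ⊥) (hprim : MulAction.IsPreprimitive G Ω) (g : G)
    (hg : ∀ ω : Ω, MulAction.stabilizer (Subgroup.zpowers g) ω ≠ ⊥) : Fintype.card Ω = 5 := by
  have h1 := card_dvd_of T le_rfl (by norm_num) e hC hprim g hg
    fun M g hc r₁ r₂ hr₁ hr₂ hlt hd₁ hd₂ => good_five hc hr₁ hr₂ hlt hd₁ hd₂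
  rcases (Nat.dvd_prime Nat.prime_five).1 h1 with h | h
  · exfalso
    have hs : Subsingleton Ω := Fintype.card_le_one_iff_subsingleton.1 h.le
    have hA : Nontrivial (alternatingGroup (Fin 5)) :=
      alternatingGroup.nontrivial_of_three_le_card (by simp)
    have hT : Nontrivial T := e.toEquiv.nontrivial
    obtain ⟨t0, ht0⟩ := exists_ne (1 : T)
    apply ht0
    apply Subtype.ext
    apply eq_of_smul_eq_smul (α := Ω)
    intro ω
    exact Subsingleton.elim _ _
  · exact h

end Cfsg.Agent.H390.RC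
end

-- part: H991/RC/E22
section
/-!
# S3510, row A, box E22: the case `V = W ⊕ W'` with two irreducible planes
-/

set_option autoImplicit false
set_option linter.unusedSectionVars false
open Cfsg

namespace Cfsg.Agent.H991.RC

open MulAction Cfsg.Agent.H106.RC Module Cfsg.Agent.H359.RC Cfsg.Agent.H202.RC

/-! ### duality -/

section dual

variable {F : Type*} [Field F] [Finite F]

theorem exists_psi (F : Type*) [Field F] [Finite F] : ∃ ψ : AddChar F ℂ, ψ ≠ 1 := by
  obtain ⟨ψ, hψ1⟩ : ∃ ψ : AddChar F ℂ, ψ 1 ≠ 1 := AddChar.exists_apply_ne_zero.mpr one_ne_zero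
  exact ⟨ψ, fun h => hψ1 (by rw [h]; rfl)⟩

theorem exists_shift {ψ : AddChar F ℂ} (hψ : ψ ≠ 1) (φ : AddChar F ℂ) : ∃ t : F, ∀ x, φ x = ψ (t * x) := by
  classical
  have := Fintype.ofFinite F
  have hinj : Function.Injective fun t : F => AddChar.mulShift ψ t :=
    AddChar.to_mulShift_inj_of_isPrimitive (AddChar.IsPrimitive.of_ne_one hψ)
  have hcard : Fintype.card F = Fintype.card (AddChar F ℂ) := by
    have := AddChar.card_eq (α := F)
    rw [← this]
  obtain ⟨t, ht⟩ := ((Fintype.bijective_iff_injective_and_card _).mpr ⟨hinj, hcard⟩).2 φ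
  exact ⟨t, fun x => by rw [← ht]; rfl⟩

theorem eq_of_shift {ψ : AddChar F ℂ} (hψ : ψ ≠ 1) {t t' : F} (h : ∀ c, ψ (t * c) = ψ (t' * c)) : t = t' := by
  have := Fintype.ofFinite F
  have hinj : Function.Injective fun t : F => AddChar.mulShift ψ t :=
    AddChar.to_mulShift_inj_of_isPrimitive (AddChar.IsPrimitive.of_ne_one hψ)
  apply hinj
  apply DFunLike.ext
  intro c
  exact h c

/-- a bimultiplicative, balanced map comes from a linear map -/
theorem duality {A A' : Type*} [AddCommGroup A] [Module F A] [AddCommGroup A'] [Module F A'] [Module.Finite F A']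
    {ψ : AddChar F ℂ} (hψ : ψ ≠ 1) (T : A → Dual F A' → ℂ) (h1 : ∀ a a' χ, T (a + a') χ = T a χ * T a' χ)
    (h2 : ∀ a χ χ', T a (χ + χ') = T a χ * T a χ') (h3 : ∀ (c : F) a χ, T (c • a) χ = T a (c • χ))
    (h0 : ∀ a, T a 0 = 1) : ∃ M : A →ₗ[F] A', ∀ a χ, T a χ = ψ (χ (M a)) := by
  have hex : ∀ a χ, ∃ t : F, ∀ c : F, T a (c • χ) = ψ (t * c) := by
    intro a χ
    let φ : AddChar F ℂ :=
      { toFun := fun c => T a (c • χ)
        map_zero_eq_one' := by simp only [zero_smul, h0]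
        map_add_eq_mul' := fun c d => by simp only [add_smul, h2] }
    exact exists_shift hψ φ
  choose B hB using hex
  let B' : A →ₗ[F] Dual F (Dual F A') :=
    { toFun := fun a =>
        { toFun := fun χ => B a χ
          map_add' := fun χ χ' => by
            apply eq_of_shift hψ
            intro c
            rw [← hB, smul_add, h2, hB, hB, add_mul, AddChar.map_add_eq_mul]
          map_smul' := fun d χ => by
            apply eq_of_shift hψ
            intro c
            rw [← hB, smul_smul, hB, RingHom.id_apply, smul_eq_mul]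
            congr 1
            ring }
      map_add' := fun a a' => by
        apply LinearMap.ext
        intro χ
        change B (a + a') χ = B a χ + B a' χ
        apply eq_of_shift hψ
        intro c
        rw [← hB, h1, hB, hB, add_mul, AddChar.map_add_eq_mul]
      map_smul' := fun d a => by
        apply LinearMap.ext
        intro χ
        change B (d • a) χ = d • B a χ
        apply eq_of_shift hψ
        intro c
        rw [← hB, h3, smul_smul, hB, smul_eq_mul]
        congr 1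
        ring }
  refine ⟨((Module.evalEquiv F A').symm : Dual F (Dual F A') →ₗ[F] A') ∘ₗ B', fun a χ => ?_⟩
  have e1 : χ ((((Module.evalEquiv F A').symm : Dual F (Dual F A') →ₗ[F] A') ∘ₗ B') a) = B a χ := by
    have e2 := (Module.evalEquiv F A').apply_symm_apply (B' a)
    have e3 := congrArg (fun f : Dual F (Dual F A') => f χ) e2
    exact e3
  rw [e1]
  have := hB a χ 1
  rwa [one_smul, mul_one] at this

end dual

/-! ### the rule T1 -/

section t1

variable {G Ω ι : Type*} [Group G] [MulAction G Ω] {x : ι → G} {r : ι → ℕ}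

theorem exists_prod [Finite ι] (hp : PF x r) : ∃ g : G, (∀ Q : Subgroup G, (∀ i, x i ∈ Q) → g ∈ Q) ∧
    (∀ k : ℕ, (∀ i, r i ∣ k) → g ^ k = 1) ∧ ∀ j (k : ℕ), ¬ r j ∣ k → ∃ m : ℕ, (g ^ k) ^ m = x j := by
  classical
  have := Fintype.ofFinite ι
  let C : Subgroup G := Subgroup.closure (Set.range x)
  have hC : IsMulCommutative C := Subgroup.isMulCommutative_closure (k := Set.range x) (by
    rintro _ ⟨i, rfl⟩ _ ⟨j, rfl⟩
    exact hp.comm i j)
  let _ : CommGroup C := { (inferInstance : Group C) with mul_comm := hC.is_comm.comm }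
  let y : ι → C := fun i => ⟨x i, Subgroup.subset_closure ⟨i, rfl⟩⟩
  have hy : ∀ i, y i ^ r i = 1 := fun i => Subtype.ext (hp.pow i)
  have hyd : ∀ i (k : ℕ), r i ∣ k → y i ^ k = 1 := by
    rintro i _ ⟨k, rfl⟩
    rw [pow_mul, hy, one_pow]
  refine ⟨((∏ i, y i : C) : G), ?_, ?_, ?_⟩
  · intro Q hQ
    have h1 : C ≤ Q := by
      rw [Subgroup.closure_le]
      rintro _ ⟨i, rfl⟩
      exact hQ i
    exact h1 (∏ i, y i : C).2
  · intro k hk
    have h1 : (∏ i, y i) ^ k = 1 := by
      rw [← Finset.prod_pow]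
      exact Finset.prod_eq_one fun i _ => hyd i k (hk i)
    have h2 := congrArg Subtype.val h1
    exact h2
  · intro j k hjk
    let m : ℕ := ∏ i ∈ Finset.univ.erase j, r i
    have h1 : ∀ i, i ≠ j → r i ∣ m := fun i hi => Finset.dvd_prod_of_mem r (Finset.mem_erase.2 ⟨hi, Finset.mem_univ i⟩)
    have h2 : (∏ i, y i) ^ (k * m) = y j ^ (k * m) := by
      rw [← Finset.prod_pow, ← Finset.mul_prod_erase Finset.univ _ (Finset.mem_univ j)]
      rw [Finset.prod_eq_one, mul_one]
      intro i hi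
      exact hyd i _ (Dvd.dvd.mul_left (h1 i (Finset.ne_of_mem_erase hi)) k)
    have h3 : Nat.Coprime (k * m) (r j) := by
      apply Nat.Coprime.mul_left
      · exact ((hp.prime j).coprime_iff_not_dvd.2 hjk).symm
      · apply Nat.Coprime.prod_left
        intro i hi
        exact (Nat.coprime_primes (hp.prime i) (hp.prime j)).2 fun e => Finset.ne_of_mem_erase hi (hp.inj e)
    obtain ⟨a, -, ha⟩ := Nat.exists_mul_mod_eq_one_of_coprime h3 (hp.prime j).one_lt
    refine ⟨m * a, ?_⟩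
    have h4 : ((∏ i, y i) ^ k) ^ (m * a) = y j := by
      rw [← pow_mul, ← mul_assoc, pow_mul, h2, ← pow_mul, pow_eq_pow_mod _ (hy j), ha, pow_one]
    have h5 := congrArg Subtype.val h4
    exact h5

/-- (T1) a cover contains an element fixing a given occurring character of a normalised subgroup -/
theorem exists_fixC [Finite G] [Finite ι] (hp : PF x r) (hc : Cov Ω x) {Q : Subgroup G}
    (hQ : ∀ i, ∀ q ∈ Q, x i * q * (x i)⁻¹ ∈ Q) (μ : Q →* ℂˣ) (hμ : Occ Ω Q μ) : ∃ i, FixC Q μ (x i) := by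
  obtain ⟨ω, hω⟩ := hμ
  obtain ⟨g, hg1, hg2, hg3⟩ := exists_prod hp
  by_contra hno
  push Not at hno
  have hgN : g ∈ Subgroup.normalizer (Q : Set G) := by
    apply hg1
    intro i
    exact Subgroup.mem_normalizer_fintype (hQ i)
  have hgQ : ∀ q ∈ Q, g * q * g⁻¹ ∈ Q := fun q hq => (Subgroup.mem_normalizer_iff.1 hgN q).1 hq
  obtain ⟨q, hq⟩ := exists_regular hgQ μ ω hω (by
    intro k hk
    apply hg2
    intro j
    by_contra hjk
    obtain ⟨m, hm⟩ := hg3 j k hjk
    apply hno j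
    rw [← hm]
    exact fixC_pow (pow_conj_mem' hgQ k) hk m)
  obtain ⟨j, hj⟩ := hc ((q : G) • ω)
  have hr1 : ¬ r j ∣ 1 := fun h => (hp.prime j).one_lt.ne' (Nat.dvd_one.1 h)
  obtain ⟨m, hm⟩ := hg3 j 1 hr1
  rw [pow_one] at hm
  rw [← hm] at hj
  exact hp.ne j (hm ▸ hq m hj)

end t1

/-! ### linear algebra in planes -/

section plane

variable {F V : Type*} [Field F] [AddCommGroup V] [Module F V]

theorem exists_comb (hd : finrank F V = 2) {v w : V} (h : LinearIndependent F ![v, w]) (u : V) :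
    ∃ α β : F, u = α • v + β • w := by
  have := Module.finite_of_finrank_eq_succ hd
  have h1 := h.span_eq_top_of_card_eq_finrank' (by rw [hd, Fintype.card_fin])
  have h2 : u ∈ Submodule.span F (Set.range ![v, w]) := by rw [h1]; trivial
  rw [Matrix.range_cons, Matrix.range_cons, Matrix.range_empty, Set.union_empty, Set.singleton_union,
    Submodule.mem_span_pair] at h2
  obtain ⟨α, β, h3⟩ := h2
  exact ⟨α, β, h3.symm⟩

end plane

/-! ### the group `Hom(W', W)` -/

section tw

variable {F V : Type*} [Field F] [AddCommGroup V] [Module F V] {W W' : Submodule F V}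

/-- the transvection attached to `w ∈ W` and `χ ∈ (W')*` -/
noncomputable def tw (hc : IsCompl W' W) (w : W) (χ : Dual F W') : SLV F V :=
  tv (χ ∘ₗ W'.projectionOnto W hc) w (by
    rw [LinearMap.comp_apply, Submodule.projectionOnto_apply_right, map_zero])

@[simp] theorem tw_apply (hc : IsCompl W' W) (w : W) (χ : Dual F W') (v : V) :
    (tw hc w χ : V ≃ₗ[F] V) v = v + χ (W'.projectionOnto W hc v) • (w : V) := tv_apply _ _ _ _

theorem tw_add_left (hc : IsCompl W' W) (w w' : W) (χ : Dual F W') : tw hc (w + w') χ = tw hc w χ * tw hc w' χ := by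
  rw [tw, tw, tw, tv_mul_right]
  rfl

theorem tw_add_right (hc : IsCompl W' W) (w : W) (χ χ' : Dual F W') :
    tw hc w (χ + χ') = tw hc w χ * tw hc w χ' := by
  rw [tw, tw, tw, tv_mul_left]
  rfl

theorem tw_smul (hc : IsCompl W' W) (c : F) (w : W) (χ : Dual F W') : tw hc (c • w) χ = tw hc w (c • χ) := by
  apply SLV.ext
  intro v
  rw [tw_apply, tw_apply, Submodule.coe_smul, LinearMap.smul_apply, smul_smul, smul_eq_mul, mul_comm]

theorem tw_zero (hc : IsCompl W' W) (w : W) : tw hc w 0 = 1 := by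
  apply SLV.ext
  intro v
  rw [tw_apply, LinearMap.zero_apply, zero_smul, add_zero, coe_one_apply]

theorem tw_mem (hc : IsCompl W' W) (w : W) (χ : Dual F W') : tw hc w χ ∈ QW W := by
  refine ⟨fun v => ?_, fun u hu => ?_⟩
  · rw [tw_apply, add_sub_cancel_left]
    exact W.smul_mem _ w.2
  · rw [tw_apply, (Submodule.projectionOnto_apply_eq_zero_iff hc).2 hu, map_zero, zero_smul, add_zero]

/-- the elements `tw` generate -/
theorem exists_tw (hc : IsCompl W' W) {ι : Type*} [Fintype ι] (b : Basis ι F W') (P : SLV F V → Prop)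
    (h1 : P 1) (hm : ∀ s t, P s → P t → P (s * t)) (htw : ∀ w χ, P (tw hc w χ)) {s : SLV F V} (hs : s ∈ QW W) :
    P s := by
  classical
  obtain ⟨h, hh, ha, hb, rfl⟩ := exists_uh hs
  have key : ∀ S : Finset ι, ∃ t : SLV F V, P t ∧ ∀ v, (t : V ≃ₗ[F] V) v =
      v + ∑ j ∈ S, b.coord j (W'.projectionOnto W hc v) • h (b j) := by
    intro S
    induction S using Finset.induction_on with
    | empty => exact ⟨1, h1, fun v => by simp only [_root_.OneMemClass.coe_one, _root_.LinearEquiv.coe_one, _root_.id_eq, _root_.Module.Basis.coord_apply, _root_.Finset.sum_empty, _root_.add_zero]⟩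
    | insert j S hj ih =>
      obtain ⟨t, ht, ht'⟩ := ih
      refine ⟨tw hc ⟨h (b j), ha _⟩ (b.coord j) * t, hm _ _ (htw _ _) ht, fun v => ?_⟩
      rw [coe_mul_apply, ht', tw_apply, Finset.sum_insert hj, map_add, map_sum]
      have h2 : ∀ k ∈ S, W'.projectionOnto W hc (b.coord k (W'.projectionOnto W hc v) • h (b k)) = 0 := by
        intro k _
        rw [Submodule.projectionOnto_apply_eq_zero_iff]
        exact W.smul_mem _ (ha _)
      rw [Finset.sum_congr rfl h2, Finset.sum_const_zero, add_zero]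
      dsimp only
      abel
  obtain ⟨t, ht, ht'⟩ := key Finset.univ
  have h3 : uh h hh = t := by
    apply SLV.ext
    intro v
    rw [uh_apply, ht']
    congr 1
    have h4 : h v = h (W'.projectionOnto W hc v) := by
      have h5 : v - W'.projectionOnto W hc v ∈ W := Submodule.sub_projection_mem hc v
      have h6 := hb _ h5
      rw [map_sub, sub_eq_zero] at h6
      exact h6
    rw [h4]
    conv_lhs => rw [← b.sum_repr (W'.projectionOnto W hc v)]
    rw [Submodule.coe_sum, map_sum]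
    refine Finset.sum_congr rfl fun j _ => ?_
    rw [Submodule.coe_smul, map_smul, Basis.coord_apply]
  rw [h3]
  exact ht

end tw

/-! ### the box -/

section main

variable {F V G Ω ι : Type} [Field F] [Finite F] [AddCommGroup V] [Module F V] [Module.Finite F V] [Group G] [Finite G]
  [Finite Ω] [Nonempty Ω] [MulAction G Ω] [Finite ι] {N : Subgroup G} {κ : SLV F V →* G} {x : ι → G} {r : ι → ℕ}
  {a : ι → V ≃ₗ[F] V}

/-- the data: a linear map `M : W → W'` such that every twist of `M` by an element of `SL(V)` trivial on `W`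
commutes with some `a i` -/
theorem exists_M (h : LinCov Ω N κ x r a) (W W' : Submodule F V) (hc : IsCompl W' W)
    (hW0 : W ≠ ⊥) (hW0' : W' ≠ ⊥)
    (A : ∀ _ : ι, W →ₗ[F] W) (hA : ∀ i (w : W), (A i w : V) = a i w)
    (A' : ∀ _ : ι, W' →ₗ[F] W') (hA' : ∀ i (w : W'), (A' i w : V) = a i w) :
    ∃ M : W →ₗ[F] W', M ≠ 0 ∧ ∀ (c : SLV F V) (C : W' →ₗ[F] W'), (∀ w ∈ W, (c : V ≃ₗ[F] V) w = w) →
      (∀ w : W', (C w : V) = (c : V ≃ₗ[F] V) w) → ∃ i, ∀ w : W, C (M (A i w)) = A' i (C (M w)) := by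
  classical
  obtain ⟨p, hpF⟩ := CharP.exists F
  have hpp : p.Prime := (CharP.char_is_prime_or_zero F p).resolve_right (CharP.char_ne_zero_of_finite F p)
  have : Fact p.Prime := ⟨hpp⟩
  obtain ⟨ψ, hψ⟩ := exists_psi F
  have hpr : ∀ v : V, v - W'.projectionOnto W hc v ∈ W := fun v => Submodule.sub_projection_mem hc v
  have hprW : ∀ w ∈ W, W'.projectionOnto W hc w = 0 := fun w hw => (Submodule.projectionOnto_apply_eq_zero_iff hc).2 hw
  have hprW' : ∀ w : W', W'.projectionOnto W hc w = w := fun w => Submodule.projectionOnto_apply_left hc w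
  -- compatibility of the projection with maps preserving the decomposition
  have hcomp : ∀ (f : V ≃ₗ[F] V) (C : W' →ₗ[F] W'), (∀ w ∈ W, f w ∈ W) → (∀ w : W', (C w : V) = f w) →
      ∀ v, W'.projectionOnto W hc (f v) = C (W'.projectionOnto W hc v) := by
    intro f C h1 h2 v
    have h3 : f v = f (v - W'.projectionOnto W hc v) + C (W'.projectionOnto W hc v) := by
      rw [h2, ← map_add, sub_add_cancel]
    rw [h3, map_add, hprW _ (h1 _ (hpr v)), zero_add, hprW']
  have haW : ∀ i, ∀ w ∈ W, a i w ∈ W := fun i w hw => by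
    have := (A i ⟨w, hw⟩).2
    rwa [hA] at this
  -- `Q`
  let Q : Subgroup G := (QW W).map κ
  have hQmem : ∀ s ∈ QW W, κ s ∈ Q := fun s hs => Subgroup.mem_map_of_mem κ hs
  have hQ : IsPGroup p Q := by
    rintro ⟨q, s, hs, rfl⟩
    refine ⟨1, Subtype.ext ?_⟩
    change (κ s) ^ p ^ 1 = 1
    rw [pow_one, ← map_pow, QW_pow hs, map_one]
  have hxQ : ∀ i, ∀ q ∈ Q, x i * q * (x i)⁻¹ ∈ Q := by
    rintro i _ ⟨s, hs, rfl⟩
    rw [h.lift]
    apply hQmem
    have hsurj : ∀ w ∈ W, ∃ u ∈ W, a i u = w := by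
      have hinj : Function.Injective (A i) := by
        intro u v huv
        apply Subtype.ext
        apply (a i).injective
        rw [← hA, ← hA, huv]
      intro w hw
      obtain ⟨u, hu⟩ := (LinearMap.injective_iff_surjective.1 hinj) ⟨w, hw⟩
      exact ⟨u, u.2, by rw [← hA, hu]⟩
    refine ⟨fun v => ?_, fun w hw => ?_⟩
    · obtain ⟨u, rfl⟩ := (a i).surjective v
      rw [cj_apply, ← map_sub]
      exact haW i _ (hs.1 u)
    · obtain ⟨u, hu, rfl⟩ := hsurj w hw
      rw [cj_apply, hs.2 u hu]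
  -- the character
  obtain ⟨w0, hw0, hw0'⟩ := Submodule.exists_mem_ne_zero_of_ne_bot hW0
  obtain ⟨u0, hu0, hu0'⟩ := Submodule.exists_mem_ne_zero_of_ne_bot hW0'
  obtain ⟨χ0, hχ0⟩ : ∃ χ : Dual F W', χ ⟨u0, hu0⟩ ≠ 0 := by
    by_contra hno
    push Not at hno
    apply hu0'
    have := (Module.forall_dual_apply_eq_zero_iff F (⟨u0, hu0⟩ : W')).1 hno
    exact congrArg Subtype.val this
  have hmove : ∃ ω : Ω, ∃ q ∈ Q, q • ω ≠ ω := by
    have h1 : κ (tw hc ⟨w0, hw0⟩ χ0) ≠ 1 := by
      intro h2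
      obtain ⟨c, hcc⟩ := (h.fr.ker _).1 h2
      have h3 := hcc w0
      rw [tw_apply, hprW _ hw0, map_zero, zero_smul, add_zero] at h3
      have h4 : (1 - c) • w0 = 0 := by rw [sub_smul, one_smul, ← h3, sub_self]
      have h5 : c = 1 := by
        rcases smul_eq_zero.1 h4 with h5 | h5
        · exact (sub_eq_zero.1 h5).symm
        · exact absurd h5 hw0'
      have h6 := hcc u0
      rw [h5, one_smul, tw_apply, hprW' ⟨u0, hu0⟩] at h6
      have h7 : χ0 ⟨u0, hu0⟩ • w0 = 0 := by
        have := add_eq_left.1 h6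
        exact this
      rcases smul_eq_zero.1 h7 with h8 | h8
      · exact hχ0 h8
      · exact hw0' h8
    obtain ⟨ω, hω⟩ := h.fr.env.exists_move h1
    exact ⟨ω, _, hQmem _ (tw_mem hc _ _), hω⟩
  obtain ⟨ω, hω⟩ := hmove
  obtain ⟨μ, hμ1, hμp, hocc⟩ := exists_occ hQ hω
  let q : W → Dual F W' → Q := fun w χ => ⟨κ (tw hc w χ), hQmem _ (tw_mem hc w χ)⟩
  obtain ⟨M, hM⟩ := duality (A := W) (A' := W') hψ (fun w χ => ((μ (q w χ) : ℂˣ) : ℂ))
    (by
      intro w w' χ
      rw [← Units.val_mul, ← map_mul]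
      congr 2
      apply Subtype.ext
      change κ _ = κ _ * κ _
      rw [tw_add_left, map_mul])
    (by
      intro w χ χ'
      rw [← Units.val_mul, ← map_mul]
      congr 2
      apply Subtype.ext
      change κ _ = κ _ * κ _
      rw [tw_add_right, map_mul])
    (by
      intro c w χ
      congr 2
      apply Subtype.ext
      change κ _ = κ _
      rw [tw_smul])
    (by
      intro w
      have h1 : q w 0 = 1 := Subtype.ext (by
        change κ _ = 1
        rw [tw_zero, map_one])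
      rw [h1, map_one, Units.val_one])
  refine ⟨M, ?_, ?_⟩
  · rintro rfl
    apply hμ1
    apply MonoidHom.ext
    rintro ⟨_, s, hs, rfl⟩
    rw [MonoidHom.one_apply]
    have key := exists_tw hc (Module.finBasis F W') (fun s => ∃ hs : κ s ∈ Q, μ ⟨κ s, hs⟩ = 1) (by
        have h0 : κ 1 ∈ Q := by rw [map_one]; exact Q.one_mem
        refine ⟨h0, ?_⟩
        have : (⟨κ 1, h0⟩ : Q) = 1 := Subtype.ext (map_one κ)
        rw [this, map_one])
      (by
        rintro s t ⟨h1, h1'⟩ ⟨h2, h2'⟩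
        have h0 : κ (s * t) ∈ Q := by rw [map_mul]; exact Q.mul_mem h1 h2
        refine ⟨h0, ?_⟩
        have : (⟨κ (s * t), h0⟩ : Q) = ⟨κ s, h1⟩ * ⟨κ t, h2⟩ := Subtype.ext (map_mul κ s t)
        rw [this, map_mul, h1', h2', one_mul]) (by
        intro w χ
        refine ⟨hQmem _ (tw_mem hc w χ), ?_⟩
        apply Units.ext
        have := hM w χ
        rw [LinearMap.zero_apply, map_zero, AddChar.map_zero_eq_one] at this
        exact this) hs
    exact key.2
  · intro c C hcW hC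
    have hnorm : ∀ q ∈ Q, (κ c)⁻¹ * q * κ c ∈ Q := by
      rintro _ ⟨s, hs, rfl⟩
      rw [← map_inv, ← map_mul, ← map_mul]
      apply hQmem
      have hcW' : ∀ w ∈ W, ((c⁻¹ : SLV F V) : V ≃ₗ[F] V) w = w := by
        intro w hw
        conv_lhs => rw [← hcW w hw]
        rw [coe_inv_apply]
      refine ⟨fun v => ?_, fun w hw => ?_⟩
      · rw [coe_mul_apply, coe_mul_apply]
        have h1 : ((c⁻¹ : SLV F V) : V ≃ₗ[F] V) ((s : V ≃ₗ[F] V) ((c : V ≃ₗ[F] V) v)) - v =
            ((c⁻¹ : SLV F V) : V ≃ₗ[F] V) ((s : V ≃ₗ[F] V) ((c : V ≃ₗ[F] V) v) - (c : V ≃ₗ[F] V) v) := by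
          rw [map_sub, coe_inv_apply]
        rw [h1, hcW' _ (hs.1 _)]
        exact hs.1 _
      · rw [coe_mul_apply, coe_mul_apply, hcW w hw, hs.2 w hw, hcW' w hw]
    obtain ⟨i, hi⟩ := exists_fixC h.pf h.cov hxQ (conjC Q μ (κ c) hnorm) (occ_conjC ⟨ω, hocc⟩ (κ c) hnorm)
    refine ⟨i, fun w => ?_⟩
    have hconj : ∀ w χ, conjC Q μ (κ c) hnorm (q w χ) = μ (q w (χ ∘ₗ C)) := by
      intro w χ
      change μ _ = μ _
      congr 1
      apply Subtype.ext
      change (κ c)⁻¹ * κ (tw hc w χ) * κ c = κ (tw hc w (χ ∘ₗ C))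
      rw [mul_assoc, inv_mul_eq_iff_eq_mul, ← map_mul, ← map_mul]
      congr 1
      apply SLV.ext
      intro v
      rw [coe_mul_apply, coe_mul_apply, tw_apply, tw_apply, map_add, map_smul, hcW w w.2, LinearMap.comp_apply,
        hcomp (c : V ≃ₗ[F] V) C (fun w hw => by rw [hcW w hw]; exact hw) hC v]
    have hfix : ∀ χ : Dual F W', μ (q (A i w) (χ ∘ₗ C)) = μ (q w ((χ ∘ₗ A' i) ∘ₗ C)) := by
      intro χ
      rw [← hconj, ← hconj]
      apply hi
      change κ (tw hc (A i w) χ) = x i * κ (tw hc w (χ ∘ₗ A' i)) * (x i)⁻¹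
      rw [h.lift]
      congr 1
      symm
      apply cj_eq
      intro v
      rw [tw_apply, tw_apply, map_add, map_smul, hA, LinearMap.comp_apply, hcomp (a i) (A' i) (haW i) (hA' i) v]
    have h1 : ∀ χ : Dual F W', χ (C (M (A i w)) - A' i (C (M w))) = 0 := by
      intro χ
      rw [map_sub, sub_eq_zero]
      apply eq_of_shift hψ
      intro t
      have h2 := congrArg (Units.val) (hfix (t • χ))
      rw [hM, hM] at h2
      simp only [LinearMap.comp_apply, LinearMap.smul_apply, smul_eq_mul] at h2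
      rw [mul_comm _ t, mul_comm _ t]
      exact h2
    have h3 := (Module.forall_dual_apply_eq_zero_iff F _).1 h1
    exact sub_eq_zero.1 h3

/-- **Box E22** of row A of S3510 -/
theorem no_22 (h : LinCov Ω N κ x r a) (W W' : Submodule F V) (hc : IsCompl W W')
    (hd : finrank F W = 2) (hd' : finrank F W' = 2)
    (hW : ∀ i, ∀ w ∈ W, a i w ∈ W) (hW' : ∀ i, ∀ w ∈ W', a i w ∈ W')
    (hirr : ∀ i, ∀ w ∈ W, w ≠ 0 → ¬ ∃ c : F, a i w = c • w)
    (hirr' : ∀ i, ∀ w ∈ W', w ≠ 0 → ¬ ∃ c : F, a i w = c • w) (hcard : Nat.card ι < Nat.card F) : False := by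
  classical
  let A : ι → W →ₗ[F] W := fun i => (a i : V →ₗ[F] V).restrict (hW i)
  let A' : ι → W' →ₗ[F] W' := fun i => (a i : V →ₗ[F] V).restrict (hW' i)
  have hW0 : W ≠ ⊥ := by
    rintro rfl
    rw [finrank_bot] at hd
    omega
  have hW0' : W' ≠ ⊥ := by
    rintro rfl
    rw [finrank_bot] at hd'
    omega
  obtain ⟨M, hM0, hM⟩ := exists_M h W W' hc.symm hW0 hW0' A (fun _ _ => rfl) A' (fun _ _ => rfl)
  by_cases hinj : Function.Injective M
  · -- rank 2
    let bW : Basis (Fin 2) F W := Module.finBasisOfFinrankEq F W hd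
    let Me : W ≃ₗ[F] W' := LinearEquiv.ofInjectiveOfFinrankEq M hinj (by rw [hd, hd'])
    have hMe : ∀ w, Me w = M w := fun w => rfl
    let b' : Basis (Fin 2) F W' := bW.map Me
    have hb' : ∀ j, b' j = M (bW j) := fun j => Basis.map_apply _ _ _
    have hex : ∀ t : F, ∃ i, ∀ w : W, M (A i w) + (t * b'.coord 1 (M (A i w))) • b' 0 =
        A' i (M w + (t * b'.coord 1 (M w)) • b' 0) := by
      intro t
      have h0 : ((t • b'.coord 1) ∘ₗ W'.projectionOnto W hc.symm) (b' 0 : V) = 0 := by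
        rw [LinearMap.comp_apply, Submodule.projectionOnto_apply_left, LinearMap.smul_apply, Basis.coord_apply,
          Basis.repr_self, Finsupp.single_eq_of_ne (by decide), smul_zero]
      exact hM (tv ((t • b'.coord 1) ∘ₗ W'.projectionOnto W hc.symm) (b' 0 : V) h0)
        (LinearMap.id + LinearMap.smulRight (t • b'.coord 1) (b' 0))
        (fun w hw => by
          rw [tv_apply, LinearMap.comp_apply, (Submodule.projectionOnto_apply_eq_zero_iff hc.symm).2 hw, map_zero,
            zero_smul, add_zero])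
        (fun w => by
          rw [tv_apply, LinearMap.comp_apply, Submodule.projectionOnto_apply_left]
          rfl)
    choose f hf using hex
    have hfi : Function.Injective f := by
      intro t t' htt
      by_contra hne
      have h1 := hf t (bW 0)
      have h2 := hf t' (bW 0)
      rw [← htt] at h2
      have h3 : b'.coord 1 (M (bW 0)) = 0 := by
        rw [← hb', Basis.coord_apply, Basis.repr_self, Finsupp.single_eq_of_ne (by decide)]
      rw [h3, mul_zero, zero_smul, add_zero] at h1 h2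
      rw [← h2] at h1
      have h4 := add_left_cancel h1
      have h5 : ((t - t') * b'.coord 1 (M (A (f t) (bW 0)))) • b' 0 = 0 := by
        rw [sub_mul, sub_smul, h4, sub_self]
      have h6 : b'.coord 1 (M (A (f t) (bW 0))) = 0 := by
        rcases smul_eq_zero.1 h5 with h6 | h6
        · rcases mul_eq_zero.1 h6 with h7 | h7
          · exact absurd (sub_eq_zero.1 h7) hne
          · exact h7
        · exact absurd h6 (b'.ne_zero 0)
      have h7 : b'.coord 1 (M (A (f t) (bW 0))) = bW.coord 1 (A (f t) (bW 0)) := by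
        rw [← hMe]
        simp only [b', Basis.coord_apply, _root_.Fin.isValue, _root_.Module.Basis.coord_apply, _root_.Module.Basis.map_repr, _root_.LinearEquiv.trans_apply, _root_.LinearEquiv.symm_apply_apply]
      rw [h7] at h6
      apply hirr (f t) (bW 0) (bW 0).2 (fun h => bW.ne_zero 0 (Subtype.ext h))
      refine ⟨bW.coord 0 (A (f t) (bW 0)), ?_⟩
      have h8 := bW.sum_repr (A (f t) (bW 0))
      rw [Fin.sum_univ_two] at h8
      rw [Basis.coord_apply] at h6
      rw [h6, zero_smul, add_zero] at h8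
      have h9 := congrArg Subtype.val h8
      exact h9.symm
    exact absurd (Nat.card_le_card_of_injective f hfi) (not_le.2 hcard)
  · -- rank 1
    obtain ⟨i, hi⟩ := hM 1 LinearMap.id (fun _ _ => rfl) (fun _ => rfl)
    simp only [LinearMap.id_apply] at hi
    obtain ⟨w0, hw0, hMw0⟩ : ∃ w0 : W, w0 ≠ 0 ∧ M w0 = 0 := by
      by_contra hno
      push Not at hno
      apply hinj
      rw [injective_iff_map_eq_zero]
      intro w hw
      by_contra hw'
      exact hno w hw' hw
    obtain ⟨w1, hw1⟩ : ∃ w1 : W, M w1 ≠ 0 := by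
      by_contra hno
      push Not at hno
      exact hM0 (LinearMap.ext hno)
    have hli : LinearIndependent F ![w0, w1] := by
      rw [LinearIndependent.pair_iff]
      intro s t hst
      have h1 := congrArg M hst
      rw [map_add, map_smul, map_smul, hMw0, smul_zero, zero_add, map_zero] at h1
      have h2 : t = 0 := (smul_eq_zero.1 h1).resolve_right hw1
      rw [h2, zero_smul, add_zero] at hst
      exact ⟨(smul_eq_zero.1 hst).resolve_right hw0, h2⟩
    obtain ⟨α, β, hαβ⟩ := exists_comb hd hli (A i w1)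
    have h1 := hi w1
    rw [hαβ, map_add, map_smul, map_smul, hMw0, smul_zero, zero_add] at h1
    apply hirr' i (M w1) (M w1).2 (fun h => hw1 (Subtype.ext h))
    exact ⟨β, (congrArg Subtype.val h1).symm⟩

end main

end Cfsg.Agent.H991.RC
end

-- part: H202/RC/LinDec
section
/-!
# Case analysis for linear covers: decompositions
-/

set_option autoImplicit false
set_option linter.unusedSectionVars false
open Cfsg

namespace Cfsg.Agent.H202.RC

open MulAction Cfsg.Agent.H106.RC Module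

section count

/-- a linear map of prime order modulo scalars without eigenvectors -/
theorem dvd_proj {F W : Type*} [Field F] [Finite F] [AddCommGroup W] [Module F W] [Module.Finite F W]
    (f : W →ₗ[F] W) (hf : Function.Injective f) {r : ℕ} (hr : r.Prime) {c : F} (hc : ∀ w, (f ^ r) w = c • w)
    (heig : ∀ w, w ≠ 0 → ∀ d : F, f w ≠ d • w) : r ∣ Nat.card (Projectivization F W) := by
  classical
  have := Fact.mk hr
  have hfin : Finite W := Module.finite_of_finite F
  have hfinP : Finite (Projectivization F W) := inferInstance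
  cases nonempty_fintype (Projectivization F W)
  let σ : Function.End (Projectivization F W) := Projectivization.map f hf
  have hσk : ∀ (k : ℕ) (w : W) (hw : w ≠ 0) (hw' : (f ^ k) w ≠ 0), (σ ^ k) (Projectivization.mk F w hw) =
      Projectivization.mk F ((f ^ k) w) hw' := by
    intro k
    induction k with
    | zero => intro w hw hw'; rfl
    | succ k ih =>
      intro w hw hw'
      have h1 : (f ^ k) w ≠ 0 := by
        intro h0
        apply hw'
        rw [pow_succ', Module.End.mul_apply, h0, map_zero]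
      rw [pow_succ']
      change σ ((σ ^ k) (Projectivization.mk F w hw)) = _
      rw [ih w hw h1]
      change Projectivization.mk F (f ((f ^ k) w)) _ = _
      congr 1
      rw [pow_succ', Module.End.mul_apply]
  have hσ : σ ^ r ^ 1 = 1 := by
    rw [pow_one]
    funext P
    induction P using Projectivization.ind with | h w hw =>
    have h1 : (f ^ r) w ≠ 0 := by
      have : ∀ k : ℕ, (f ^ k) w ≠ 0 := by
        intro k
        induction k with
        | zero => exact hw
        | succ k ih =>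
          rw [pow_succ', Module.End.mul_apply]
          intro h0
          exact ih (hf (by rw [h0, map_zero]))
      exact this r
    rw [hσk r w hw h1]
    change _ = Projectivization.mk F w hw
    rw [Projectivization.mk_eq_mk_iff']
    exact ⟨c, (hc w).symm⟩
  have h1 := Equiv.Perm.card_fixedPoints_modEq hσ
  have h2 : Fintype.card (Function.fixedPoints σ) = 0 := by
    rw [Fintype.card_eq_zero_iff]
    constructor
    rintro ⟨P, hP⟩
    induction P using Projectivization.ind with | h w hw =>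
    have h3 : Projectivization.mk F (f w) (by
        intro h0; exact hw (hf (by rw [h0, map_zero]))) = Projectivization.mk F w hw := hP
    rw [Projectivization.mk_eq_mk_iff'] at h3
    obtain ⟨d, hd⟩ := h3
    exact heig w hw d hd.symm
  rw [h2] at h1
  rw [Nat.card_eq_fintype_card]
  exact (Nat.modEq_zero_iff_dvd).1 h1

theorem dvd_two {F W : Type*} [Field F] [Finite F] [AddCommGroup W] [Module F W] (hd : finrank F W = 2)
    (f : W →ₗ[F] W) (hf : Function.Injective f) {r : ℕ} (hr : r.Prime) {c : F} (hc : ∀ w, (f ^ r) w = c • w)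
    (heig : ∀ w, w ≠ 0 → ∀ d : F, f w ≠ d • w) : r ∣ Nat.card F + 1 := by
  have : Module.Finite F W := Module.finite_of_finrank_pos (by omega)
  rw [← Projectivization.card_of_finrank_two (k := F) (V := W) hd]
  exact dvd_proj f hf hr hc heig

/-- fixed vectors of a map of prime order -/
theorem fix_modEq {F W : Type*} [Field F] [Finite F] [AddCommGroup W] [Module F W] [Module.Finite F W]
    (f : W →ₗ[F] W) {r : ℕ} (hr : r.Prime) (hc : ∀ w, (f ^ r) w = w) (E : Submodule F W)
    (hE : ∀ w, w ∈ E ↔ f w = w) : Nat.card F ^ finrank F W ≡ Nat.card F ^ finrank F E [MOD r] := by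
  classical
  have := Fact.mk hr
  have hfin : Finite W := Module.finite_of_finite F
  cases nonempty_fintype W
  let σ : Function.End W := fun w => f w
  have hσk : ∀ (k : ℕ) (w : W), (σ ^ k) w = (f ^ k) w := by
    intro k
    induction k with
    | zero => intro w; rfl
    | succ k ih =>
      intro w
      rw [pow_succ', pow_succ']
      change σ ((σ ^ k) w) = f ((f ^ k) w)
      rw [ih]
  have hσ : σ ^ r ^ 1 = 1 := by
    rw [pow_one]
    funext w
    rw [hσk, hc]
    rfl
  have h1 := Equiv.Perm.card_fixedPoints_modEq hσ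
  have h2 : Fintype.card (Function.fixedPoints σ) = Nat.card E := by
    rw [← Nat.card_eq_fintype_card]
    exact Nat.card_congr (Equiv.subtypeEquivRight fun w => (hE w).symm)
  rw [h2, ← Nat.card_eq_fintype_card, Module.natCard_eq_pow_finrank (K := F) (V := W),
    Module.natCard_eq_pow_finrank (K := F) (V := E)] at h1
  exact h1

end count

section num

theorem pd_one {s p : ℕ} (hs : s.Prime) (hp : p.Prime) (h : s ∣ p) : s = p := (Nat.prime_dvd_prime_iff_eq hs hp).1 h

theorem pd_two {s p q : ℕ} (hs : s.Prime) (hp : p.Prime) (hq : q.Prime) (h : s ∣ p * q) : s = p ∨ s = q := by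
  rcases hs.dvd_mul.1 h with h | h
  · exact Or.inl (pd_one hs hp h)
  · exact Or.inr (pd_one hs hq h)

theorem pd_pow {s p k : ℕ} (hs : s.Prime) (hp : p.Prime) (h : s ∣ p ^ k) : s = p :=
  pd_one hs hp (hs.dvd_of_dvd_pow h)

end num

section lin

variable {F V G Ω ι : Type} [Field F] [Finite F] [AddCommGroup V] [Module F V] [Module.Finite F V] [Group G] [Finite G]
  [Nonempty Ω] [MulAction G Ω] [Finite ι] {N : Subgroup G} {κ : SLV F V →* G} {x : ι → G} {r : ι → ℕ}
  {a : ι → V ≃ₗ[F] V}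

theorem LinCov.not_scal (h : LinCov Ω N κ x r a) (i : ι) : ¬ ∃ c : F, ∀ v, a i v = c • v := by
  rintro ⟨c, hc⟩
  apply h.pf.ne i
  rw [← map_one κ]
  apply h.fr.eq_of_act
  intro s
  rw [h.lift]
  congr 1
  apply cj_eq
  intro v
  rw [hc, hc, map_smul]
  congr 1

theorem LinCov.acomm (h : LinCov Ω N κ x r a) (i j : ι) (v : V) : a i (a j v) = a j (a i v) :=
  congrArg (fun f : V ≃ₗ[F] V => f v) (h.comm i j)

theorem LinCov.two (h : LinCov Ω N κ x r a) (i : ι) : ∃ j, j ≠ i := h.cov.two h.fr.env h.pf.ne i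

theorem LinCov.nonempty (h : LinCov Ω N κ x r a) : Nonempty ι := by
  obtain ⟨i, -⟩ := h.cov (Classical.arbitrary Ω)
  exact ⟨i⟩

/-- a member of order prime to `p` -/
theorem LinCov.exists_ne (h : LinCov Ω N κ x r a) (p : ℕ) : ∃ i, r i ≠ p := by
  obtain ⟨i⟩ := h.nonempty
  by_cases hi : r i = p
  · obtain ⟨j, hj⟩ := h.two i
    exact ⟨j, fun e => hj (h.pf.inj (e.trans hi.symm))⟩
  · exact ⟨i, hi⟩

variable {W : Submodule F V}

/-- in an invariant plane without invariant lines a non scalar `a i` has no eigenvector -/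
theorem no_eig (h : LinCov Ω N κ x r a) (hn : 3 ≤ finrank F V) (hW : ∀ i, ∀ w ∈ W, a i w ∈ W)
    (hd : finrank F W = 2) {i : ι} (hi : ¬ ∃ c : F, ∀ w ∈ W, a i w = c • w) :
    ∀ w ∈ W, w ≠ 0 → ¬ ∃ c : F, a i w = c • w := by
  rintro w hw hw0 ⟨c, hc⟩
  let E : Submodule F V :=
    { carrier := {u | u ∈ W ∧ a i u = c • u}
      zero_mem' := ⟨W.zero_mem, by simp⟩
      add_mem' := by
        rintro u v ⟨hu, hu'⟩ ⟨hv, hv'⟩
        exact ⟨W.add_mem hu hv, by rw [map_add, hu', hv', smul_add]⟩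
      smul_mem' := by
        rintro d u ⟨hu, hu'⟩
        exact ⟨W.smul_mem _ hu, by rw [map_smul, hu', smul_comm]⟩ }
  have hE : ∀ u, u ∈ E ↔ u ∈ W ∧ a i u = c • u := fun _ => Iff.rfl
  have hEW : E < W := by
    refine lt_of_le_of_ne (fun u hu => hu.1) ?_
    intro he
    apply hi
    refine ⟨c, fun u hu => ?_⟩
    rw [← he] at hu
    exact hu.2
  have h1 := Submodule.finrank_lt_finrank_of_lt hEW
  rw [hd] at h1
  have hwE : w ∈ E := ⟨hw, hc⟩
  have hE1 : finrank F E = 1 := by
    have : finrank F E ≠ 0 := by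
      intro h0
      rw [Submodule.finrank_eq_zero] at h0
      rw [h0, Submodule.mem_bot] at hwE
      exact hw0 hwE
    omega
  apply no_point h hn w hw0
  intro j
  have hj : a j w ∈ E := ⟨hW j w hw, by rw [h.acomm, hc, map_smul]⟩
  have h2 := (finrank_eq_one_iff_of_nonzero' (⟨w, hwE⟩ : E) (by
    intro h0; exact hw0 (congrArg Subtype.val h0))).1 hE1 ⟨a j w, hj⟩
  obtain ⟨d, hd'⟩ := h2
  exact ⟨d, (congrArg Subtype.val hd').symm⟩

/-- restriction of `a i` -/
def rs (a : ι → V ≃ₗ[F] V) (hW : ∀ i, ∀ w ∈ W, a i w ∈ W) (i : ι) : W →ₗ[F] W :=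
  (a i : V →ₗ[F] V).restrict (hW i)

theorem rs_coe (hW : ∀ i, ∀ w ∈ W, a i w ∈ W) (i : ι) (w : W) : ((rs a hW i w : W) : V) = a i w := rfl

theorem rs_inj (hW : ∀ i, ∀ w ∈ W, a i w ∈ W) (i : ι) : Function.Injective (rs a hW i) := by
  intro w w' e
  apply Subtype.ext
  exact (a i).injective (congrArg Subtype.val e)

theorem rs_pow (hW : ∀ i, ∀ w ∈ W, a i w ∈ W) (i : ι) (k : ℕ) (w : W) :
    (((rs a hW i ^ k) w : W) : V) = (a i ^ k) w := by
  induction k with
  | zero => rfl
  | succ k ih =>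
    rw [pow_succ', pow_succ', Module.End.mul_apply, rs_coe, ih]
    rfl

/-- order of a non scalar `a i` on an invariant plane -/
theorem dvd_plane (h : LinCov Ω N κ x r a) (hn : 3 ≤ finrank F V) (hW : ∀ i, ∀ w ∈ W, a i w ∈ W)
    (hd : finrank F W = 2) {i : ι} (hi : ¬ ∃ c : F, ∀ w ∈ W, a i w = c • w) : r i ∣ Nat.card F + 1 := by
  obtain ⟨c, hc⟩ := H338.RC.pow_scalar h (by omega) i
  refine dvd_two hd (rs a hW i) (rs_inj hW i) (h.pf.prime i) (c := c) ?_ ?_
  · intro w
    apply Subtype.ext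
    rw [rs_pow, hc]
    rfl
  · intro w hw d e
    refine no_eig h hn hW hd hi w w.2 (fun h0 => hw (Subtype.ext h0)) ⟨d, ?_⟩
    exact congrArg Subtype.val e

/-- not all `a i` are scalar on an invariant `W ≠ 0` -/
theorem exists_nonscal (h : LinCov Ω N κ x r a) (hn : 3 ≤ finrank F V) (hW0 : W ≠ ⊥) :
    ∃ i, ¬ ∃ c : F, ∀ w ∈ W, a i w = c • w := by
  by_contra hcon
  push Not at hcon
  obtain ⟨w, hw, hw0⟩ := Submodule.exists_mem_ne_zero_of_ne_bot hW0
  exact no_point h hn w hw0 fun i => by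
    obtain ⟨c, hc⟩ := hcon i
    exact ⟨c, hc w hw⟩

theorem two_le_dim (h : LinCov Ω N κ x r a) (hn : 3 ≤ finrank F V) (hW : ∀ i, ∀ w ∈ W, a i w ∈ W)
    (hW0 : W ≠ ⊥) : 2 ≤ finrank F W := by
  by_contra hcon
  obtain ⟨w, hw, hw0⟩ := Submodule.exists_mem_ne_zero_of_ne_bot hW0
  have h1 : finrank F W = 1 := by
    have : finrank F W ≠ 0 := by
      intro h0
      rw [Submodule.finrank_eq_zero] at h0
      exact hW0 h0
    omega
  apply no_point h hn w hw0
  intro j
  obtain ⟨d, hd'⟩ := (finrank_eq_one_iff_of_nonzero' (⟨w, hw⟩ : W) (by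
    intro h0; exact hw0 (congrArg Subtype.val h0))).1 h1 ⟨a j w, hW j w hw⟩
  exact ⟨d, (congrArg Subtype.val hd').symm⟩

/-! ### the case `q = 2` -/

/-- fixed vectors of `a i` in `W` -/
def fx (a : ι → V ≃ₗ[F] V) (W : Submodule F V) (i : ι) : Submodule F V where
  carrier := {u | u ∈ W ∧ a i u = u}
  zero_mem' := ⟨W.zero_mem, by simp⟩
  add_mem' := by
    rintro u v ⟨hu, hu'⟩ ⟨hv, hv'⟩
    exact ⟨W.add_mem hu hv, by rw [map_add, hu', hv']⟩
  smul_mem' := by
    rintro d u ⟨hu, hu'⟩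
    exact ⟨W.smul_mem _ hu, by rw [map_smul, hu']⟩

theorem mem_fx {i : ι} {u : V} : u ∈ fx a W i ↔ u ∈ W ∧ a i u = u := Iff.rfl

theorem fx_inv (h : LinCov Ω N κ x r a) (hW : ∀ i, ∀ w ∈ W, a i w ∈ W) (i : ι) :
    ∀ j, ∀ w ∈ fx a W i, a j w ∈ fx a W i := by
  rintro j w ⟨hw, hw'⟩
  exact ⟨hW j w hw, by rw [h.acomm, hw']⟩

theorem scal_two (hq : Nat.card F = 2) (c : F) (hc : c ≠ 0) : c = 1 := by
  classical
  cases nonempty_fintype F
  by_contra h1
  have h2 : ({0, 1, c} : Finset F).card ≤ Fintype.card F := Finset.card_le_univ _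
  rw [← Nat.card_eq_fintype_card, hq, Finset.card_eq_three.2 ⟨0, 1, c, zero_ne_one, hc.symm, Ne.symm h1, rfl⟩] at h2
  omega

theorem pow_two' (h : LinCov Ω N κ x r a) (hn : 3 ≤ finrank F V) (hq : Nat.card F = 2) (i : ι) (v : V) :
    (a i ^ r i) v = v := by
  obtain ⟨c, hc⟩ := H338.RC.pow_scalar h (by omega) i
  by_cases hc0 : c = 0
  · have h1 := hc v
    rw [hc0, zero_smul] at h1
    rw [h1]
    exact ((a i ^ r i).map_eq_zero_iff.1 h1).symm
  · rw [hc, scal_two hq c hc0, one_smul]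

theorem fix_sub (h : LinCov Ω N κ x r a) (hn : 3 ≤ finrank F V) (hq : Nat.card F = 2)
    (hW : ∀ i, ∀ w ∈ W, a i w ∈ W) (i : ι) :
    2 ^ finrank F W ≡ 2 ^ finrank F (fx a W i) [MOD r i] := by
  have h1 := fix_modEq (rs a hW i) (h.pf.prime i) (fun w => Subtype.ext (by rw [rs_pow, pow_two' h hn hq]))
    ((fx a W i).comap W.subtype) (fun w => by
      rw [Submodule.mem_comap, mem_fx]
      constructor
      · rintro ⟨-, h2⟩
        exact Subtype.ext h2
      · intro h2
        exact ⟨w.2, congrArg Subtype.val h2⟩)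
  rw [hq] at h1
  have h2 : fx a W i ≤ W := fun u hu => hu.1
  rwa [(Submodule.comapSubtypeEquivOfLe h2).finrank_eq] at h1

/-- for `q = 2` and `dim W = 4` at most one `a i` is nontrivial on `W` if those of order three are trivial -/
theorem one_nontriv (h : LinCov Ω N κ x r a) (hn : 3 ≤ finrank F V) (hq : Nat.card F = 2)
    (hW : ∀ i, ∀ w ∈ W, a i w ∈ W) (hd : finrank F W = 4) (h3 : ∀ i, r i = 3 → ∀ w ∈ W, a i w = w) :
    ∃ i₀, ∀ i, i ≠ i₀ → ∃ c : F, ∀ w ∈ W, a i w = c • w := by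
  have hW0 : W ≠ ⊥ := by
    rintro rfl
    rw [finrank_bot] at hd; omega
  by_contra hcon
  have hcon' : ∀ i₀, ∃ i, i ≠ i₀ ∧ ¬ ∃ c : F, ∀ w ∈ W, a i w = c • w := by
    intro i₀
    by_contra hno
    push Not at hno
    exact hcon ⟨i₀, hno⟩
  have hns3 : ∀ i, (¬ ∃ c : F, ∀ w ∈ W, a i w = c • w) → r i ≠ 3 := by
    intro i hi h0
    exact hi ⟨1, fun w hw => by rw [h3 i h0 w hw, one_smul]⟩
  have hfx : ∀ i, (¬ ∃ c : F, ∀ w ∈ W, a i w = c • w) → finrank F (fx a W i) ≤ 3 := by
    intro i hi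
    have h1 : fx a W i < W := by
      refine lt_of_le_of_ne (fun u hu => hu.1) ?_
      intro he
      apply hi
      refine ⟨1, fun w hw => ?_⟩
      rw [← he] at hw
      rw [hw.2, one_smul]
    have := Submodule.finrank_lt_finrank_of_lt h1
    omega
  have hfx1 : ∀ i, finrank F (fx a W i) ≠ 1 := by
    intro i hi
    have h0 : fx a W i ≠ ⊥ := by
      intro h0
      rw [h0, finrank_bot] at hi; omega
    have := two_le_dim h hn (fx_inv h hW i) h0
    omega
  -- a non scalar element of odd order has order five and no fixed vectors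
  have key : ∀ i, (¬ ∃ c : F, ∀ w ∈ W, a i w = c • w) → r i ≠ 2 → r i = 5 ∧ finrank F (fx a W i) = 0 := by
    intro i hi h2
    have h1 := fix_sub h hn hq hW i
    rw [hd] at h1
    have h4 := hfx i hi
    have h5 := hfx1 i
    have hp := h.pf.prime i
    have h3' := hns3 i hi
    have h6 : finrank F (fx a W i) = 0 ∨ finrank F (fx a W i) = 2 ∨ finrank F (fx a W i) = 3 := by omega
    rcases h6 with h6 | h6 | h6
    · rw [h6] at h1
      have h7 : r i ∣ 3 * 5 := by
        have := (Nat.modEq_iff_dvd' (by norm_num)).1 h1.symm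
        simpa using this
      refine ⟨?_, h6⟩
      rcases pd_two hp Nat.prime_three Nat.prime_five h7 with h | h
      · exact absurd h h3'
      · exact h
    · exfalso
      rw [h6] at h1
      have h7 : r i ∣ 2 ^ 2 * 3 := by
        have := (Nat.modEq_iff_dvd' (by norm_num)).1 h1.symm
        simpa using this
      rcases hp.dvd_mul.1 h7 with h | h
      · exact h2 (pd_pow hp Nat.prime_two h)
      · exact h3' (pd_one hp Nat.prime_three h)
    · exfalso
      rw [h6] at h1
      have h7 : r i ∣ 2 ^ 3 := by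
        have := (Nat.modEq_iff_dvd' (by norm_num)).1 h1.symm
        simpa using this
      exact h2 (pd_pow hp Nat.prime_two h7)
  -- an involution and an element of order five do not commute
  have key2 : ∀ i j, (¬ ∃ c : F, ∀ w ∈ W, a i w = c • w) → (¬ ∃ c : F, ∀ w ∈ W, a j w = c • w) → r i ≠ 2 →
      r j = 2 → False := by
    intro i j hi hj h2 hj2
    obtain ⟨h5, h0⟩ := key i hi h2
    have h1 := fix_sub h hn hq hW j
    rw [hd, hj2] at h1
    have h4 := hfx j hj
    have hE : fx a (fx a W j) i = ⊥ := by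
      rw [eq_bot_iff]
      intro u hu
      rw [Submodule.finrank_eq_zero] at h0
      rw [← h0]
      exact ⟨hu.1.1, hu.2⟩
    have h6 := fix_sub h hn hq (fx_inv h hW j) i
    rw [hE, finrank_bot, h5] at h6
    have h7 : finrank F (fx a W j) ≠ 0 := by
      intro h0
      rw [h0] at h1
      revert h1
      decide
    have h8 : finrank F (fx a W j) = 1 ∨ finrank F (fx a W j) = 2 ∨ finrank F (fx a W j) = 3 := by omega
    rcases h8 with h8 | h8 | h8
    · rw [h8] at h6; revert h6; decide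
    · rw [h8] at h6; revert h6; decide
    · rw [h8] at h6; revert h6; decide
  obtain ⟨i, hi⟩ := exists_nonscal h hn hW0
  obtain ⟨j, hji, hj⟩ := hcon' i
  by_cases hi2 : r i = 2
  · have hj2 : r j ≠ 2 := fun h' => hji (h.pf.inj (h'.trans hi2.symm))
    exact key2 j i hj hi hj2 hi2
  · by_cases hj2 : r j = 2
    · exact key2 i j hi hj hi2 hj2
    · exact hji (h.pf.inj ((key j hj hj2).1.trans (key i hi hi2).1.symm))

/-! ### decompositions -/

/-- box C with the induction hypothesis: conclusion for the given cover -/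
def SumP (F : Type) {V ι : Type} [Field F] [AddCommGroup V] [Module F V] (a : ι → V ≃ₗ[F] V) : Prop :=
  ∀ W W' : Submodule F V, IsCompl W W' → (∀ i, ∀ w ∈ W, a i w ∈ W) → (∀ i, ∀ w ∈ W', a i w ∈ W') →
    2 ≤ finrank F W → W' ≠ ⊥ → (finrank F W = 2 → 4 ≤ Nat.card F) → (∃ i, ¬ ∃ c : F, ∀ w ∈ W, a i w = c • w) →
    (¬ Exc (Matrix.ProjectiveSpecialLinearGroup (Fin (finrank F W)) F) ∨
      ∃ i₀, ∀ i, i ≠ i₀ → ∃ c : F, ∀ w ∈ W, a i w = c • w) → False

theorem not_exc {d : ℕ} (hd : 2 ≤ d) (h2 : ¬ (d = 2 ∧ (Nat.card F = 4 ∨ Nat.card F = 5 ∨ Nat.card F = 9)))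
    (h4 : ¬ (d = 4 ∧ Nat.card F = 2)) : ¬ Exc (Matrix.ProjectiveSpecialLinearGroup (Fin d) F) := by
  cases nonempty_fintype F
  rw [Nat.card_eq_fintype_card] at h2 h4
  intro he
  rcases psl_exc hd he with h | h
  · exact h2 h
  · exact h4 h

/-- decompositions, `q = 2`, elements of order three trivial on `W` -/
theorem dec_two (h : LinCov Ω N κ x r a) (hn : 3 ≤ finrank F V) (hS : SumP F a) (hq : Nat.card F = 2)
    {W' : Submodule F V} (hc : IsCompl W W') (hW : ∀ i, ∀ w ∈ W, a i w ∈ W) (hW' : ∀ i, ∀ w ∈ W', a i w ∈ W')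
    (hW0 : W ≠ ⊥) (hW0' : W' ≠ ⊥) (h3 : ∀ i, r i = 3 → ∀ w ∈ W, a i w = w) : False := by
  have hd := two_le_dim h hn hW hW0
  have hns := exists_nonscal h hn hW0
  by_cases hd2 : finrank F W = 2
  · obtain ⟨i, hi⟩ := hns
    have h1 := dvd_plane h hn hW hd2 hi
    rw [hq] at h1
    exact hi ⟨1, fun w hw => by rw [h3 i (pd_one (h.pf.prime i) Nat.prime_three h1) w hw, one_smul]⟩
  · refine hS W W' hc hW hW' hd hW0' (fun h' => absurd h' hd2) hns ?_
    by_cases hd4 : finrank F W = 4
    · right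
      exact one_nontriv h hn hq hW hd4 h3
    · left
      exact not_exc hd (fun h' => hd2 h'.1) (fun h' => hd4 h'.1)

/-- `a j` scalar on both summands -/
theorem dvd_diag (h : LinCov Ω N κ x r a) (hn : 3 ≤ finrank F V) {W' : Submodule F V} (hc : IsCompl W W')
    (hW0 : W ≠ ⊥) (hW0' : W' ≠ ⊥) {j : ι} (h1 : ∃ c : F, ∀ w ∈ W, a j w = c • w)
    (h2 : ∃ c : F, ∀ w ∈ W', a j w = c • w) : r j ∣ Nat.card F - 1 := by
  classical
  obtain ⟨c, hc1⟩ := h1
  obtain ⟨d, hd1⟩ := h2
  obtain ⟨w, hw, hw0⟩ := Submodule.exists_mem_ne_zero_of_ne_bot hW0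
  obtain ⟨w', hw', hw0'⟩ := Submodule.exists_mem_ne_zero_of_ne_bot hW0'
  have hc0 : c ≠ 0 := by
    rintro rfl
    have := hc1 w hw
    rw [zero_smul] at this
    exact hw0 ((a j).map_eq_zero_iff.1 this)
  have hd0 : d ≠ 0 := by
    rintro rfl
    have := hd1 w' hw'
    rw [zero_smul] at this
    exact hw0' ((a j).map_eq_zero_iff.1 this)
  obtain ⟨e, he⟩ := H338.RC.pow_scalar h (by omega) j
  have hpw : ∀ k : ℕ, (a j ^ k) w = c ^ k • w := by
    intro k
    induction k with
    | zero => simp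
    | succ k ih => rw [pow_succ', LinearEquiv.mul_apply, ih, map_smul, hc1 w hw, smul_smul, pow_succ]
  have hpw' : ∀ k : ℕ, (a j ^ k) w' = d ^ k • w' := by
    intro k
    induction k with
    | zero => simp
    | succ k ih => rw [pow_succ', LinearEquiv.mul_apply, ih, map_smul, hd1 w' hw', smul_smul, pow_succ]
  have hce : c ^ r j = e := by
    have h3 := he w
    rw [hpw, ← sub_eq_zero, ← sub_smul] at h3
    exact sub_eq_zero.1 ((smul_eq_zero.1 h3).resolve_right hw0)
  have hde : d ^ r j = e := by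
    have h3 := he w'
    rw [hpw', ← sub_eq_zero, ← sub_smul] at h3
    exact sub_eq_zero.1 ((smul_eq_zero.1 h3).resolve_right hw0')
  have hne : c ≠ d := by
    rintro rfl
    apply h.not_scal j
    refine ⟨c, fun v => ?_⟩
    have hv : v ∈ W ⊔ W' := by rw [hc.sup_eq_top]; trivial
    obtain ⟨y, hy, z, hz, rfl⟩ := Submodule.mem_sup.1 hv
    rw [map_add, hc1 y hy, hd1 z hz, smul_add]
  cases nonempty_fintype F
  have := Fact.mk (h.pf.prime j)
  have h5 : (Units.mk0 (c / d) (div_ne_zero hc0 hd0)) ^ r j = 1 := by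
    apply Units.ext
    rw [Units.val_pow_eq_pow_val, Units.val_mk0, div_pow, hce, hde, Units.val_one, div_self]
    rw [← hde]; exact pow_ne_zero _ hd0
  have h6 : Units.mk0 (c / d) (div_ne_zero hc0 hd0) ≠ 1 := by
    intro h0
    have := congrArg Units.val h0
    rw [Units.val_mk0, Units.val_one, div_eq_one_iff_eq hd0] at this
    exact hne this
  have h7 := orderOf_eq_prime h5 h6
  rw [← h7, Nat.card_eq_fintype_card, ← Fintype.card_units]
  exact orderOf_dvd_card

end lin

end Cfsg.Agent.H202.RC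
end

-- part: H202/RC/LinDec2
section
/-!
# Case analysis for linear covers: decompositions for `q ≥ 3`, fields generated by one lift
-/

set_option autoImplicit false
set_option linter.unusedSectionVars false
open Cfsg

namespace Cfsg.Agent.H202.RC

open MulAction Cfsg.Agent.H106.RC Module

section lin

variable {F V G Ω ι : Type} [Field F] [Finite F] [AddCommGroup V] [Module F V] [Module.Finite F V] [Group G] [Finite G]
  [Finite Ω] [Nonempty Ω] [MulAction G Ω] [Finite ι] {N : Subgroup G} {κ : SLV F V →* G} {x : ι → G} {r : ι → ℕ}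
  {a : ι → V ≃ₗ[F] V} {W : Submodule F V}

/-- two planes -/
theorem dec_planes (h : LinCov Ω N κ x r a) (hn : 3 ≤ finrank F V) (hS : SumP F a) (hq : 3 ≤ Nat.card F)
    {W' : Submodule F V} (hc : IsCompl W W') (hW : ∀ i, ∀ w ∈ W, a i w ∈ W) (hW' : ∀ i, ∀ w ∈ W', a i w ∈ W')
    (hd : finrank F W = 2) (hd' : finrank F W' = 2) : False := by
  have hW0 : W ≠ ⊥ := by
    rintro rfl
    rw [finrank_bot] at hd; omega
  have hW0' : W' ≠ ⊥ := by
    rintro rfl
    rw [finrank_bot] at hd'; omega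
  have hns := exists_nonscal h hn hW0
  have hns' := exists_nonscal h hn hW0'
  have hdv : ∀ i, (¬ ∃ c : F, ∀ w ∈ W, a i w = c • w) → r i ∣ Nat.card F + 1 := fun i hi => dvd_plane h hn hW hd hi
  have hdv' : ∀ i, (¬ ∃ c : F, ∀ w ∈ W', a i w = c • w) → r i ∣ Nat.card F + 1 := fun i hi =>
    dvd_plane h hn hW' hd' hi
  have hdg : ∀ i, (∃ c : F, ∀ w ∈ W, a i w = c • w) → (∃ c : F, ∀ w ∈ W', a i w = c • w) → r i ∣ Nat.card F - 1 :=
    fun i h1 h2 => dvd_diag h hn hc hW0 hW0' h1 h2
  have hpr := h.pf.prime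
  by_cases hq3 : Nat.card F = 3
  · rw [hq3] at hdv hdv' hdg
    have h2 : ∀ i, r i = 2 := by
      intro i
      by_cases h1 : ∃ c : F, ∀ w ∈ W, a i w = c • w
      · by_cases h2 : ∃ c : F, ∀ w ∈ W', a i w = c • w
        · exact pd_one (hpr i) Nat.prime_two (hdg i h1 h2)
        · exact pd_pow (k := 2) (hpr i) Nat.prime_two (hdv' i h2)
      · exact pd_pow (k := 2) (hpr i) Nat.prime_two (hdv i h1)
    obtain ⟨i, hi⟩ := hns
    obtain ⟨j, hj⟩ := h.two i
    exact hj (h.pf.inj ((h2 j).trans (h2 i).symm))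
  have hq4 : 4 ≤ Nat.card F := by omega
  by_cases hex : Nat.card F = 4 ∨ Nat.card F = 5 ∨ Nat.card F = 9
  swap
  · refine hS W W' hc hW hW' (by omega) hW0' (fun _ => hq4) hns (Or.inl ?_)
    exact not_exc (by omega) (fun h' => hex h'.2) (fun h' => by omega)
  by_cases h1 : ∃ i₀, ∀ i, i ≠ i₀ → ∃ c : F, ∀ w ∈ W, a i w = c • w
  · exact hS W W' hc hW hW' (by omega) hW0' (fun _ => hq4) hns (Or.inr h1)
  by_cases h1' : ∃ i₀, ∀ i, i ≠ i₀ → ∃ c : F, ∀ w ∈ W', a i w = c • w
  · exact hS W' W hc.symm hW' hW (by omega) hW0 (fun _ => hq4) hns' (Or.inr h1')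
  have g1 : ∀ i₀, ∃ i, i ≠ i₀ ∧ ¬ ∃ c : F, ∀ w ∈ W, a i w = c • w := by
    intro i₀
    by_contra hno
    push Not at hno
    exact h1 ⟨i₀, hno⟩
  have g1' : ∀ i₀, ∃ i, i ≠ i₀ ∧ ¬ ∃ c : F, ∀ w ∈ W', a i w = c • w := by
    intro i₀
    by_contra hno
    push Not at hno
    exact h1' ⟨i₀, hno⟩
  obtain ⟨i1, hi1⟩ := hns
  obtain ⟨i2, hi21, hi2⟩ := g1 i1
  obtain ⟨j1, hj1⟩ := hns'
  obtain ⟨j2, hj21, hj2⟩ := g1' j1
  -- the two primes dividing `q + 1`
  obtain ⟨s, hs⟩ : ∃ s : ℕ, (∀ i, r i ∣ Nat.card F + 1 → r i = 2 ∨ r i = s) ∧ (∀ i, r i ∣ Nat.card F - 1 → r i = 2 ∨ r i = s) := by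
    rcases hex with hex | hex | hex
    · exact ⟨5, fun i hi => by
        rw [hex] at hi
        exact Or.inr (pd_one (hpr i) Nat.prime_five hi), fun i hi => by
        exfalso
        rw [hex] at hdv
        exact hi21 (h.pf.inj ((pd_one (hpr _) Nat.prime_five (hdv _ hi2)).trans
          (pd_one (hpr _) Nat.prime_five (hdv _ hi1)).symm))⟩
    · exact ⟨3, fun i hi => by
        rw [hex] at hi
        exact pd_two (hpr i) Nat.prime_two Nat.prime_three hi, fun i hi => by
        rw [hex] at hi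
        exact Or.inl (pd_pow (k := 2) (hpr i) Nat.prime_two hi)⟩
    · exact ⟨5, fun i hi => by
        rw [hex] at hi
        exact pd_two (hpr i) Nat.prime_two Nat.prime_five hi, fun i hi => by
        rw [hex] at hi
        exact Or.inl (pd_pow (k := 3) (hpr i) Nat.prime_two hi)⟩
  -- every member is one of `i1, i2`, and one of `j1, j2`
  have hall : ∀ i, r i = 2 ∨ r i = s := by
    intro i
    by_cases h1 : ∃ c : F, ∀ w ∈ W, a i w = c • w
    · by_cases h2 : ∃ c : F, ∀ w ∈ W', a i w = c • w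
      · exact hs.2 i (hdg i h1 h2)
      · exact hs.1 i (hdv' i h2)
    · exact hs.1 i (hdv i h1)
  have hmem : ∀ i j k : ι, j ≠ k → i = j ∨ i = k := by
    intro i j k hjk
    by_contra hcon
    push Not at hcon
    rcases hall i with hi | hi <;> rcases hall j with hj | hj <;> rcases hall k with hk | hk <;>
    first
    | exact hcon.1 (h.pf.inj (hi.trans hj.symm))
    | exact hcon.2 (h.pf.inj (hi.trans hk.symm))
    | exact hjk (h.pf.inj (hj.trans hk.symm))
  have hnsc : ∀ i, ¬ ∃ c : F, ∀ w ∈ W, a i w = c • w := by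
    intro i
    rcases hmem i i1 i2 (Ne.symm hi21) with rfl | rfl
    · exact hi1
    · exact hi2
  have hnsc' : ∀ i, ¬ ∃ c : F, ∀ w ∈ W', a i w = c • w := by
    intro i
    rcases hmem i j1 j2 (Ne.symm hj21) with rfl | rfl
    · exact hj1
    · exact hj2
  have hcard : Nat.card ι ≤ 2 := by
    classical
    cases nonempty_fintype ι
    rw [Nat.card_eq_fintype_card]
    have h3 : (Finset.univ : Finset ι) ⊆ {i1, i2} := by
      intro i _
      rw [Finset.mem_insert, Finset.mem_singleton]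
      exact hmem i i1 i2 (Ne.symm hi21)
    exact (Finset.card_le_card h3).trans Finset.card_le_two
  exact H991.RC.no_22 h W W' hc hd hd' hW hW' (fun i => no_eig h hn hW hd (hnsc i))
    (fun i => no_eig h hn hW' hd' (hnsc' i)) (by omega)

/-- **No decomposition, `q ≥ 3`.** -/
theorem dec_odd (h : LinCov Ω N κ x r a) (hn : 3 ≤ finrank F V) (hS : SumP F a) (hq : 3 ≤ Nat.card F)
    {W' : Submodule F V} (hc : IsCompl W W') (hW : ∀ i, ∀ w ∈ W, a i w ∈ W) (hW' : ∀ i, ∀ w ∈ W', a i w ∈ W')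
    (hW0 : W ≠ ⊥) (hW0' : W' ≠ ⊥) : False := by
  have hd := two_le_dim h hn hW hW0
  have hd' := two_le_dim h hn hW' hW0'
  by_cases h2 : finrank F W = 2
  · by_cases h2' : finrank F W' = 2
    · exact dec_planes h hn hS hq hc hW hW' h2 h2'
    · refine hS W' W hc.symm hW' hW hd' hW0 (fun h' => absurd h' h2') (exists_nonscal h hn hW0') (Or.inl ?_)
      exact not_exc hd' (fun h' => h2' h'.1) (fun h' => by omega)
  · refine hS W W' hc hW hW' hd hW0' (fun h' => absurd h' h2) (exists_nonscal h hn hW0) (Or.inl ?_)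
    exact not_exc hd (fun h' => h2 h'.1) (fun h' => by omega)

end lin

end Cfsg.Agent.H202.RC
end

-- part: H202/RC/LinField
section
/-!
# The field generated by one linear map with irreducible minimal polynomial; primary decomposition
-/

set_option autoImplicit false

namespace Cfsg.Agent.H202.RC

open Module Polynomial

/-- the field generated by `b` -/
theorem irr_field {F V : Type} [Field F] [Finite F] [AddCommGroup V] [Module F V] [Module.Finite F V]
    (b : V →ₗ[F] V) (hb : Irreducible (minpoly F b)) :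
    ∃ (L : Type) (_ : Field L) (_ : Finite L) (_ : Algebra F L) (_ : Module L V) (_ : IsScalarTower F L V) (θ : L),
      (∀ v, b v = θ • v) ∧
      (∀ g : V →ₗ[F] V, (∀ v, g (b v) = b (g v)) → ∀ (c : L) (v : V), g (c • v) = c • g v) ∧
      (∀ W : Submodule F V, (∀ w ∈ W, b w ∈ W) → ∀ (c : L), ∀ w ∈ W, c • w ∈ W) := by
  classical
  let A : Subalgebra F (Module.End F V) := Algebra.adjoin F {b}
  have hs : ∀ x ∈ ({b} : Set (Module.End F V)), ∀ y ∈ ({b} : Set (Module.End F V)), x * y = y * x := by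
    rintro x rfl y rfl; rfl
  let cr : CommRing A := Algebra.adjoinCommRingOfComm F hs
  have hfinV : Finite V := Module.finite_of_finite F
  have hfinE : Finite (Module.End F V) := DFunLike.finite _
  have hfinA : Finite A := Subtype.finite
  have hbA : b ∈ A := Algebra.subset_adjoin rfl
  have hpoly : ∀ c ∈ A, ∃ P : F[X], aeval b P = c := by
    intro c hc
    have h1 : c ∈ (Algebra.adjoin F {b} : Subalgebra F (Module.End F V)) := hc
    rw [Algebra.adjoin_singleton_eq_range_aeval] at h1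
    exact h1
  have hmem : ∀ P : F[X], aeval b P ∈ A := by
    intro P
    change _ ∈ (Algebra.adjoin F {b} : Subalgebra F (Module.End F V))
    rw [Algebra.adjoin_singleton_eq_range_aeval]
    exact ⟨P, rfl⟩
  have hinv : ∀ c : A, (c : Module.End F V) ≠ 0 → ∃ d : Module.End F V, d ∈ A ∧ d * (c : Module.End F V) = 1 := by
    intro c hc
    obtain ⟨P, hP⟩ := hpoly c c.2
    have h1 : ¬ minpoly F b ∣ P := by
      intro hd
      apply hc
      rw [← hP]
      obtain ⟨Q, rfl⟩ := hd
      rw [map_mul, minpoly.aeval, zero_mul]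
    have h2 : IsCoprime (minpoly F b) P := (hb.coprime_iff_not_dvd).2 h1
    obtain ⟨u, w, huw⟩ := h2
    refine ⟨aeval b w, hmem w, ?_⟩
    rw [← hP, ← map_mul]
    have h3 := congrArg (aeval b) huw
    rw [map_add, map_mul, minpoly.aeval, mul_zero, zero_add, map_one] at h3
    exact h3
  have hnt : Nontrivial V := by
    by_contra hno
    rw [not_nontrivial_iff_subsingleton] at hno
    apply hb.1
    have h1 : (1 : Module.End F V) = 0 := Subsingleton.elim _ _
    have h2 : minpoly F b ∣ 1 := minpoly.dvd F b (by rw [map_one, h1])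
    exact isUnit_of_dvd_one h2
  obtain ⟨v₀, hv₀⟩ := exists_ne (0 : V)
  have hntA : Nontrivial A := ⟨⟨0, 1, fun h => by
    have h1 := congrArg (fun f : A => (f : Module.End F V) v₀) h
    exact hv₀ h1.symm⟩⟩
  have hnz : NoZeroDivisors A := ⟨by
    intro c d hcd
    by_cases hc : (c : Module.End F V) = 0
    · left
      exact Subtype.ext hc
    · right
      obtain ⟨e, -, he⟩ := hinv c hc
      apply Subtype.ext
      have h1 : (c : Module.End F V) * (d : Module.End F V) = 0 := congrArg Subtype.val hcd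
      calc (d : Module.End F V) = (e * (c : Module.End F V)) * (d : Module.End F V) := by rw [he, one_mul]
        _ = 0 := by rw [mul_assoc, h1, mul_zero]⟩
  have hdom : IsDomain A := NoZeroDivisors.to_isDomain A
  have : Fintype A := Fintype.ofFinite A
  let fld : Field A := Fintype.fieldOfDomain A
  refine ⟨A, fld, hfinA, Subalgebra.algebra A, Subalgebra.moduleLeft A, ⟨fun c b v => rfl⟩, ⟨b, hbA⟩,
    fun v => rfl, ?_, ?_⟩
  · intro g hg c v
    have key : ∀ c ∈ (Algebra.adjoin F {b} : Subalgebra F (Module.End F V)), ∀ v, g (c v) = c (g v) := by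
      intro c hc
      induction hc using Algebra.adjoin_induction with
      | mem x hx => rw [Set.mem_singleton_iff] at hx; subst hx; exact hg
      | algebraMap c => intro v; rw [Module.algebraMap_end_apply, Module.algebraMap_end_apply, map_smul]
      | add x y _ _ hx hy => intro v; rw [LinearMap.add_apply, LinearMap.add_apply, map_add, hx, hy]
      | mul x y _ _ hx hy => intro v; rw [Module.End.mul_apply, Module.End.mul_apply, hx, hy]
    exact key c c.2 v
  · intro W hW c w hw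
    have key : ∀ c ∈ (Algebra.adjoin F {b} : Subalgebra F (Module.End F V)), ∀ v ∈ W, c v ∈ W := by
      intro c hc
      induction hc using Algebra.adjoin_induction with
      | mem x hx => rw [Set.mem_singleton_iff] at hx; subst hx; exact hW
      | algebraMap c => intro v hv; rw [Module.algebraMap_end_apply]; exact W.smul_mem _ hv
      | add x y _ _ hx hy => intro v hv; exact W.add_mem (hx v hv) (hy v hv)
      | mul x y _ _ hx hy => intro v hv; exact hx _ (hy v hv)
    exact key c c.2 w hw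

/-- primary decomposition: reducible squarefree minimal polynomial -/
theorem exists_decomp {F V : Type} [Field F] [AddCommGroup V] [Module F V] [Module.Finite F V]
    (b : V →ₗ[F] V) {n : ℕ} (hn : (n : F) ≠ 0) {c : F} (hc0 : c ≠ 0) (hc : ∀ v, (b ^ n) v = c • v)
    (hb : ¬ Irreducible (minpoly F b)) (hV : ∃ v : V, v ≠ 0) :
    ∃ W W' : Submodule F V, IsCompl W W' ∧ W ≠ ⊥ ∧ W' ≠ ⊥ ∧
      ∀ g : V →ₗ[F] V, (∀ v, g (b v) = b (g v)) → (∀ w ∈ W, g w ∈ W) ∧ (∀ w ∈ W', g w ∈ W') := by
  classical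
  have hint : IsIntegral F b := Algebra.IsIntegral.isIntegral b
  have hm0 : minpoly F b ≠ 0 := minpoly.ne_zero hint
  have hX : minpoly F b ∣ X ^ n - C c := by
    apply minpoly.dvd
    ext v
    rw [map_sub, map_pow, aeval_X, aeval_C, LinearMap.sub_apply, hc, Module.algebraMap_end_apply, sub_self]
    rfl
  have hsep : (X ^ n - C c : F[X]).Separable := Polynomial.separable_X_pow_sub_C c hn hc0
  have hnu : ¬ IsUnit (minpoly F b) := by
    intro hu
    have h1 : aeval b (minpoly F b) = 0 := minpoly.aeval F b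
    obtain ⟨v, hv⟩ := hV
    obtain ⟨u, hu'⟩ := hu.exists_right_inv
    have h2 := congrArg (aeval b) hu'
    rw [map_mul, h1, zero_mul, map_one] at h2
    have h3 := congrArg (fun f : Module.End F V => f v) h2
    exact hv h3.symm
  obtain ⟨f, g, hf, hg, hfg⟩ : ∃ f g : F[X], ¬ IsUnit f ∧ ¬ IsUnit g ∧ minpoly F b = f * g := by
    by_contra hno
    push Not at hno
    apply hb
    refine ⟨hnu, fun {f g} hfg => ?_⟩
    by_contra hcon
    push Not at hcon
    exact hno f g hcon.1 hcon.2 hfg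
  have hcop : IsCoprime f g := by
    have h1 : (f * g).Separable := by rw [← hfg]; exact hsep.of_dvd hX
    exact h1.isCoprime
  have hk : ∀ f g : F[X], ¬ IsUnit f → minpoly F b = f * g → LinearMap.ker (aeval b f) ≠ ⊥ := by
    intro f g hf hfg hker
    have h1 : aeval b f * aeval b g = 0 := by rw [← map_mul, ← hfg, minpoly.aeval]
    have h2 : aeval b g = 0 := by
      ext v
      have h3 : aeval b f (aeval b g v) = 0 := congrArg (fun f : Module.End F V => f v) h1
      have h4 : aeval b g v ∈ LinearMap.ker (aeval b f) := h3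
      rw [hker, Submodule.mem_bot] at h4
      exact h4
    have h3 := minpoly.dvd F b h2
    apply hf
    obtain ⟨u, hu⟩ := h3
    have hg0 : g ≠ 0 := by rintro rfl; rw [mul_zero] at hfg; exact hm0 hfg
    have h4 : f * u * g = 1 * g := by
      rw [one_mul]
      conv_rhs => rw [hu, hfg]
      ring
    have h5 := mul_right_cancel₀ hg0 h4
    exact IsUnit.of_mul_eq_one u h5
  refine ⟨LinearMap.ker (aeval b f), LinearMap.ker (aeval b g), ?_, hk f g hf hfg, hk g f hg (by rw [hfg, mul_comm]), ?_⟩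
  · constructor
    · exact Polynomial.disjoint_ker_aeval_of_isCoprime b hcop
    · rw [codisjoint_iff, Polynomial.sup_ker_aeval_eq_ker_aeval_mul_of_coprime b hcop, ← hfg, minpoly.aeval]
      exact LinearMap.ker_zero
  · intro u hu
    have key : ∀ (P : F[X]) (v : V), u (aeval b P v) = aeval b P (u v) := by
      intro P
      induction P using Polynomial.induction_on' with
      | add p q hp hq => intro v; rw [map_add, LinearMap.add_apply, LinearMap.add_apply, map_add, hp, hq]
      | monomial k c =>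
        intro v
        rw [aeval_monomial, Module.End.mul_apply, Module.End.mul_apply, Module.algebraMap_end_apply,
          Module.algebraMap_end_apply, map_smul]
        congr 1
        induction k generalizing v with
        | zero => rfl
        | succ k ih => rw [pow_succ, Module.End.mul_apply, Module.End.mul_apply, ih, hu]
    constructor
    · intro w hw
      rw [LinearMap.mem_ker] at hw ⊢
      rw [← key, hw, map_zero]
    · intro w hw
      rw [LinearMap.mem_ker] at hw ⊢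
      rw [← key, hw, map_zero]

end Cfsg.Agent.H202.RC
end

-- part: H202/RC/Lin
section
/-!
# Case analysis for linear covers: the end
-/

set_option autoImplicit false
set_option linter.unusedSectionVars false
open Cfsg

namespace Cfsg.Agent.H202.RC

open MulAction Cfsg.Agent.H106.RC Module

section lin

variable {F V G Ω ι : Type} [Field F] [Finite F] [AddCommGroup V] [Module F V] [Module.Finite F V] [Group G] [Finite G]
  [Finite Ω] [Nonempty Ω] [MulAction G Ω] [Finite ι] {N : Subgroup G} {κ : SLV F V →* G} {x : ι → G} {r : ι → ℕ}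
  {a : ι → V ≃ₗ[F] V} {W : Submodule F V}

/-- `no_ext` with the induction hypothesis -/
theorem ext_step (h : LinCov Ω N κ x r a) (hn : 3 ≤ finrank F V) (hne : ¬ (Nat.card F = 2 ∧ finrank F V = 4))
    (hIH : IH (Nat.card N)) {L : Type} [Field L] [Finite L] [Algebra F L] [Module L V] [IsScalarTower F L V]
    (hl : 2 ≤ finrank F L) (hm : 2 ≤ finrank L V) (hlin : ∀ (i : ι) (c : L) (v : V), a i (c • v) = c • a i v)
    (hns : ∃ i, ¬ ∃ c : L, ∀ v, a i v = c • v)
    (hsp : Nat.card F = 3 → finrank F V = 4 → ∃ i₀, ∀ i, i ≠ i₀ → ∃ c : L, ∀ v, a i v = c • v) : False := by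
  classical
  have hFL : FiniteDimensional F L := Module.Finite.of_finite
  have hmul : finrank F L * finrank L V = finrank F V := Module.finrank_mul_finrank F L V
  have hcardL : Nat.card L = Nat.card F ^ finrank F L := Module.natCard_eq_pow_finrank
  have hq2 : 2 ≤ Nat.card F := Finite.one_lt_card
  have : Fintype L := Fintype.ofFinite L
  obtain ⟨hS, hSn, hMperf, π, hπ, hπk⟩ := H338.RC.exists_pi (L := L) h.fr hm (H338.RC.four_le (F := F) hl)
  refine H338.RC.no_ext (L := L) h hl hm hne hlin hns ?_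
  by_cases hexc : Exc (Matrix.ProjectiveSpecialLinearGroup (Fin (finrank L V)) L)
  · right
    have h1 := psl_exc hm hexc
    rw [← Nat.card_eq_fintype_card, hcardL] at h1
    have hq3 : Nat.card F ≤ 3 := by
      by_contra hcon
      have h2 : 4 ^ 2 ≤ Nat.card F ^ finrank F L :=
        (Nat.pow_le_pow_left (by omega : 4 ≤ Nat.card F) 2).trans (Nat.pow_le_pow_right (by omega) hl)
      omega
    have h2d : finrank F L ≤ 3 := by
      by_contra hcon
      have h2 : 2 ^ 4 ≤ Nat.card F ^ finrank F L :=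
        (Nat.pow_le_pow_left hq2 4).trans (Nat.pow_le_pow_right (by omega) (by omega))
      omega
    have h3 : Nat.card F = 3 ∧ finrank F V = 4 := by
      rw [← hmul] at hne ⊢
      generalize Nat.card F = q at *
      generalize finrank F L = l at *
      generalize finrank L V = m at *
      interval_cases q <;> interval_cases l <;> simp at h1 hne ⊢ <;> omega
    exact hsp h3.1 h3.2
  · left
    refine hIH.use (S := N) (MulEquiv.refl N) (H338.RC.ML_le (L := L) h.fr) (H338.RC.ML_ne h.fr hl (by omega)) π hπ hS hSn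
      ?_ hexc
    left
    refine ⟨L, inferInstance, inferInstance, finrank L V, hm, fun _ => ?_, ⟨MulEquiv.refl _⟩⟩
    rw [← Nat.card_eq_fintype_card]
    exact H338.RC.four_le (F := F) hl

/-- the field generated by `a i` is proper -/
theorem two_le_field (h : LinCov Ω N κ x r a) {i : ι} {L : Type} [Field L] [Finite L] [Algebra F L] [Module L V]
    [IsScalarTower F L V] {θ : L} (hθ : ∀ v, a i v = θ • v) : 2 ≤ finrank F L := by
  have hFL : FiniteDimensional F L := Module.Finite.of_finite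
  by_contra hcon
  have h0 : 0 < finrank F L := finrank_pos
  have h1 : finrank F L = 1 := by omega
  obtain ⟨c, hc⟩ := (finrank_eq_one_iff_of_nonzero' (1 : L) one_ne_zero).1 h1 θ
  apply h.not_scal i
  refine ⟨c, fun v => ?_⟩
  rw [hθ, ← hc, smul_assoc, one_smul]

/-- dimension over the field generated by `a i` in the presence of a decomposition -/
theorem two_le_of_dec {b : V →ₗ[F] V} {L : Type} [Field L] [Finite L] [Algebra F L] [Module L V] [IsScalarTower F L V]
    {hinv : ∀ W : Submodule F V, (∀ w ∈ W, b w ∈ W) → ∀ (c : L), ∀ w ∈ W, c • w ∈ W} {W' : Submodule F V}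
    (hc : IsCompl W W') (hW : ∀ w ∈ W, b w ∈ W) (hW0 : W ≠ ⊥) (hW0' : W' ≠ ⊥) :
    2 ≤ finrank L V := by
  have hLV : Module.Finite L V := Module.Finite.of_restrictScalars_finite F L V
  obtain ⟨w, hw, hw0⟩ := Submodule.exists_mem_ne_zero_of_ne_bot hW0
  obtain ⟨w', hw', hw0'⟩ := Submodule.exists_mem_ne_zero_of_ne_bot hW0'
  have hnt : Nontrivial V := ⟨⟨w, 0, hw0⟩⟩
  have h0 : 0 < finrank L V := finrank_pos
  by_contra hcon
  have h1 : finrank L V = 1 := by omega
  obtain ⟨c, hc'⟩ := (finrank_eq_one_iff_of_nonzero' w hw0).1 h1 w'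
  have h2 : w' ∈ W := by rw [← hc']; exact hinv W hW c w hw
  have h3 : w' ∈ W ⊓ W' := ⟨h2, hw'⟩
  rw [hc.inf_eq_bot, Submodule.mem_bot] at h3
  exact hw0' h3

/-- **No decomposition, `q = 2`.** -/
theorem dec_even (h : LinCov Ω N κ x r a) (hn : 3 ≤ finrank F V) (hne : ¬ (Nat.card F = 2 ∧ finrank F V = 4))
    (hIH : IH (Nat.card N)) (hS : SumP F a) (hq : Nat.card F = 2)
    {W' : Submodule F V} (hc : IsCompl W W') (hW : ∀ i, ∀ w ∈ W, a i w ∈ W) (hW' : ∀ i, ∀ w ∈ W', a i w ∈ W')
    (hW0 : W ≠ ⊥) (hW0' : W' ≠ ⊥) : False := by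
  classical
  by_cases h3 : ∃ i, r i = 3
  swap
  · exact dec_two h hn hS hq hc hW hW' hW0 hW0' fun i hi => absurd ⟨i, hi⟩ h3
  obtain ⟨i, hi⟩ := h3
  have h2 : ∀ v : V, v + v = 0 := by
    intro v
    have h1 : ((2 : ℕ) : F) = 0 := by
      have := Fintype.ofFinite F
      have h2 : (Fintype.card F : F) = 0 := FiniteField.cast_card_eq_zero F
      rwa [← Nat.card_eq_fintype_card, hq] at h2
    rw [← two_smul F v]
    have h2 : (2 : F) = 0 := by exact_mod_cast h1
    rw [h2, zero_smul]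
  have h3 : ∀ v, a i (a i (a i v)) = v := by
    intro v
    have := pow_two' h hn hq i v
    rw [hi] at this
    exact this
  let C : Submodule F V := fx a ⊤ i
  let T : V →ₗ[F] V := (a i : V →ₗ[F] V) ∘ₗ (a i : V →ₗ[F] V) + (a i : V →ₗ[F] V) + LinearMap.id
  have hT : ∀ v, T v = a i (a i v) + a i v + v := fun _ => rfl
  let D : Submodule F V := LinearMap.ker T
  have hTC : ∀ v, T v ∈ C := by
    intro v
    refine ⟨trivial, ?_⟩
    rw [hT, map_add, map_add, h3]
    abel
  have hCT : ∀ v ∈ C, T v = v := by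
    rintro v ⟨-, hv⟩
    rw [hT, hv, hv, h2, zero_add]
  have hCD : IsCompl C D := by
    constructor
    · rw [Submodule.disjoint_def]
      intro v hv hv'
      rw [← hCT v hv]
      exact hv'
    · rw [codisjoint_iff, eq_top_iff]
      intro v _
      rw [Submodule.mem_sup]
      refine ⟨T v, hTC v, v - T v, ?_, by abel⟩
      change T (v - T v) = 0
      rw [map_sub, hCT _ (hTC v), sub_self]
  have hDinv : ∀ j, ∀ w ∈ D, a j w ∈ D := by
    intro j w hw
    change T (a j w) = 0
    have h4 : T (a j w) = a j (T w) := by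
      rw [hT, hT, map_add, map_add, h.acomm i j, h.acomm i j]
    rw [h4, show T w = 0 from hw, map_zero]
  have hCinv : ∀ j, ∀ w ∈ C, a j w ∈ C := fx_inv h (W := ⊤) (fun _ _ _ => Submodule.mem_top) i
  have hD0 : D ≠ ⊥ := by
    intro h0
    apply h.not_scal i
    refine ⟨1, fun v => ?_⟩
    have h5 : v - T v ∈ D := by
      change T (v - T v) = 0
      rw [map_sub, hCT _ (hTC v), sub_self]
    rw [h0, Submodule.mem_bot, sub_eq_zero] at h5
    rw [one_smul]
    have := hTC v
    rw [← h5] at this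
    exact this.2
  by_cases hC0 : C = ⊥
  swap
  · exact dec_two h hn hS hq hCD hCinv hDinv hC0 hD0 fun j hj w hw => by
      rw [h.pf.inj (hj.trans hi.symm)]
      exact hw.2
  -- the minimal polynomial is irreducible
  have hirr : Irreducible (minpoly F (a i : V →ₗ[F] V)) := by
    have hint : IsIntegral F (a i : V →ₗ[F] V) := Algebra.IsIntegral.isIntegral _
    apply Polynomial.irreducible_of_degree_le_three_of_not_isRoot
    · rw [Finset.mem_Icc]
      have hntV : Nontrivial V := Module.nontrivial_of_finrank_pos (R := F) (by omega)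
      refine ⟨minpoly.natDegree_pos hint, ?_⟩
      have h5 : minpoly F (a i : V →ₗ[F] V) ∣ (Polynomial.X ^ 3 - Polynomial.C 1) := by
        apply minpoly.dvd
        ext v
        rw [map_sub, map_pow, Polynomial.aeval_X, Polynomial.aeval_C, map_one, LinearMap.sub_apply]
        change a i (a i (a i v)) - v = 0
        rw [h3, sub_self]
      have h6 := Polynomial.natDegree_le_of_dvd h5 (Polynomial.X_pow_sub_C_ne_zero (by norm_num) 1)
      rwa [Polynomial.natDegree_X_pow_sub_C] at h6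
    · intro c hc
      obtain ⟨v, hv⟩ := (Module.End.hasEigenvalue_of_isRoot hc).exists_hasEigenvector
      have h5 : a i v = c • v := hv.apply_eq_smul
      have hv0 : v ≠ 0 := hv.2
      have hc0 : c ≠ 0 := by
        rintro rfl
        rw [zero_smul] at h5
        exact hv0 ((a i).map_eq_zero_iff.1 h5)
      rw [scal_two hq c hc0, one_smul] at h5
      have h6 : v ∈ C := ⟨trivial, h5⟩
      rw [hC0, Submodule.mem_bot] at h6
      exact hv0 h6
  obtain ⟨L, _, _, _, _, _, θ, hθ, hcom, hinv⟩ := irr_field _ hirr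
  have hθ' : ∀ v, a i v = θ • v := hθ
  have hlin : ∀ (j : ι) (c : L) (v : V), a j (c • v) = c • a j v := fun j c v =>
    hcom (a j : V →ₗ[F] V) (fun v => h.acomm j i v) c v
  have hFL : FiniteDimensional F L := Module.Finite.of_finite
  have hl := two_le_field h hθ'
  have hnt : Nontrivial V := Module.nontrivial_of_finrank_pos (R := F) (by omega)
  obtain ⟨v₀, hv₀⟩ := exists_ne (0 : V)
  have hLV : Module.Finite L V := Module.Finite.of_restrictScalars_finite F L V
  have hmul : finrank F L * finrank L V = finrank F V := Module.finrank_mul_finrank F L V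
  have hm := two_le_of_dec (L := L) (hinv := hinv) hc (hW i) hW0 hW0'
  -- `[L : F] = 2`
  have hDtop : ∀ v, T v = 0 := by
    intro v
    have h5 : D = ⊤ := by
      have := hCD.sup_eq_top
      rwa [hC0, bot_sup_eq] at this
    have h6 : v ∈ D := by rw [h5]; trivial
    exact h6
  have hL2 : finrank F L = 2 := by
    let f : L →ₗ[F] V := (LinearMap.toSpanSingleton L V v₀).restrictScalars F
    have hf : Function.Injective f := by
      rw [← LinearMap.ker_eq_bot, eq_bot_iff]
      intro c hc'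
      have h5 : c • v₀ = 0 := hc'
      exact (smul_eq_zero.1 h5).resolve_right hv₀
    let W₀ : Submodule F V := Submodule.span F {v₀, a i v₀}
    have hW₀ : ∀ w ∈ W₀, a i w ∈ W₀ := by
      intro w hw
      obtain ⟨c, d, rfl⟩ := Submodule.mem_span_pair.1 hw
      have h5 : a i (a i v₀) = a i v₀ + v₀ := by
        have h6 := hDtop v₀
        rw [hT] at h6
        have h7 : a i (a i v₀) + (a i v₀ + v₀) = 0 := by rw [← h6]; abel
        have h8 := h2 (a i v₀ + v₀)
        calc a i (a i v₀) = a i (a i v₀) + ((a i v₀ + v₀) + (a i v₀ + v₀)) := by rw [h8, add_zero]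
          _ = (a i (a i v₀) + (a i v₀ + v₀)) + (a i v₀ + v₀) := by abel
          _ = a i v₀ + v₀ := by rw [h7, zero_add]
      rw [map_add, map_smul, map_smul, h5]
      exact Submodule.mem_span_pair.2 ⟨d, c + d, by module⟩
    have hr : LinearMap.range f ≤ W₀ := by
      rintro _ ⟨c, rfl⟩
      exact hinv W₀ hW₀ c v₀ (Submodule.subset_span (by simp))
    have h5 : finrank F W₀ ≤ 2 := by
      have := finrank_span_finset_le_card (R := F) ({v₀, a i v₀} : Finset V)
      rw [Finset.coe_pair] at this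
      exact this.trans Finset.card_le_two
    have h6 := Submodule.finrank_mono hr
    rw [LinearMap.finrank_range_of_inj hf] at h6
    omega
  have hcardL : Nat.card L = 4 := by
    rw [Module.natCard_eq_pow_finrank (K := F) (V := L), hL2, hq]; norm_num
  refine ext_step h hn hne hIH hl hm hlin ?_ (fun h' => by omega)
  by_contra hcon
  push Not at hcon
  obtain ⟨j, hj⟩ := h.two i
  apply hj
  apply h.pf.inj
  rw [hi]
  obtain ⟨c, hc'⟩ := hcon j
  have hc0 : c ≠ 0 := by
    rintro rfl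
    have h5 := hc' v₀
    rw [zero_smul] at h5
    exact hv₀ ((a j).map_eq_zero_iff.1 h5)
  have hc3 : c ^ 3 = 1 := by
    have : Fintype L := Fintype.ofFinite L
    have h5 := FiniteField.pow_card_sub_one_eq_one c hc0
    rwa [← Nat.card_eq_fintype_card, hcardL] at h5
  have hcr : c ^ r j = 1 := by
    have h5 : ∀ (k : ℕ) (v : V), (a j ^ k) v = c ^ k • v := by
      intro k
      induction k with
      | zero => intro v; simp
      | succ k ih =>
        intro v
        rw [pow_succ', LinearEquiv.mul_apply, ih, hc', smul_smul, pow_succ']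
    have h6 := pow_two' h hn hq j v₀
    rw [h5, ← sub_eq_zero] at h6
    have h7 : (c ^ r j - 1) • v₀ = 0 := by rw [sub_smul, one_smul, h6]
    exact sub_eq_zero.1 ((smul_eq_zero.1 h7).resolve_right hv₀)
  by_contra h3'
  have h5 := Nat.dvd_gcd (orderOf_dvd_of_pow_eq_one hcr) (orderOf_dvd_of_pow_eq_one hc3)
  rw [(Nat.coprime_primes (h.pf.prime j) Nat.prime_three).2 h3', Nat.dvd_one, orderOf_eq_one_iff] at h5
  exact h.not_scal j ⟨1, fun v => by rw [hc', h5, one_smul, one_smul]⟩

/-- **No decomposition.** -/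
theorem no_dec (h : LinCov Ω N κ x r a) (hn : 3 ≤ finrank F V) (hne : ¬ (Nat.card F = 2 ∧ finrank F V = 4))
    (hIH : IH (Nat.card N)) (hS : SumP F a)
    {W' : Submodule F V} (hc : IsCompl W W') (hW : ∀ i, ∀ w ∈ W, a i w ∈ W) (hW' : ∀ i, ∀ w ∈ W', a i w ∈ W')
    (hW0 : W ≠ ⊥) (hW0' : W' ≠ ⊥) : False := by
  have hq2 : 2 ≤ Nat.card F := Finite.one_lt_card
  by_cases hq : Nat.card F = 2
  · exact dec_even h hn hne hIH hS hq hc hW hW' hW0 hW0'
  · exact dec_odd h hn hS (by omega) hc hW hW' hW0 hW0'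

/-- box CB for the given cover -/
def PrimeP (F : Type) {V ι : Type} [Field F] [AddCommGroup V] [Module F V] (a : ι → V ≃ₗ[F] V) : Prop :=
  (finrank F V).Prime → 3 ≤ finrank F V →
    (∀ i, ∀ W : Submodule F V, (∀ w ∈ W, a i w ∈ W) → W = ⊥ ∨ W = ⊤) → False

/-- in the situation of a field `E` with `dim_E V = 1` and `[E : F]` prime every `a i` is irreducible -/
theorem irr_of_prime (h : LinCov Ω N κ x r a) {E : Type} [Field E] [Finite E] [Algebra F E] [Module E V]
    [IsScalarTower F E V] (hE : finrank E V = 1) {e : E} {i : ι} (he : ∀ v, a i v = e • v) (hp : (finrank F E).Prime)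
    (W : Submodule F V) (hW : ∀ w ∈ W, a i w ∈ W) : W = ⊥ ∨ W = ⊤ := by
  classical
  have hFE : FiniteDimensional F E := Module.Finite.of_finite
  have hso : IsSimpleOrder (Subalgebra F E) := Subalgebra.isSimpleOrder_of_finrank_prime F E hp
  have hA : Algebra.adjoin F {e} = ⊤ := by
    rcases hso.eq_bot_or_eq_top (Algebra.adjoin F {e}) with h1 | h1
    · exfalso
      have h2 : e ∈ (⊥ : Subalgebra F E) := by
        rw [← h1]; exact Algebra.subset_adjoin rfl
      obtain ⟨c, hc⟩ := Algebra.mem_bot.1 h2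
      exact h.not_scal i ⟨c, fun v => by rw [he, ← hc, algebraMap_smul]⟩
    · exact h1
  have key : ∀ c : E, ∀ w ∈ W, c • w ∈ W := by
    intro c
    have hc : c ∈ Algebra.adjoin F {e} := by rw [hA]; trivial
    induction hc using Algebra.adjoin_induction with
    | mem y hy => rw [Set.mem_singleton_iff] at hy; subst hy; intro w hw; rw [← he]; exact hW w hw
    | algebraMap c => intro w hw; rw [algebraMap_smul]; exact W.smul_mem _ hw
    | add y z _ _ hy hz => intro w hw; rw [add_smul]; exact W.add_mem (hy w hw) (hz w hw)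
    | mul y z _ _ hy hz => intro w hw; rw [mul_smul]; exact hy _ (hz w hw)
  by_cases h0 : W = ⊥
  · exact Or.inl h0
  · right
    obtain ⟨w, hw, hw0⟩ := Submodule.exists_mem_ne_zero_of_ne_bot h0
    rw [eq_top_iff]
    intro v _
    obtain ⟨c, hc⟩ := (finrank_eq_one_iff_of_nonzero' w hw0).1 hE v
    rw [← hc]
    exact key c w hw

/-- order of `a i` generating a quadratic extension -/
theorem dvd_quad (h : LinCov Ω N κ x r a) (hn : 3 ≤ finrank F V) {L : Type} [Field L] [Finite L] [Algebra F L]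
    [Module L V] [IsScalarTower F L V] (hL : finrank F L = 2) {θ : L} {i : ι} (hθ : ∀ v, a i v = θ • v) :
    r i ∣ Nat.card F + 1 := by
  have hnt : Nontrivial V := Module.nontrivial_of_finrank_pos (R := F) (by omega)
  obtain ⟨v₀, hv₀⟩ := exists_ne (0 : V)
  have hFL : FiniteDimensional F L := Module.Finite.of_finite
  let W₀ : Submodule F V := (Submodule.span L {v₀}).restrictScalars F
  have hW₀ : ∀ w ∈ W₀, a i w ∈ W₀ := by
    intro w hw
    rw [hθ]
    exact (Submodule.span L {v₀}).smul_mem θ hw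
  have hd : finrank F W₀ = 2 := by
    have h1 := Module.finrank_mul_finrank F L (Submodule.span L {v₀})
    rw [finrank_span_singleton hv₀, mul_one, hL] at h1
    exact h1.symm
  obtain ⟨c, hc⟩ := H338.RC.pow_scalar h (by omega) i
  let f : W₀ →ₗ[F] W₀ := (a i : V →ₗ[F] V).restrict hW₀
  have hf : ∀ w : W₀, ((f w : W₀) : V) = a i w := fun _ => rfl
  have hfk : ∀ (k : ℕ) (w : W₀), (((f ^ k) w : W₀) : V) = (a i ^ k) w := by
    intro k
    induction k with
    | zero => intro w; rfl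
    | succ k ih =>
      intro w
      rw [pow_succ', pow_succ', Module.End.mul_apply, hf, ih]
      rfl
  refine dvd_two hd f ?_ (h.pf.prime i) (c := c) ?_ ?_
  · intro w w' e
    apply Subtype.ext
    exact (a i).injective (congrArg Subtype.val e)
  · intro w
    apply Subtype.ext
    rw [hfk, hc]
    rfl
  · intro w hw d e
    have h1 : a i w = d • (w : V) := congrArg Subtype.val e
    have hw' : (w : V) ≠ 0 := fun h0 => hw (Subtype.ext h0)
    have h2 : (θ - algebraMap F L d) • (w : V) = 0 := by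
      rw [sub_smul, algebraMap_smul, ← hθ, h1, sub_self]
    have h3 := sub_eq_zero.1 ((smul_eq_zero.1 h2).resolve_right hw')
    exact h.not_scal i ⟨d, fun v => by rw [hθ, h3, algebraMap_smul]⟩

/-- the field generated by `a i` has dimension at least two in `V` unless `V` is irreducible -/
theorem two_le_of_red {b : V →ₗ[F] V} {L : Type} [Field L] [Finite L] [Algebra F L] [Module L V] [IsScalarTower F L V]
    (hinv : ∀ W : Submodule F V, (∀ w ∈ W, b w ∈ W) → ∀ (c : L), ∀ w ∈ W, c • w ∈ W)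
    (hW : ∀ w ∈ W, b w ∈ W) (hW0 : W ≠ ⊥) (hW1 : W ≠ ⊤) : 2 ≤ finrank L V := by
  have hLV : Module.Finite L V := Module.Finite.of_restrictScalars_finite F L V
  obtain ⟨w, hw, hw0⟩ := Submodule.exists_mem_ne_zero_of_ne_bot hW0
  have hnt : Nontrivial V := ⟨⟨w, 0, hw0⟩⟩
  have h0 : 0 < finrank L V := finrank_pos
  by_contra hcon
  have h1 : finrank L V = 1 := by omega
  apply hW1
  rw [eq_top_iff]
  intro v _
  obtain ⟨c, hc'⟩ := (finrank_eq_one_iff_of_nonzero' w hw0).1 h1 v
  rw [← hc']; exact hinv W hW c w hw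

/-- **The linear theorem.** -/
theorem no_lin_of (h : LinCov Ω N κ x r a) (hn : 3 ≤ finrank F V) (hne : ¬ (Nat.card F = 2 ∧ finrank F V = 4))
    (hIH : IH (Nat.card N)) (hS : SumP F a) (hP : PrimeP F a) : False := by
  classical
  have hnt : Nontrivial V := Module.nontrivial_of_finrank_pos (R := F) (by omega)
  obtain ⟨v₀, hv₀⟩ := exists_ne (0 : V)
  by_cases hjirr : ∀ W : Submodule F V, (∀ i, ∀ w ∈ W, a i w ∈ W) → W = ⊥ ∨ W = ⊤
  · by_cases hp : (finrank F V).Prime
    · obtain ⟨E, _, _, _, _, _, e, hE, he⟩ := H338.RC.exists_field h.comm hv₀ hjirr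
      have hFE : FiniteDimensional F E := Module.Finite.of_finite
      have hEV : Module.Finite E V := Module.finite_of_finrank_pos (by omega)
      have hnE : finrank F E = finrank F V := by rw [← Module.finrank_mul_finrank F E V, hE, mul_one]
      exact hP hp hn fun i W hW => irr_of_prime h hE (he i) (by rw [hnE]; exact hp) W hW
    · exact H338.RC.no_irr_comp h hn hne hp hIH hjirr
  push Not at hjirr
  obtain ⟨W₁, hW₁, hW₁0, hW₁1⟩ := hjirr
  -- the characteristic
  have hcast : ∀ i, r i ≠ ringChar F → ((r i : ℕ) : F) ≠ 0 := by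
    intro i hi h0
    have h1 := (CharP.cast_eq_zero_iff F (ringChar F) (r i)).1 h0
    have h2 := (Nat.prime_dvd_prime_iff_eq (CharP.char_is_prime F (ringChar F)) (h.pf.prime i)).1 h1
    exact hi h2.symm
  -- reducible minimal polynomials
  have hred : ∀ i, r i ≠ ringChar F → Irreducible (minpoly F (a i : V →ₗ[F] V)) := by
    intro i hi
    by_contra hirr
    obtain ⟨c, hc⟩ := H338.RC.pow_scalar h (by omega) i
    have hpw : ∀ (k : ℕ) (v : V), ((a i : V →ₗ[F] V) ^ k) v = (a i ^ k) v := by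
      intro k
      induction k with
      | zero => intro v; rfl
      | succ k ih =>
        intro v
        rw [pow_succ', pow_succ', Module.End.mul_apply, ih]
        rfl
    have hc0 : c ≠ 0 := by
      rintro rfl
      have h1 := hc v₀
      rw [zero_smul] at h1
      exact hv₀ ((a i ^ r i).map_eq_zero_iff.1 h1)
    obtain ⟨W, W', hcW, hW0, hW0', hinv⟩ := exists_decomp (a i : V →ₗ[F] V) (hcast i hi) hc0
      (fun v => by rw [hpw, hc]) hirr ⟨v₀, hv₀⟩
    exact no_dec h hn hne hIH hS hcW (fun j => (hinv (a j : V →ₗ[F] V) fun v => h.acomm j i v).1)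
      (fun j => (hinv (a j : V →ₗ[F] V) fun v => h.acomm j i v).2) hW0 hW0'
  obtain ⟨i, hi⟩ := h.exists_ne (ringChar F)
  obtain ⟨L, _, _, _, _, _, θ, hθ, hcom, hinv⟩ := irr_field _ (hred i hi)
  have hθ' : ∀ v, a i v = θ • v := hθ
  have hlin : ∀ (j : ι) (c : L) (v : V), a j (c • v) = c • a j v := fun j c v =>
    hcom (a j : V →ₗ[F] V) (fun v => h.acomm j i v) c v
  have hFL : FiniteDimensional F L := Module.Finite.of_finite
  have hLV : Module.Finite L V := Module.Finite.of_restrictScalars_finite F L V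
  have hl := two_le_field h hθ'
  have hm := two_le_of_red hinv (hW₁ i) hW₁0 hW₁1
  by_cases hall : ∀ j, ∃ c : L, ∀ v, a j v = c • v
  · -- decomposition over `L`
    obtain ⟨C, hC⟩ := Submodule.exists_isCompl (Submodule.span L {v₀})
    have hCF : IsCompl ((Submodule.span L {v₀}).restrictScalars F) (C.restrictScalars F) := by
      constructor
      · rw [Submodule.disjoint_def]
        intro v h1 h2
        exact (Submodule.disjoint_def.1 hC.disjoint) v h1 h2
      · rw [codisjoint_iff, eq_top_iff]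
        intro v _
        have h1 : v ∈ Submodule.span L {v₀} ⊔ C := by rw [hC.sup_eq_top]; trivial
        obtain ⟨y, hy, z, hz, e⟩ := Submodule.mem_sup.1 h1
        exact Submodule.mem_sup.2 ⟨y, hy, z, hz, e⟩
    refine no_dec h hn hne hIH hS hCF ?_ ?_ ?_ ?_
    · intro j w hw
      obtain ⟨c, hc⟩ := hall j
      rw [hc]
      exact (Submodule.span L {v₀}).smul_mem c hw
    · intro j w hw
      obtain ⟨c, hc⟩ := hall j
      rw [hc]
      exact C.smul_mem c hw
    · intro h0
      apply hv₀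
      have h1 : v₀ ∈ (Submodule.span L {v₀}).restrictScalars F := Submodule.mem_span_singleton_self v₀
      rw [h0, Submodule.mem_bot] at h1
      exact h1
    · intro h0
      have h1 : C = ⊥ := (Submodule.restrictScalars_eq_bot_iff _ _ _).1 h0
      have h2 := hC.sup_eq_top
      rw [h1, sup_bot_eq] at h2
      have h3 := finrank_span_singleton (K := L) hv₀
      rw [h2, finrank_top] at h3
      omega
  · push Not at hall
    obtain ⟨j₁, hj₁⟩ := hall
    refine ext_step h hn hne hIH hl hm hlin ⟨j₁, by push Not; exact hj₁⟩ ?_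
    intro hq3 hn4
    have hmul : finrank F L * finrank L V = finrank F V := Module.finrank_mul_finrank F L V
    have hch : ringChar F = 3 := by
      have := Fintype.ofFinite F
      have h1 : (Fintype.card F : F) = 0 := FiniteField.cast_card_eq_zero F
      rw [← Nat.card_eq_fintype_card, hq3] at h1
      have h2 := (CharP.cast_eq_zero_iff F (ringChar F) 3).1 (by exact_mod_cast h1)
      exact (Nat.prime_dvd_prime_iff_eq (CharP.char_is_prime F (ringChar F)) Nat.prime_three).1 h2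
    have hquad : ∀ k, r k ≠ 3 → r k = 2 := by
      intro k hk
      obtain ⟨L', _, _, _, _, _, θ', hθk, -, hinvk⟩ := irr_field _ (hred k (by rw [hch]; exact hk))
      have hl' := two_le_field h (i := k) (θ := θ') hθk
      have hm' := two_le_of_red hinvk (hW₁ k) hW₁0 hW₁1
      have hFL' : FiniteDimensional F L' := Module.Finite.of_finite
      have hLV' : Module.Finite L' V := Module.Finite.of_restrictScalars_finite F L' V
      have hmul' : finrank F L' * finrank L' V = finrank F V := Module.finrank_mul_finrank F L' V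
      have h2 : finrank F L' = 2 := by
        rw [hn4] at hmul'
        have h3 : finrank F L' ≤ 2 := by
          by_contra hcon
          have : 3 * 2 ≤ finrank F L' * finrank L' V := Nat.mul_le_mul (by omega) hm'
          omega
        omega
      have h3 := dvd_quad h hn h2 (i := k) (θ := θ') hθk
      rw [hq3] at h3
      exact pd_pow (k := 2) (h.pf.prime k) Nat.prime_two h3
    have hi2 : r i = 2 := hquad i (by rw [← hch]; exact hi)
    by_cases hex : ∃ j, r j = 3
    · obtain ⟨j, hj⟩ := hex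
      refine ⟨j, fun k hk => ?_⟩
      have hk2 : r k = 2 := hquad k fun h' => hk (h.pf.inj (h'.trans hj.symm))
      have hki : k = i := h.pf.inj (hk2.trans hi2.symm)
      rw [hki]
      exact ⟨θ, hθ'⟩
    · refine ⟨i, fun k hk => ?_⟩
      have hk2 : r k = 2 := hquad k fun h' => hex ⟨k, h'⟩
      exact absurd (h.pf.inj (hk2.trans hi2.symm)) hk

end lin

end Cfsg.Agent.H202.RC
end

-- part: H253/RC/NoSum
section
/-!
# S3510, row A, box C: `V = W ⊕ W'` invariant, `M = SL(W)` (helper253)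

M-rule for `M = κ(SL(W) ⊕ 1)`: every point fixed by no `x j` centralising `M` is fixed by `M`.  Rule T2 for the
family of these `x j`, `Q = κ(Hom(V/⟨v⟩, ⟨v⟩))`, `v ∈ W`, and the character `φ ↦ ψ(φ(w + w'))` with `w ∈ W`, `w ∉ ⟨v⟩`
and `w' ∈ W'` moved (projectively) by all these `a j`.
-/

set_option autoImplicit false
open Cfsg

namespace Cfsg.Agent.H253.RC.NoSum

open MulAction Cfsg.Agent.H106.RC Module Cfsg.Agent.H359.RC Cfsg.Agent.H202.RC Cfsg.Agent.H338.RC
open scoped commutatorElement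

/-! ### a vector moved by all -/

theorem exists_vec {X ι : Type*} [AddCommGroup X] [Finite X] [Finite ι] {p n : ℕ} (hp : p.Prime)
    (hX : Nat.card X = p ^ n) (b : ι → X ≃+ X) (r : ι → ℕ) (hr : ∀ i, (r i).Prime) (hinj : Function.Injective r)
    (hc : ∀ i j w, b i (b j w) = b j (b i w)) (hpow : ∀ i w, (b i)^[r i] w = w) (hne : ∀ i, ∃ w, b i w ≠ w) :
    ∃ w, ∀ i, b i w ≠ w := by
  classical
  let y : ι → Equiv.Perm X := fun i => (b i).toEquiv
  let α : ι → MulAut (Multiplicative X) := fun i => AddEquiv.toMultiplicative (b i)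
  have hy : ∀ i w, y i w = b i w := fun _ _ => rfl
  have hα : ∀ i (w : Multiplicative X), (α i w) = Multiplicative.ofAdd (b i w.toAdd) := fun _ _ => rfl
  have hypow : ∀ i (m : ℕ) w, (y i ^ m) w = (b i)^[m] w := by
    intro i m
    induction m with
    | zero => intro w; rfl
    | succ m ih => intro w; rw [pow_succ, Equiv.Perm.mul_apply, ih, hy, Function.iterate_succ_apply]
  have hαpow : ∀ i (m : ℕ) (w : Multiplicative X), (α i ^ m) w = Multiplicative.ofAdd ((b i)^[m] w.toAdd) := by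
    intro i m
    induction m with
    | zero => intro w; rfl
    | succ m ih => intro w; rw [pow_succ, MulAut.mul_apply, ih, hα, Function.iterate_succ_apply]; rfl
  have hN : Nrm y α r := by
    refine ⟨hr, ?_, ?_, ?_, ?_, ?_⟩
    · intro i j d
      rw [hy, hy, hy, hy, hc]
    · intro i j u
      rw [hα, hα, hα, hα]
      exact congrArg Multiplicative.ofAdd (hc i j u.toAdd)
    · intro i u d
      change b i (u.toAdd + d) = b i u.toAdd + b i d
      exact map_add _ _ _
    · intro i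
      ext d
      rw [hypow, hpow]
      rfl
    · intro i
      ext u
      rw [hαpow, hpow]
      rfl
  have htr : ∀ d d' : X, ∃ u : Multiplicative X, u • d = d' := by
    intro d d'
    refine ⟨Multiplicative.ofAdd (d' - d), ?_⟩
    change (d' - d) + d = d'
    exact sub_add_cancel _ _
  have hcard : ∀ i, ¬ (r i).Coprime (Nat.card (Multiplicative X)) → r i = p := by
    intro i hi
    by_contra hne
    apply hi
    have h1 : Nat.card (Multiplicative X) = p ^ n := hX
    rw [h1]
    exact Nat.Coprime.pow_right _ ((Nat.coprime_primes (hr i) hp).2 hne)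
  exact exists_moved hN htr (fun i j hi hj => hinj ((hcard i hi).trans (hcard j hj).symm)) hne

/-! ### restriction and embedding -/

section emb

variable {F V : Type*} [Field F] [AddCommGroup V] [Module F V]

/-- restriction of an automorphism -/
noncomputable def rs [Module.Finite F V] {W : Submodule F V} (f : V ≃ₗ[F] V) (hf : ∀ w ∈ W, f w ∈ W) : W ≃ₗ[F] W :=
  LinearEquiv.ofInjectiveEndo ((f : V →ₗ[F] V).restrict hf) (by
    intro u v h
    apply Subtype.ext
    apply f.injective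
    exact congrArg Subtype.val h)

variable {W W' : Submodule F V}

/-- `s ⊕ 1` -/
noncomputable def em [Module.Finite F V] (hc : IsCompl W W') : SLV F W →* SLV F V where
  toFun s := ⟨(Submodule.prodEquivOfIsCompl W W' hc).symm.trans
      (((s : W ≃ₗ[F] W).prodCongr (LinearEquiv.refl F W')).trans (Submodule.prodEquivOfIsCompl W W' hc)), by
    rw [mem_SLV]
    have h1 : (((Submodule.prodEquivOfIsCompl W W' hc).symm.trans
      (((s : W ≃ₗ[F] W).prodCongr (LinearEquiv.refl F W')).trans (Submodule.prodEquivOfIsCompl W W' hc)) :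
        V ≃ₗ[F] V) : V →ₗ[F] V) = (Submodule.prodEquivOfIsCompl W W' hc : (W × W') →ₗ[F] V) ∘ₗ
        (((s : W ≃ₗ[F] W) : W →ₗ[F] W).prodMap LinearMap.id) ∘ₗ
        ((Submodule.prodEquivOfIsCompl W W' hc).symm : V →ₗ[F] (W × W')) := rfl
    rw [h1, LinearMap.det_conj, LinearMap.det_prodMap, LinearMap.det_id, mul_one]
    exact mem_SLV.1 s.2⟩
  map_one' := by
    apply SLV.ext
    intro v
    exact (Submodule.prodEquivOfIsCompl W W' hc).apply_symm_apply v
  map_mul' s t := by
    apply SLV.ext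
    intro v
    rw [coe_mul_apply]
    change (Submodule.prodEquivOfIsCompl W W' hc) _ = (Submodule.prodEquivOfIsCompl W W' hc)
      (((s : W ≃ₗ[F] W).prodCongr (LinearEquiv.refl F W')) ((Submodule.prodEquivOfIsCompl W W' hc).symm
        ((Submodule.prodEquivOfIsCompl W W' hc) _)))
    rw [LinearEquiv.symm_apply_apply]
    rfl

theorem em_left [Module.Finite F V] (hc : IsCompl W W') (s : SLV F W) (w : W) :
    (em hc s : V ≃ₗ[F] V) w = ((s : W ≃ₗ[F] W) w : V) := by
  change (Submodule.prodEquivOfIsCompl W W' hc) (((s : W ≃ₗ[F] W).prodCongr (LinearEquiv.refl F W'))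
    ((Submodule.prodEquivOfIsCompl W W' hc).symm w)) = _
  rw [Submodule.prodEquivOfIsCompl_symm_apply_left]
  simp only [_root_.LinearEquiv.prodCongr_apply, _root_.LinearEquiv.refl_apply, _root_.Submodule.coe_prodEquivOfIsCompl', _root_.ZeroMemClass.coe_zero, _root_.add_zero]

theorem em_right [Module.Finite F V] (hc : IsCompl W W') (s : SLV F W) {w : V} (hw : w ∈ W') :
    (em hc s : V ≃ₗ[F] V) w = w := by
  change (Submodule.prodEquivOfIsCompl W W' hc) (((s : W ≃ₗ[F] W).prodCongr (LinearEquiv.refl F W'))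
    ((Submodule.prodEquivOfIsCompl W W' hc).symm ((⟨w, hw⟩ : W') : V))) = _
  rw [Submodule.prodEquivOfIsCompl_symm_apply_right]
  simp

theorem decomp (hc : IsCompl W W') (v : V) : ∃ (w : W) (w' : W'), v = (w : V) + w' := by
  have h : v ∈ W ⊔ W' := by rw [hc.sup_eq_top]; trivial
  obtain ⟨w, hw, w', hw', h⟩ := Submodule.mem_sup.1 h
  exact ⟨⟨w, hw⟩, ⟨w', hw'⟩, h.symm⟩

theorem cj_em [Module.Finite F V] (hc : IsCompl W W') (f : V ≃ₗ[F] V) (hf : ∀ w ∈ W, f w ∈ W)
    (hf' : ∀ w ∈ W', f w ∈ W') (s : SLV F W) : cj f (em hc s) = em hc (cj (rs f hf) s) := by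
  apply cj_eq
  intro v
  obtain ⟨w, w', rfl⟩ := decomp hc v
  simp only [map_add, map_add, map_add, map_add, em_left, em_right hc s w'.2, em_right hc _ (hf' _ w'.2)]
  congr 1
  have h1 : f w = (rs f hf w : V) := rfl
  rw [h1, em_left, cj_apply]
  rfl

/-- a functional separating -/
theorem exists_phi (hc : IsCompl W W') {e f : V} (he : e ∈ W) (hf : f ∈ W)
    (hne : ¬ ∃ c : F, f = c • e) : ∃ φ : Dual F V, (∀ w ∈ W', φ w = 0) ∧ φ e = 0 ∧ φ f = 1 := by
  have h1 : f ∉ W' ⊔ Submodule.span F {e} := by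
    intro h
    obtain ⟨w, hw, u, hu, h⟩ := Submodule.mem_sup.1 h
    obtain ⟨c, rfl⟩ := Submodule.mem_span_singleton.1 hu
    apply hne
    refine ⟨c, ?_⟩
    have h2 : w ∈ W := by
      have : w = f - c • e := by rw [← h]; abel
      rw [this]
      exact W.sub_mem hf (W.smul_mem _ he)
    have h3 : w = 0 := Submodule.disjoint_def.1 hc.disjoint w h2 hw
    rw [← h, h3, zero_add]
  obtain ⟨φ, h2, h3⟩ := Submodule.exists_le_ker_of_notMem h1
  refine ⟨(φ f)⁻¹ • φ, fun w hw => ?_, ?_, ?_⟩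
  · have h4 : φ w = 0 := h3 (Submodule.mem_sup_left hw)
    rw [LinearMap.smul_apply, h4, smul_zero]
  · have h4 : φ e = 0 := h3 (Submodule.mem_sup_right (Submodule.mem_span_singleton_self e))
    rw [LinearMap.smul_apply, h4, smul_zero]
  · rw [LinearMap.smul_apply, smul_eq_mul, inv_mul_cancel₀ h2]

/-- commuting with `SL(W)` is scalar -/
theorem scalar_of_commute {W : Type*} [AddCommGroup W] [Module F W] (hm : 2 ≤ finrank F W) (f : W ≃ₗ[F] W)
    (h : ∀ (s : SLV F W) (w : W), (s : W ≃ₗ[F] W) (f w) = f ((s : W ≃ₗ[F] W) w)) : ∃ c : F, ∀ w, f w = c • w := by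
  have hfin : Module.Finite F W := Module.finite_of_finrank_pos (by omega)
  have key : ∀ v : W, ∃ c : F, f v = c • v := by
    intro v
    by_cases hv : v = 0
    · exact ⟨1, by rw [hv, map_zero, smul_zero]⟩
    obtain ⟨u, hu⟩ : ∃ u, u ∉ Submodule.span F {v} := by
      by_contra hcon
      push Not at hcon
      have h2 : Submodule.span F {v} = ⊤ := eq_top_iff.2 fun u _ => hcon u
      have h3 := finrank_span_singleton (K := F) hv
      rw [h2, finrank_top] at h3
      omega
    obtain ⟨φ, hφu, hφ⟩ := Submodule.exists_le_ker_of_notMem hu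
    have hφv : φ v = 0 := hφ (Submodule.mem_span_singleton_self v)
    have h1 := h (tv φ v hφv) u
    rw [tv_apply, tv_apply, map_add, map_smul, add_right_inj] at h1
    refine ⟨(φ u)⁻¹ * φ (f u), ?_⟩
    rw [mul_smul, h1, inv_smul_smul₀ hφu]
  obtain ⟨c, hc⟩ := LinearMap.exists_eq_smul_id_of_forall_notLinearIndependent (R := F) (V := W)
    (f := (f : W →ₗ[F] W)) (by
      intro v hv
      obtain ⟨c, hc⟩ := key v
      rw [LinearIndependent.pair_iff] at hv
      have := hv c (-1) (by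
        change c • v + (-1 : F) • f v = 0
        rw [hc, neg_smul, one_smul, add_neg_cancel])
      exact neg_ne_zero.2 one_ne_zero this.2)
  refine ⟨c, fun v => ?_⟩
  have := congrArg (fun f : W →ₗ[F] W => f v) hc
  exact this

end emb

/-! ### structure of images of `SL_m(F)` -/

theorem exists_pi_of {F G : Type} [Field F] [Finite F] [Group G] {m : ℕ} (hm : 2 ≤ m) (h4 : m = 2 → 4 ≤ Nat.card F)
    (μ : Matrix.SpecialLinearGroup (Fin m) F →* G)
    (hker : μ.ker ≤ Subgroup.center (Matrix.SpecialLinearGroup (Fin m) F)) :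
    IsSimpleGroup (Matrix.ProjectiveSpecialLinearGroup (Fin m) F) ∧
      ¬ IsMulCommutative (Matrix.ProjectiveSpecialLinearGroup (Fin m) F) ∧
      ⁅μ.range, μ.range⁆ = μ.range ∧
      ∃ π : μ.range →* Matrix.ProjectiveSpecialLinearGroup (Fin m) F,
        Function.Surjective π ∧ π.ker ≤ Subgroup.center μ.range := by
  classical
  have : Fintype F := Fintype.ofFinite F
  rw [Nat.card_eq_fintype_card] at h4
  have hperf : commutator (Matrix.SpecialLinearGroup (Fin m) F) = ⊤ := H982.TWModel.perfect_sl hm h4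
  have : Nontrivial (Fin m) := Fin.nontrivial_iff_two_le.2 hm
  have hS : IsSimpleGroup (Matrix.ProjectiveSpecialLinearGroup (Fin m) F) :=
    LieClassical.SLGen.psl_isSimpleGroup_of_perfect hperf
  have hSn : ¬ IsMulCommutative (Matrix.ProjectiveSpecialLinearGroup (Fin m) F) :=
    not_comm_of_perf hperf (QuotientGroup.mk' _) (QuotientGroup.mk'_surjective _) hS
  have hMperf : ⁅μ.range, μ.range⁆ = μ.range := by
    rw [MonoidHom.range_eq_map, ← Subgroup.map_commutator, ← commutator_def, hperf]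
  let e1 : Matrix.SpecialLinearGroup (Fin m) F ⧸ μ.ker ≃* μ.range := QuotientGroup.quotientKerEquivRange μ
  let q : Matrix.SpecialLinearGroup (Fin m) F ⧸ μ.ker →* Matrix.ProjectiveSpecialLinearGroup (Fin m) F :=
    QuotientGroup.map μ.ker (Subgroup.center _) (MonoidHom.id _) hker
  have hqs : Function.Surjective q := by
    intro y
    obtain ⟨s, rfl⟩ := QuotientGroup.mk_surjective y
    exact ⟨QuotientGroup.mk s, rfl⟩
  let π : μ.range →* Matrix.ProjectiveSpecialLinearGroup (Fin m) F := q.comp e1.symm.toMonoidHom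
  have hπ : Function.Surjective π := hqs.comp e1.symm.surjective
  have hπk : π.ker ≤ Subgroup.center μ.range := by
    intro y hy
    obtain ⟨s', hs'⟩ := e1.surjective y
    obtain ⟨s, rfl⟩ := QuotientGroup.mk_surjective s'
    have h1 : q (QuotientGroup.mk s) = 1 := by
      have h2 : q (e1.symm y) = 1 := hy
      rwa [← hs', MulEquiv.symm_apply_apply] at h2
    have h2 : s ∈ Subgroup.center (Matrix.SpecialLinearGroup (Fin m) F) := by
      have h3 : (QuotientGroup.mk s : Matrix.SpecialLinearGroup (Fin m) F ⧸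
        Subgroup.center (Matrix.SpecialLinearGroup (Fin m) F)) = 1 := h1
      exact (QuotientGroup.eq_one_iff s).1 h3
    rw [Subgroup.mem_center_iff] at h2 ⊢
    rintro ⟨_, ⟨t, rfl⟩⟩
    have h4 : (y : G) = μ s := by rw [← hs']; rfl
    apply Subtype.ext
    change μ t * (y : G) = (y : G) * μ t
    rw [h4, ← map_mul, ← map_mul, h2 t]
  exact ⟨hS, hSn, hMperf, π, hπ, hπk⟩

section main

variable {F V G Ω ι : Type} [Field F] [Finite F] [AddCommGroup V] [Module F V] [Module.Finite F V] [Group G]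
  [MulAction G Ω] {N : Subgroup G} {κ : SLV F V →* G} {x : ι → G} {r : ι → ℕ}
  {a : ι → V ≃ₗ[F] V} {W W' : Submodule F V}

omit [Finite F] [Module.Finite F V] in
/-- equality of images of elements fixing a vector -/
theorem eq_of_fix_vec (h : Frame Ω N κ) {s t : SLV F V} (e : κ s = κ t) {v : V} (hv : v ≠ 0)
    (hs : (s : V ≃ₗ[F] V) v = v) (ht : (t : V ≃ₗ[F] V) v = v) : s = t := by
  obtain ⟨c, hc⟩ := (eq_iff_smul h).1 e
  have h1 := hc v
  rw [hs, ht] at h1
  have hc1 : c = 1 := by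
    have h3 : (c - 1) • v = 0 := by rw [sub_smul, one_smul, ← h1, sub_self]
    rcases smul_eq_zero.1 h3 with h | h
    · exact sub_eq_zero.1 h
    · exact absurd h hv
  apply SLV.ext
  intro u
  rw [hc u, hc1, one_smul]

omit [Finite F] in
/-- `κ(SL(W) ⊕ 1) ≤ N` -/
theorem MW_le (fr : Frame Ω N κ) (hc : IsCompl W W') : (κ.comp (em hc)).range ≤ N := by
  rw [← fr.range]
  rintro _ ⟨s, rfl⟩
  exact ⟨_, rfl⟩

omit [Finite F] in
/-- `κ(SL(W) ⊕ 1) ≠ N` -/
theorem MW_ne (fr : Frame Ω N κ) (hc : IsCompl W W') (hd : W ≠ ⊥) (hd' : W' ≠ ⊥) : (κ.comp (em hc)).range ≠ N := by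
  intro h
  obtain ⟨e, he, he0⟩ := Submodule.exists_mem_ne_zero_of_ne_bot hd
  obtain ⟨e', he', he0'⟩ := Submodule.exists_mem_ne_zero_of_ne_bot hd'
  have h1 : e' ∉ W := fun h1 => he0' (Submodule.disjoint_def.1 hc.disjoint _ h1 he')
  obtain ⟨φ, hφ, hφW⟩ := Submodule.exists_le_ker_of_notMem h1
  have hφe : φ e = 0 := hφW he
  have h2 : κ (tv φ e hφe) ∈ (κ.comp (em hc)).range := by
    rw [h, ← fr.range]
    exact ⟨_, rfl⟩
  obtain ⟨s, hs⟩ := h2
  obtain ⟨c, hc'⟩ := (eq_iff_smul fr).1 (show κ (em hc s) = _ from hs)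
  have h3 := hc' e'
  rw [em_right hc s he', tv_apply] at h3
  have h4 : (c * φ e') • e ∈ W' := by
    have h5 : (c * φ e') • e = e' - c • e' := by
      rw [mul_smul, eq_sub_iff_add_eq, ← smul_add, add_comm (φ e' • e)]
      exact h3.symm
    rw [h5]
    exact W'.sub_mem he' (W'.smul_mem _ he')
  have h5 := Submodule.disjoint_def.1 hc.disjoint _ (W.smul_mem _ he) h4
  rcases smul_eq_zero.1 h5 with h6 | h6
  · rcases mul_eq_zero.1 h6 with h7 | h7
    · rw [h7, zero_smul] at h3
      exact he0' h3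
    · exact hφ h7
  · exact he0 h6

/-- structure of `κ(SL(W) ⊕ 1)` -/
theorem exists_pi_sum (fr : Frame Ω N κ) (hc : IsCompl W W') (hd : 2 ≤ finrank F W) (hd' : W' ≠ ⊥)
    (hsm : finrank F W = 2 → 4 ≤ Nat.card F) :
    IsSimpleGroup (Matrix.ProjectiveSpecialLinearGroup (Fin (finrank F W)) F) ∧
      ¬ IsMulCommutative (Matrix.ProjectiveSpecialLinearGroup (Fin (finrank F W)) F) ∧
      ⁅(κ.comp (em hc)).range, (κ.comp (em hc)).range⁆ = (κ.comp (em hc)).range ∧
      ∃ π : (κ.comp (em hc)).range →* Matrix.ProjectiveSpecialLinearGroup (Fin (finrank F W)) F,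
        Function.Surjective π ∧ π.ker ≤ Subgroup.center (κ.comp (em hc)).range := by
  obtain ⟨e', he', he0'⟩ := Submodule.exists_mem_ne_zero_of_ne_bot hd'
  let b : Basis (Fin (finrank F W)) F W := Module.finBasis F W
  let μ : Matrix.SpecialLinearGroup (Fin (finrank F W)) F →* G := (κ.comp (em hc)).comp (slE b).toMonoidHom
  have hμ : μ.range = (κ.comp (em hc)).range := by
    change ((κ.comp (em hc)).comp (slE b).toMonoidHom).range = _
    rw [MonoidHom.range_comp, MonoidHom.range_eq_top.2 (slE b).surjective, ← MonoidHom.range_eq_map]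
  have hker : μ.ker ≤ Subgroup.center (Matrix.SpecialLinearGroup (Fin (finrank F W)) F) := by
    intro s hs
    rw [MonoidHom.mem_ker] at hs
    have h1 : κ (em hc (slE b s)) = κ 1 := by rw [map_one]; exact hs
    have h2 := eq_of_fix_vec fr h1 he0' (em_right hc _ he') rfl
    have h3 : slE b s = 1 := by
      apply SLV.ext
      intro w
      apply Subtype.ext
      rw [← em_left hc, h2]
      rfl
    have h4 : s = 1 := (slE b).injective (by rw [h3, map_one])
    rw [h4]
    exact Subgroup.one_mem _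
  rw [← hμ]
  exact exists_pi_of hd hsm μ hker

/-- the M-rule for `SL(W) ⊕ 1` -/
theorem mrule_sum [Finite ι] (h : LinCov Ω N κ x r a) (hc : IsCompl W W')
    (hW : ∀ i, ∀ w ∈ W, a i w ∈ W) (hW' : ∀ i, ∀ w ∈ W', a i w ∈ W') (hd : 2 ≤ finrank F W) (hd' : W' ≠ ⊥)
    (hsm : finrank F W = 2 → 4 ≤ Nat.card F)
    (hRC : RC (Matrix.ProjectiveSpecialLinearGroup (Fin (finrank F W)) F) ∨
      ∃ i₀, ∀ i, i ≠ i₀ → ∃ c : F, ∀ w ∈ W, a i w = c • w) (ω : Ω) :
    (κ.comp (em hc)).range ≤ stabilizer G ω ∨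
      ∃ j, (∀ m ∈ (κ.comp (em hc)).range, x j * m = m * x j) ∧ x j • ω = ω := by
  obtain ⟨hS, hSn, hMperf, π, hπ, hπk⟩ := exists_pi_sum h.fr hc hd hd' hsm
  have hnorm : ∀ i, x i ∈ Subgroup.normalizer ((κ.comp (em hc)).range : Set G) := by
    intro i
    refine mem_norm_pow (h.pf.prime i).pos (h.pf.pow i) ?_
    rintro _ ⟨s, rfl⟩
    change x i * κ (em hc s) * (x i)⁻¹ ∈ _
    rw [h.lift, cj_em hc (a i) (hW i) (hW' i)]
    exact ⟨_, rfl⟩
  rcases hRC with hRC | ⟨i₀, hi₀⟩
  · exact mrule_RC hS hSn x r h.pf.prime h.pf.inj h.pf.pow h.pf.comm _ hMperf π hπ hπk hnorm hRC ω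
      fun m _ => h.cov _
  · refine mrule_one hS hSn x r h.pf.prime h.pf.inj h.pf.pow h.pf.comm _ hMperf π hπ hπk i₀ (hnorm i₀) ?_ ω
      fun m _ => h.cov _
    intro i hi
    obtain ⟨c, hc'⟩ := hi₀ i hi
    rintro _ ⟨s, rfl⟩
    change x i * κ (em hc s) = κ (em hc s) * x i
    have h1 := h.lift i (em hc s)
    have h2 : cj (a i) (em hc s) = em hc s := by
      apply cj_eq
      intro v
      obtain ⟨w, w', rfl⟩ := decomp hc v
      simp only [map_add, map_add, map_add, map_add, em_left, em_right hc s w'.2, em_right hc _ (hW' i _ w'.2),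
        hc' w w.2, map_smul, em_left, hc' _ (((s : W ≃ₗ[F] W) w).2)]
    rw [h2, mul_inv_eq_iff_eq_mul] at h1
    exact h1

omit [Finite F] in
/-- elements centralising `M` are scalars on `W` -/
theorem scalar_of_cent (h : LinCov Ω N κ x r a) (hc : IsCompl W W')
    (hW : ∀ i, ∀ w ∈ W, a i w ∈ W) (hW' : ∀ i, ∀ w ∈ W', a i w ∈ W') (hd : 2 ≤ finrank F W) (hd' : W' ≠ ⊥)
    {j : ι} (hj : ∀ m ∈ (κ.comp (em hc)).range, x j * m = m * x j) : ∃ c : F, ∀ w ∈ W, a j w = c • w := by
  obtain ⟨e', he', he0'⟩ := Submodule.exists_mem_ne_zero_of_ne_bot hd'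
  obtain ⟨c, hc'⟩ := scalar_of_commute hd (rs (a j) (hW j)) (by
    intro s w
    have h1 := hj (κ (em hc s)) ⟨s, rfl⟩
    have h2 := h.lift j (em hc s)
    rw [h1, mul_inv_cancel_right, cj_em hc (a j) (hW j) (hW' j)] at h2
    have h3 := eq_of_fix_vec h.fr h2 he0' (em_right hc _ he') (em_right hc _ he')
    have h4 : s = cj (rs (a j) (hW j)) s := by
      apply SLV.ext
      intro u
      apply Subtype.ext
      rw [← em_left hc, h3, em_left]
    conv_lhs => rw [h4]
    rw [cj_apply])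
  refine ⟨c, fun w hw => ?_⟩
  have := congrArg Subtype.val (hc' ⟨w, hw⟩)
  exact this

/-- the character of `Q = κ(QW ⟨v⟩)` in terms of a vector -/
theorem exists_vector {v : V} (hv : v ≠ 0) {ψ : AddChar F ℂ} (hψ : ψ ≠ 1)
    (μ : (QW (Submodule.span F {v})).map κ →* ℂˣ) (hμ : μ ≠ 1) :
    ∃ u : V, u ∉ Submodule.span F {v} ∧ ∀ (φ : Dual F V) (hφ : φ v = 0),
        ((μ ⟨κ (tv φ v hφ), _, tv_mem_QW hφ, rfl⟩ : ℂˣ) : ℂ) = ψ (φ u) := by
  -- a functional with value one at `v`
  obtain ⟨f0, hf0⟩ : ∃ f0 : Dual F V, f0 v = 1 := by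
    obtain ⟨f, hf1, -⟩ := Submodule.exists_le_ker_of_notMem (p := (⊥ : Submodule F V)) (v := v)
      (by rw [Submodule.mem_bot]; exact hv)
    exact ⟨(f v)⁻¹ • f, by rw [LinearMap.smul_apply, smul_eq_mul, inv_mul_cancel₀ hf1]⟩
  let pr : Dual F V → Dual F V := fun φ => φ - φ v • f0
  have hpr : ∀ φ, pr φ v = 0 := fun φ => by
    change φ v - φ v • f0 v = 0
    rw [hf0, smul_eq_mul, mul_one, sub_self]
  have hpradd : ∀ φ φ', pr (φ + φ') = pr φ + pr φ' := fun φ φ' => by
    change (φ + φ') - (φ + φ') v • f0 = _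
    rw [LinearMap.add_apply]
    change _ = (φ - φ v • f0) + (φ' - φ' v • f0)
    module
  let χ : AddChar (Dual F V) ℂ :=
    { toFun := fun φ => ((μ ⟨κ (tv (pr φ) v (hpr φ)), _, tv_mem_QW (hpr φ), rfl⟩ : ℂˣ) : ℂ)
      map_zero_eq_one' := by
        have h0 : (⟨κ (tv (pr 0) v (hpr 0)), _, tv_mem_QW (hpr 0), rfl⟩ : (QW (Submodule.span F {v})).map κ) = 1 := by
          apply Subtype.ext
          change κ _ = 1
          rw [← map_one κ]
          congr 1
          apply SLV.ext
          intro y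
          have : pr 0 = 0 := by change (0 : Dual F V) - (0 : Dual F V) v • f0 = 0; simp
          rw [tv_apply, this, coe_one_apply]
          simp
        rw [h0, map_one]; rfl
      map_add_eq_mul' := fun φ φ' => by
        rw [← Units.val_mul, ← map_mul]
        congr 2
        apply Subtype.ext
        change κ _ = κ _ * κ _
        rw [← map_mul]
        congr 1
        rw [tv_mul_left]
        apply SLV.ext
        intro y
        rw [tv_apply, tv_apply, hpradd] }
  obtain ⟨ℓ, hℓ⟩ := exists_dual hψ χ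
  let u : V := (Module.evalEquiv F V).symm ℓ
  have hu : ∀ φ : Dual F V, ℓ φ = φ u := by
    intro φ
    have h1 : ℓ = Module.evalEquiv F V u := ((Module.evalEquiv F V).apply_symm_apply ℓ).symm
    rw [h1]; rfl
  have hval : ∀ (φ : Dual F V) (hφ : φ v = 0),
      ((μ ⟨κ (tv φ v hφ), _, tv_mem_QW hφ, rfl⟩ : ℂˣ) : ℂ) = ψ (φ u) := by
    intro φ hφ
    rw [← hu, ← hℓ]
    change _ = ((μ ⟨κ (tv (pr φ) v (hpr φ)), _, tv_mem_QW (hpr φ), rfl⟩ : ℂˣ) : ℂ)
    congr 2
    apply Subtype.ext
    change κ _ = κ _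
    congr 1
    apply SLV.ext
    intro y
    have : pr φ = φ := by change φ - φ v • f0 = φ; rw [hφ, zero_smul, sub_zero]
    rw [tv_apply, tv_apply, this]
  refine ⟨u, ?_, hval⟩
  intro huP
  apply hμ
  obtain ⟨d, hd⟩ := Submodule.mem_span_singleton.1 huP
  ext ⟨q, s, hs, rfl⟩
  obtain ⟨φ, hφ, rfl⟩ := exists_tv hv hs
  change ((μ ⟨κ (tv φ v hφ), _⟩ : ℂˣ) : ℂ) = 1
  rw [hval φ hφ, ← hd, map_smul, hφ, smul_zero, AddChar.map_zero_eq_one]

/-- every vector outside `⟨v⟩` gives an occurring character -/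
theorem occ_vector [Finite G] [Nonempty Ω] (hf : Frame Ω N κ) (hn : 3 ≤ finrank F V) {v : V} (hv : v ≠ 0)
    {ψ : AddChar F ℂ} (hψ : ψ ≠ 1) {u' : V} (hu' : u' ∉ Submodule.span F {v}) :
    ∃ (μ : (QW (Submodule.span F {v})).map κ →* ℂˣ) (ω : Ω),
      (∀ q : (QW (Submodule.span F {v})).map κ, (q : G) • ω = ω → μ q = 1) ∧
      ∀ (φ : Dual F V) (hφ : φ v = 0), ((μ ⟨κ (tv φ v hφ), _, tv_mem_QW hφ, rfl⟩ : ℂˣ) : ℂ) = ψ (φ u') := by
  classical
  obtain ⟨p, hp, hF⟩ : ∃ p : ℕ, p.Prime ∧ CharP F p :=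
    ⟨ringChar F, CharP.char_is_prime F _, inferInstance⟩
  have := Fact.mk hp
  set P := Submodule.span F {v} with hP
  have hvP : v ∈ P := Submodule.mem_span_singleton_self v
  -- a nontrivial element
  obtain ⟨f, hf1, hf2⟩ := Submodule.exists_le_ker_of_notMem hu'
  have hfv : f v = 0 := hf2 hvP
  have h1 : κ (tv f v hfv) ≠ 1 := by
    intro h1
    have h2 := eq_of_fix_vec (s := tv f v hfv) (t := 1) hf (by rw [h1, map_one]) hv
      (by rw [tv_apply, hfv, zero_smul, add_zero]) rfl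
    have h3 := congrArg (fun s : SLV F V => (s : V ≃ₗ[F] V) u') h2
    simp only [tv_apply, coe_one_apply] at h3
    have h4 : f u' • v = 0 := by rwa [add_eq_left] at h3
    rcases smul_eq_zero.1 h4 with h | h
    · exact hf1 h
    · exact hv h
  obtain ⟨ω, hω⟩ := hf.env.exists_move h1
  have hpg : IsPGroup p ((QW P).map κ) := by
    rintro ⟨_, s, hs, rfl⟩
    refine ⟨1, ?_⟩
    apply Subtype.ext
    rw [pow_one, Subgroup.coe_pow, Subgroup.coe_one]
    change (κ s) ^ p = 1
    rw [← map_pow, QW_pow hs, map_one]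
  obtain ⟨μ, hμ1, -, hμω⟩ := exists_occ hpg ⟨_, ⟨_, tv_mem_QW hfv, rfl⟩, hω⟩
  obtain ⟨u, hu, hμu⟩ := exists_vector hv hψ μ hμ1
  obtain ⟨s, hs1, hs2⟩ := exists_sl hn (v := v) (u := u) (u' := u') hu hu'
  have hs1' : ((s⁻¹ : SLV F V) : V ≃ₗ[F] V) v = v := by
    conv_lhs => rw [← hs1]
    rw [coe_inv_apply]
  have hs2' : ((s⁻¹ : SLV F V) : V ≃ₗ[F] V) u' = u := by
    conv_lhs => rw [← hs2]
    rw [coe_inv_apply]
  have e1 : ∀ (φ : Dual F V) (hφ : φ v = 0), s⁻¹ * tv φ v hφ * s = tv (φ ∘ₗ ((s : V ≃ₗ[F] V) : V →ₗ[F] V)) v (by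
      rw [LinearMap.comp_apply, LinearEquiv.coe_coe, hs1, hφ]) := by
    intro φ hφ
    apply SLV.ext
    intro y
    rw [coe_mul_apply, coe_mul_apply, tv_apply, map_add, map_smul, hs1', coe_inv_apply, tv_apply]
    rfl
  have hsQ : ∀ q ∈ (QW P).map κ, (κ s)⁻¹ * q * κ s ∈ (QW P).map κ := by
    rintro _ ⟨t, ht, rfl⟩
    obtain ⟨φ, hφ, rfl⟩ := exists_tv hv ht
    rw [← map_inv, ← map_mul, ← map_mul, e1]
    exact ⟨_, tv_mem_QW _, rfl⟩
  obtain ⟨ω', hω'⟩ := occ_conjC ⟨ω, hμω⟩ (κ s) hsQ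
  refine ⟨conjC _ μ (κ s) hsQ, ω', hω', ?_⟩
  intro φ hφ
  change ((μ ⟨(κ s)⁻¹ * κ (tv φ v hφ) * κ s, _⟩ : ℂˣ) : ℂ) = _
  have hφs : (φ ∘ₗ ((s : V ≃ₗ[F] V) : V →ₗ[F] V)) v = 0 := by
    rw [LinearMap.comp_apply, LinearEquiv.coe_coe, hs1, hφ]
  have e2 : (⟨(κ s)⁻¹ * κ (tv φ v hφ) * κ s, hsQ _ ⟨_, tv_mem_QW hφ, rfl⟩⟩ : (QW P).map κ) =
      ⟨κ (tv (φ ∘ₗ ((s : V ≃ₗ[F] V) : V →ₗ[F] V)) v hφs), _, tv_mem_QW hφs, rfl⟩ := by
    apply Subtype.ext
    change (κ s)⁻¹ * κ (tv φ v hφ) * κ s = κ _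
    rw [← map_inv, ← map_mul, ← map_mul, e1]
  rw [e2, hμu _ hφs, LinearMap.comp_apply, LinearEquiv.coe_coe, hs2]

/-- **Box C.** -/
theorem no_sum [Finite G] [Nonempty Ω] [Finite ι] (h : LinCov Ω N κ x r a) (hn : 3 ≤ finrank F V)
    (W W' : Submodule F V) (hc : IsCompl W W')
    (hW : ∀ i, ∀ w ∈ W, a i w ∈ W) (hW' : ∀ i, ∀ w ∈ W', a i w ∈ W') (hd : 2 ≤ finrank F W) (hd' : W' ≠ ⊥)
    (hsm : finrank F W = 2 → 4 ≤ Nat.card F) (_hns : ∃ i, ¬ ∃ c : F, ∀ w ∈ W, a i w = c • w)
    (hRC : RC (Matrix.ProjectiveSpecialLinearGroup (Fin (finrank F W)) F) ∨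
      ∃ i₀, ∀ i, i ≠ i₀ → ∃ c : F, ∀ w ∈ W, a i w = c • w) : False := by
  classical
  have hrule := mrule_sum h hc hW hW' hd hd' hsm hRC
  set M := (κ.comp (em hc)).range with hM
  -- the members centralising `M`
  let J := {j : ι // ∀ m ∈ M, x j * m = m * x j}
  have hsc : ∀ j : J, ∃ c : F, ∀ w ∈ W, a j.1 w = c • w := fun j => scalar_of_cent h hc hW hW' hd hd' j.2
  choose lam hlam using hsc
  -- vectors of `W`
  obtain ⟨v, hv, hv0⟩ : ∃ v ∈ W, v ≠ 0 := by
    apply Submodule.exists_mem_ne_zero_of_ne_bot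
    rintro rfl
    simp at hd
  have hlam0 : ∀ j, lam j ≠ 0 := by
    intro j h0
    have h1 := hlam j v hv
    rw [h0, zero_smul] at h1
    exact hv0 ((a j.1).map_eq_zero_iff.1 h1)
  obtain ⟨w, hw, hwv⟩ : ∃ w ∈ W, ¬ ∃ c : F, w = c • v := by
    by_contra hno
    push Not at hno
    have h1 : W ≤ Submodule.span F {v} := by
      intro w hw
      obtain ⟨c, hc⟩ := hno w hw
      rw [hc]
      exact Submodule.smul_mem _ _ (Submodule.mem_span_singleton_self v)
    have h2 := Submodule.finrank_mono h1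
    rw [finrank_span_singleton hv0] at h2
    omega
  -- the normalised elements on `W'`
  let β : J → (V ≃ₗ[F] V) := fun j => LinearEquiv.smulOfNeZero F V (lam j)⁻¹ (inv_ne_zero (hlam0 j)) * a j.1
  have hβ : ∀ j y, β j y = (lam j)⁻¹ • a j.1 y := fun _ _ => rfl
  have hβW : ∀ j, ∀ y ∈ W', β j y ∈ W' := fun j y hy => W'.smul_mem _ (hW' _ y hy)
  have hβw : ∀ j, ∀ y ∈ W, β j y = y := fun j y hy => by
    rw [hβ, hlam j y hy, smul_smul, inv_mul_cancel₀ (hlam0 j), one_smul]
  let b : J → (W' ≃+ W') := fun j => (rs (β j) (hβW j)).toAddEquiv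
  have hb : ∀ j (y : W'), (b j y : V) = β j y := fun _ _ => rfl
  have hbit : ∀ j (k : ℕ) (y : W'), (((b j)^[k] y : W') : V) = (β j ^ k) y := by
    intro j k
    induction k with
    | zero => intro y; rfl
    | succ k ih =>
      intro y
      rw [Function.iterate_succ_apply, ih, hb, pow_succ]
      rfl
  have hβpow : ∀ j (k : ℕ) y, (β j ^ k) y = (lam j)⁻¹ ^ k • (a j.1 ^ k) y := by
    intro j k
    induction k with
    | zero => intro y; simp
    | succ k ih =>
      intro y
      rw [pow_succ' (β j)]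
      change β j ((β j ^ k) y) = _
      rw [ih, hβ, map_smul, smul_smul, pow_succ' (a j.1), pow_succ' (lam j)⁻¹]
      rfl
  have h1W : ∀ j (k : ℕ), ∀ y ∈ W, (a j.1 ^ k) y = (lam j) ^ k • y := by
    intro j k
    induction k with
    | zero => intro y _; simp
    | succ k ih =>
      intro y hy
      rw [pow_succ' (a j.1)]
      change a j.1 ((a j.1 ^ k) y) = _
      rw [ih y hy, map_smul, hlam j y hy, smul_smul, pow_succ]
  have hbpow : ∀ j (y : W'), (b j)^[r j.1] y = y := by
    intro j y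
    apply Subtype.ext
    rw [hbit, hβpow]
    obtain ⟨c, hc'⟩ := pow_scalar h (by omega) j.1
    have h2 := h1W j (r j.1) v hv
    rw [hc' v] at h2
    have h3 : c = lam j ^ r j.1 := by
      have h4 : (c - lam j ^ r j.1) • v = 0 := by rw [sub_smul, h2, sub_self]
      rcases smul_eq_zero.1 h4 with h5 | h5
      · exact sub_eq_zero.1 h5
      · exact absurd h5 hv0
    rw [hc', h3, smul_smul, inv_pow, inv_mul_cancel₀ (pow_ne_zero _ (hlam0 j)), one_smul]
  have hbne : ∀ j, ∃ y, b j y ≠ y := by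
    intro j
    by_contra hno
    push Not at hno
    apply h.pf.ne j.1
    have h2 : ∀ y, a j.1 y = lam j • y := by
      intro y
      obtain ⟨u, u', rfl⟩ := decomp hc y
      have h3 := congrArg Subtype.val (hno u')
      rw [hb, hβ] at h3
      rw [map_add, smul_add, hlam j _ u.2]
      congr 1
      conv_rhs => rw [← h3]
      rw [smul_smul, mul_inv_cancel₀ (hlam0 j), one_smul]
    have h3 : x j.1 ∈ Subgroup.centralizer (N : Set G) := by
      rw [Subgroup.mem_centralizer_iff]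
      intro n hn
      rw [← h.fr.range] at hn
      obtain ⟨s, rfl⟩ := hn
      have h4 := h.lift j.1 s
      have h5 : cj (a j.1) s = s := by
        apply cj_eq
        intro y
        rw [h2, h2, map_smul]
      rw [h5, mul_inv_eq_iff_eq_mul] at h4
      exact h4.symm
    rwa [h.fr.env.cent, Subgroup.mem_bot] at h3
  obtain ⟨p, hp, hF⟩ : ∃ p : ℕ, p.Prime ∧ CharP F p :=
    ⟨ringChar F, CharP.char_is_prime F _, inferInstance⟩
  have hfW : Finite W' := Module.finite_of_finite F
  obtain ⟨n, hn'⟩ : ∃ n : ℕ, Nat.card W' = p ^ n := by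
    cases nonempty_fintype F
    obtain ⟨m, -, hm⟩ := FiniteField.card F p
    refine ⟨m * finrank F W', ?_⟩
    rw [Module.natCard_eq_pow_finrank (K := F) (V := W'), Nat.card_eq_fintype_card, hm, pow_mul]
  obtain ⟨w', hw'⟩ := exists_vec hp hn' b (fun j => r j.1) (fun j => h.pf.prime _)
    (fun i j hij => Subtype.ext (h.pf.inj hij)) (by
      intro i j y
      apply Subtype.ext
      rw [hb, hb, hb, hb, hβ, hβ, hβ, hβ, map_smul, map_smul, smul_comm]
      congr 2
      exact congrArg (fun f : V ≃ₗ[F] V => f y) (h.comm i.1 j.1)) hbpow hbne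
  -- the character
  obtain ⟨ψ, hψ⟩ := exists_psi F
  have hψ1 : ¬ ∀ c : F, ψ c = 1 := by
    intro h1
    apply hψ
    ext c
    rw [h1 c]
    rfl
  have hu' : w + (w' : V) ∉ Submodule.span F {v} := by
    intro h1
    obtain ⟨c, hc'⟩ := Submodule.mem_span_singleton.1 h1
    apply hwv
    refine ⟨c, ?_⟩
    have h2 : w - c • v = -(w' : V) := by rw [hc']; abel
    have h3 : w - c • v ∈ W := W.sub_mem hw (W.smul_mem _ hv)
    have h4 : w - c • v ∈ W' := by rw [h2]; exact W'.neg_mem w'.2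
    have h5 := Submodule.disjoint_def.1 hc.disjoint _ h3 h4
    exact sub_eq_zero.1 h5
  obtain ⟨μ, ω, hω, hμ⟩ := occ_vector h.fr hn hv0 hψ hu'
  have hsymv : ∀ j : J, (a j.1).symm v = (lam j)⁻¹ • v := by
    intro j
    rw [LinearEquiv.symm_apply_eq, map_smul, hlam j v hv, smul_smul, inv_mul_cancel₀ (hlam0 j), one_smul]
  have hcjt : ∀ (j : J) (φ : Dual F V) (hφ : φ v = 0), ∃ hφ' : (lam j • (φ ∘ₗ ((a j.1).symm : V →ₗ[F] V))) v = 0,
      x j.1 * κ (tv φ v hφ) * (x j.1)⁻¹ = κ (tv (lam j • (φ ∘ₗ ((a j.1).symm : V →ₗ[F] V))) v hφ') := by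
    intro j φ hφ
    refine ⟨?_, ?_⟩
    · rw [LinearMap.smul_apply, LinearMap.comp_apply, LinearEquiv.coe_coe, hsymv, map_smul, hφ, smul_zero, smul_zero]
    · rw [h.lift, cj_tv]
      congr 1
      apply SLV.ext
      intro y
      rw [tv_apply, tv_apply, hlam j v hv, smul_smul, LinearMap.smul_apply, smul_eq_mul, mul_comm]
  have hpf : PF (fun j : J => x j.1) (fun j : J => r j.1) :=
    ⟨fun j => h.pf.prime _, fun i j hij => Subtype.ext (h.pf.inj hij), fun j => h.pf.pow _, fun j => h.pf.ne _,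
      fun i j => h.pf.comm _ _⟩
  have hQ : ∀ j : J, ∀ q ∈ (QW (Submodule.span F {v})).map κ, x j.1 * q * (x j.1)⁻¹ ∈ (QW (Submodule.span F {v})).map κ := by
    rintro j _ ⟨t, ht, rfl⟩
    obtain ⟨φ, hφ, rfl⟩ := exists_tv hv0 ht
    obtain ⟨hφ', e⟩ := hcjt j φ hφ
    rw [e]
    exact ⟨_, tv_mem_QW _, rfl⟩
  have hmoved : ∀ j : J, ¬ FixC ((QW (Submodule.span F {v})).map κ) μ (x j.1) := by
    intro j hfix
    -- `z = lam a⁻¹ w' - w' ≠ 0`
    set z : V := lam j • (a j.1).symm (w' : V) - w' with hz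
    have hsW : ∀ y ∈ W, (a j.1).symm y ∈ W := by
      intro y hy
      have h2 : (a j.1).symm y = (lam j)⁻¹ • y := by
        rw [LinearEquiv.symm_apply_eq, map_smul, hlam j y hy, smul_smul, inv_mul_cancel₀ (hlam0 j), one_smul]
      rw [h2]
      exact W.smul_mem _ hy
    have hz0 : z ≠ 0 := by
      intro h0
      apply hw' j
      apply Subtype.ext
      rw [hb, hβ]
      have h2 : (w' : V) = lam j • (a j.1).symm (w' : V) := (sub_eq_zero.1 h0).symm
      have h3 := congrArg (a j.1) h2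
      rw [map_smul, LinearEquiv.apply_symm_apply] at h3
      rw [h3, smul_smul, inv_mul_cancel₀ (hlam0 j), one_smul]
    have hzW : z ∉ W := by
      intro hzW
      have hzW' : z ∈ W' := by
        refine W'.sub_mem (W'.smul_mem _ ?_) w'.2
        -- `a⁻¹ w' ∈ W'`
        have h3 : (b j).symm w' ∈ (⊤ : Set W') := trivial
        have h4 : (lam j) • (a j.1).symm (w' : V) = ((b j).symm w' : W') := by
          have h5 := congrArg Subtype.val ((b j).apply_symm_apply w')
          rw [hb, hβ] at h5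
          have h6 : (w' : V) = a j.1 ((lam j)⁻¹ • (((b j).symm w' : W') : V)) := by rw [map_smul]; exact h5.symm
          rw [h6, LinearEquiv.symm_apply_apply, smul_smul, mul_inv_cancel₀ (hlam0 j), one_smul]
        have h7 : (a j.1).symm (w' : V) = (lam j)⁻¹ • (((b j).symm w' : W') : V) := by
          rw [← h4, smul_smul, inv_mul_cancel₀ (hlam0 j), one_smul]
        rw [h7]
        exact W'.smul_mem _ ((b j).symm w').2
      exact hz0 (Submodule.disjoint_def.1 hc.disjoint _ hzW hzW')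
    obtain ⟨f, hf1, hf2⟩ := Submodule.exists_le_ker_of_notMem hzW
    apply hψ1
    intro c
    set φ : Dual F V := (c * (f z)⁻¹) • f with hφdef
    have hφW : ∀ y ∈ W, φ y = 0 := by
      intro y hy
      have : f y = 0 := hf2 hy
      rw [hφdef, LinearMap.smul_apply, this, smul_zero]
    have hφz : φ z = c := by
      rw [hφdef, LinearMap.smul_apply, smul_eq_mul, mul_assoc, inv_mul_cancel₀ hf1, mul_one]
    have hφv : φ v = 0 := hφW v hv
    obtain ⟨hφ', e⟩ := hcjt j φ hφv
    have h2 := hfix ⟨κ (tv φ v hφv), _, tv_mem_QW hφv, rfl⟩ ⟨κ (tv _ v hφ'), _, tv_mem_QW hφ', rfl⟩ e.symm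
    have h3 := congrArg Units.val h2
    rw [hμ, hμ] at h3
    have h4 : ψ ((lam j • (φ ∘ₗ ((a j.1).symm : V →ₗ[F] V))) (w + w') - φ (w + w')) = 1 := by
      rw [AddChar.map_sub_eq_div, h3, div_self]
      exact (ψ.val_isUnit _).ne_zero
    have h5 : (lam j • (φ ∘ₗ ((a j.1).symm : V →ₗ[F] V))) (w + w') - φ (w + w') = c := by
      rw [LinearMap.smul_apply, LinearMap.comp_apply, LinearEquiv.coe_coe, map_add, map_add, map_add,
        hφW _ (hsW w hw), hφW w hw, zero_add, zero_add, ← map_smul, ← map_sub, ← hz, hφz]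
    rwa [h5] at h4
  -- T2
  apply hψ1
  intro c
  obtain ⟨φ0, hφ0', hφ0v, hφ0w⟩ := exists_phi hc hv hw hwv
  set φ : Dual F V := c • φ0 with hφdef
  have hφW' : ∀ y ∈ W', φ y = 0 := fun y hy => by rw [hφdef, LinearMap.smul_apply, hφ0' y hy, smul_zero]
  have hφv : φ v = 0 := by rw [hφdef, LinearMap.smul_apply, hφ0v, smul_zero]
  have hφw : φ w = c := by rw [hφdef, LinearMap.smul_apply, hφ0w, smul_eq_mul, mul_one]
  have hφv' : (φ.domRestrict W) ⟨v, hv⟩ = 0 := hφv
  have hcM : κ (tv φ v hφv) ∈ M := by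
    refine ⟨tv (φ.domRestrict W) ⟨v, hv⟩ hφv', ?_⟩
    change κ (em hc _) = _
    congr 1
    apply SLV.ext
    intro y
    obtain ⟨u, u', rfl⟩ := decomp hc y
    rw [map_add, em_left, em_right hc _ u'.2, tv_apply, tv_apply, map_add, hφW' _ u'.2, add_zero]
    change ((u : V) + φ u • v) + u' = (u : V) + u' + φ u • v
    abel
  have hT := T2 hpf hQ μ ω hω hmoved ⟨κ (tv φ v hφv), _, tv_mem_QW hφv, rfl⟩ (fun j => (j.2 _ hcM).symm) (by
    intro ω' hω'
    rcases hrule ω' with h1 | ⟨j, hj, hjω⟩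
    · exact h1 hcM
    · exact absurd hjω (hω' ⟨j, hj⟩))
  have h1 := congrArg Units.val hT
  rw [hμ, map_add, hφw, hφW' _ w'.2, add_zero] at h1
  exact h1

end main

end Cfsg.Agent.H253.RC.NoSum
end

-- part: H202/RC/NoLin
section
/-!
# Box C for `no_lin_of`
-/

set_option autoImplicit false
set_option linter.unusedSectionVars false
open Cfsg

namespace Cfsg.Agent.H202.RC

open MulAction Cfsg.Agent.H106.RC Module Cfsg.Agent.H253.RC.NoSum

section lin

variable {F V G Ω ι : Type} [Field F] [Finite F] [AddCommGroup V] [Module F V] [Module.Finite F V] [Group G] [Finite G]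
  [Finite Ω] [Nonempty Ω] [MulAction G Ω] [Finite ι] {N : Subgroup G} {κ : SLV F V →* G} {x : ι → G} {r : ι → ℕ}
  {a : ι → V ≃ₗ[F] V}

theorem sumP (h : LinCov Ω N κ x r a) (hn : 3 ≤ finrank F V) (hIH : IH (Nat.card N)) : SumP F a := by
  intro W W' hc hW hW' hd hd' hsm hns hex
  refine no_sum h hn W W' hc hW hW' hd hd' hsm hns ?_
  rcases hex with hex | hex
  · left
    obtain ⟨hS, hSn, -, π, hπ, -⟩ := exists_pi_sum h.fr hc hd hd' hsm
    have hW0 : W ≠ ⊥ := by
      rintro rfl
      rw [finrank_bot] at hd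
      omega
    have : Fintype F := Fintype.ofFinite F
    refine hIH.use (S := N) (MulEquiv.refl N) (MW_le h.fr hc) (MW_ne h.fr hc hW0 hd') π hπ hS hSn ?_ hex
    left
    refine ⟨F, inferInstance, inferInstance, finrank F W, hd, fun h2 => ?_, ⟨MulEquiv.refl _⟩⟩
    rw [← Nat.card_eq_fintype_card]
    exact hsm h2
  · exact Or.inr hex

/-- **The linear theorem**, from box CB. -/
theorem no_lin_of_prime (h : LinCov Ω N κ x r a) (hn : 3 ≤ finrank F V)
    (hne : ¬ (Nat.card F = 2 ∧ finrank F V = 4)) (hIH : IH (Nat.card N)) (hP : PrimeP F a) : False :=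
  no_lin_of h hn hne hIH (sumP h hn hIH) hP

end lin

end Cfsg.Agent.H202.RC
end

-- part: H368/RC/Num
section
/-!
# S3510, box CB: the numerical part of `no_prime`

`q ≥ 2`, `n ≥ 3` prime, `D = 1 + q + ... + q^(n-1)`, `d = q^(n-1) - 1`, distinct primes `r i ∣ D`, at least two of them:
`∑ i, (1 / (d + 1) + √(D m_i) / d) < 1`, `m_i = n` if `r i = n` and `1` otherwise.
-/

set_option autoImplicit false

namespace Cfsg.Agent.H368.RC

open Finset

theorem prime_dvd_sum {q n r : ℕ} (hq : 2 ≤ q) (hn : n.Prime) (h3 : 3 ≤ n) (hr : r.Prime)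
    (hD : r ∣ ∑ k ∈ range n, q ^ k) : (r = n ∧ 4 ≤ q) ∨ 2 * n + 1 ≤ r := by
  have : Fact r.Prime := ⟨hr⟩
  have hz : ((∑ k ∈ range n, q ^ k : ℕ) : ZMod r) = 0 := (ZMod.natCast_eq_zero_iff _ _).2 hD
  push_cast at hz
  have hpow : (q : ZMod r) ^ n = 1 := by
    have h1 := mul_neg_geom_sum (q : ZMod r) n
    rw [hz, mul_zero] at h1
    exact (sub_eq_zero.1 h1.symm).symm
  by_cases h1 : (q : ZMod r) = 1
  · left
    have h2 : r = n := by
      rw [h1] at hz
      simp only [one_pow, sum_const, card_range, nsmul_eq_mul, mul_one] at hz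
      exact (Nat.prime_dvd_prime_iff_eq hr hn).1 ((ZMod.natCast_eq_zero_iff _ _).1 hz)
    refine ⟨h2, ?_⟩
    have h3' : ((q - 1 : ℕ) : ZMod r) = 0 := by
      rw [Nat.cast_sub (by omega), h1]
      simp
    have h4 := (ZMod.natCast_eq_zero_iff _ _).1 h3'
    have h5 := Nat.le_of_dvd (by omega) h4
    omega
  · right
    have h2 : orderOf (q : ZMod r) = n := by
      have : Fact n.Prime := ⟨hn⟩
      exact orderOf_eq_prime hpow h1
    have h0 : (q : ZMod r) ≠ 0 := by
      intro h0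
      rw [h0, zero_pow hn.ne_zero] at hpow
      exact zero_ne_one hpow
    have h4 : n ∣ r - 1 := by
      rw [← h2]
      exact orderOf_dvd_of_pow_eq_one (ZMod.pow_card_sub_one_eq_one h0)
    obtain ⟨t, ht⟩ := h4
    have hr2 := hr.two_le
    have ht0 : t ≠ 0 := by
      rintro rfl
      omega
    have ht1 : t ≠ 1 := by
      rintro rfl
      have h5 : r = n + 1 := by omega
      have hodd : Odd n := hn.odd_of_ne_two (by omega)
      have heven : 2 ∣ r := by
        rw [h5]
        obtain ⟨m, hm⟩ := hodd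
        exact ⟨m + 1, by omega⟩
      have := (Nat.prime_dvd_prime_iff_eq Nat.prime_two hr).1 heven
      omega
    have h6 : n * 2 ≤ n * t := Nat.mul_le_mul_left n (by omega)
    omega

theorem sum_rel {q n : ℕ} (hq : 2 ≤ q) (hn : 1 ≤ n) : ∃ T : ℕ, (∑ k ∈ range n, q ^ k) = 1 + q * T ∧
    q ^ (n - 1) - 1 = (q - 1) * T := by
  refine ⟨∑ k ∈ range (n - 1), q ^ k, ?_, ?_⟩
  · obtain ⟨m, rfl⟩ : ∃ m, n = m + 1 := ⟨n - 1, by omega⟩
    rw [sum_range_succ', pow_zero, add_comm, Nat.add_sub_cancel, mul_sum]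
    congr 1
    exact sum_congr rfl fun k _ => by rw [pow_succ, mul_comm]
  · have h1 := Nat.geomSum_eq hq (n - 1)
    rw [h1, Nat.mul_div_cancel']
    have := Nat.sub_dvd_pow_sub_pow q 1 (n - 1)
    rwa [one_pow] at this

theorem prod_dvd_of {ι : Type*} [Fintype ι] {r : ι → ℕ} (hinj : Function.Injective r) (hr : ∀ i, (r i).Prime) {D : ℕ}
    (hd : ∀ i, r i ∣ D) : ∏ i, r i ∣ D := by
  classical
  have h1 : ∏ i, r i = ∏ p ∈ Finset.univ.image r, p :=
    (Finset.prod_image (f := fun p : ℕ => p) (s := Finset.univ) (g := r) fun i _ j _ h => hinj h).symm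
  rw [h1]
  refine Finset.prod_primes_dvd D ?_ ?_
  · intro a ha
    obtain ⟨i, -, rfl⟩ := Finset.mem_image.1 ha
    exact (hr i).prime
  · intro a ha
    obtain ⟨i, -, rfl⟩ := Finset.mem_image.1 ha
    exact hd i

theorem pow_aux_a {n j : ℕ} (hn : 3 ≤ n) (hj : 1 ≤ j) : 21 * (j ^ 2 + n) ≤ 4 * (n * (2 * n + 1) ^ j) ∧
    8 * (j + 1) ≤ 16 * j + 0 * n := by
  constructor
  · induction j with
    | zero => omega
    | succ j ih =>
      rcases Nat.eq_zero_or_pos j with rfl | hj0
      · simp only [zero_add, pow_one, one_pow]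
        nlinarith
      · have h1 := ih hj0
        have h2 : 4 * (n * (2 * n + 1) ^ (j + 1)) = (2 * n + 1) * (4 * (n * (2 * n + 1) ^ j)) := by ring
        rw [h2]
        have h3 : 7 * (21 * (j ^ 2 + n)) ≤ (2 * n + 1) * (4 * (n * (2 * n + 1) ^ j)) := Nat.mul_le_mul (by omega) h1
        refine le_trans ?_ h3
        nlinarith only [hj0]
  · omega

theorem pow_aux_b {k : ℕ} (hk : 2 ≤ k) : 49 * k ^ 2 ≤ 4 * 7 ^ k := by
  induction k, hk using Nat.le_induction with
  | base => norm_num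
  | succ k hk ih =>
    have h1 : 4 * 7 ^ (k + 1) = 7 * (4 * 7 ^ k) := by ring
    rw [h1]
    nlinarith

theorem pow_aux_c {j : ℕ} (hj : 1 ≤ j) : 14 * j + 7 ≤ 3 * 7 ^ j := by
  induction j, hj using Nat.le_induction with
  | base => norm_num
  | succ j hj ih =>
    rw [pow_succ]
    omega

/-- case with `n` among the primes -/
theorem num_a {n j D d : ℕ} (hn : 3 ≤ n) (hj : 1 ≤ j) (hD : n * (2 * n + 1) ^ j ≤ D) (hd : 3 * (D - 1) ≤ 4 * d) :
    ((j : ℝ) + 1) / ((d : ℝ) + 1) + (j * √(D : ℝ) + √((D * n : ℕ) : ℝ)) / d < 1 := by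
  have h1 := (pow_aux_a hn hj).1
  have h2 : 21 * (j ^ 2 + n) ≤ 4 * D := h1.trans (Nat.mul_le_mul_left 4 hD)
  have h3 : 3 * 7 ^ j ≤ D := le_trans (Nat.mul_le_mul hn (Nat.pow_le_pow_left (by omega) j)) hD
  have h4 := pow_aux_c hj
  have hD21 : 21 ≤ D := by omega
  have hD' : (21 : ℝ) ≤ D := by exact_mod_cast hD21
  have h2' : 21 * ((j : ℝ) ^ 2 + n) ≤ 4 * D := by exact_mod_cast h2
  have hd' : 3 * ((D : ℝ) - 1) ≤ 4 * d := by
    have h5 : 3 * D ≤ 4 * d + 3 := by omega
    have h6 : 3 * (D : ℝ) ≤ 4 * d + 3 := by exact_mod_cast h5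
    linarith only [h6]
  have hdpos : (0 : ℝ) < d := by linarith only [hD', hd']
  have hj8 : 8 * ((j : ℝ) + 1) ≤ (d : ℝ) + 1 := by
    have h5 : 8 * (j + 1) ≤ d + 1 := by (clear * - hd h3 h4 hD21; omega)
    exact_mod_cast h5
  -- the square roots
  have hS : j * √(D : ℝ) + √((D * n : ℕ) : ℝ) ≤ 0.618 * D := by
    apply le_of_sq_le_sq ?_ (by positivity) |>.trans le_rfl
    have e1 : √(D : ℝ) ^ 2 = D := Real.sq_sqrt (by positivity)
    have e2 : √((D * n : ℕ) : ℝ) ^ 2 = D * n := by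
      rw [Real.sq_sqrt (by positivity)]
      push_cast
      ring
    have e3 : (j * √(D : ℝ) + √((D * n : ℕ) : ℝ)) ^ 2 ≤ 2 * ((j : ℝ) ^ 2 * D + D * n) := by
      nlinarith only [e1, e2, sq_nonneg (j * √(D : ℝ) - √((D * n : ℕ) : ℝ))]
    refine e3.trans ?_
    nlinarith only [h2']
  have h5 : (j * √(D : ℝ) + √((D * n : ℕ) : ℝ)) / d ≤ 0.8652 := by
    rw [div_le_iff₀ hdpos]
    linarith only [hD', hd', hS]
  have h6 : ((j : ℝ) + 1) / ((d : ℝ) + 1) ≤ 1 / 8 := by
    rw [div_le_iff₀ (by positivity)]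
    linarith only [hj8]
  norm_num only [_root_.Nat.cast_mul, _root_.Nat.cast_nonneg, _root_.Real.sqrt_mul, _root_.gt_iff_lt] at h5 h6 ⊢
  linarith only [h5, h6]

/-- case without `n` -/
theorem num_b {k D d : ℕ} (hk : 2 ≤ k) (hD : 7 ^ k ≤ D) (hd : D - 1 ≤ 2 * d) :
    (k : ℝ) / ((d : ℝ) + 1) + k * √(D : ℝ) / d < 1 := by
  have h1 := pow_aux_b hk
  have h2 : 49 * k ^ 2 ≤ 4 * D := h1.trans (Nat.mul_le_mul_left 4 hD)
  have hD49 : 49 ≤ D := le_trans (by
    calc 49 = 7 ^ 2 := by norm_num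
      _ ≤ 7 ^ k := Nat.pow_le_pow_right (by norm_num) hk) hD
  have hD' : (49 : ℝ) ≤ D := by exact_mod_cast hD49
  have h2' : 49 * (k : ℝ) ^ 2 ≤ 4 * D := by exact_mod_cast h2
  have hd' : (D : ℝ) - 1 ≤ 2 * d := by
    have h5 : D ≤ 2 * d + 1 := by omega
    have h6 : (D : ℝ) ≤ 2 * d + 1 := by exact_mod_cast h5
    linarith only [h6]
  have hdpos : (0 : ℝ) < d := by linarith only [hD', hd']
  have hk0 : (2 : ℝ) ≤ k := by exact_mod_cast hk
  have hS : k * √(D : ℝ) ≤ 2 / 7 * D := by
    apply le_of_sq_le_sq ?_ (by positivity) |>.trans le_rfl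
    rw [mul_pow, Real.sq_sqrt (by positivity)]
    nlinarith only [h2']
  have h5 : k * √(D : ℝ) / d ≤ 0.584 := by
    rw [div_le_iff₀ hdpos]
    linarith only [hD', hd', hS]
  have h6 : (k : ℝ) / ((d : ℝ) + 1) ≤ 0.2 := by
    rw [div_le_iff₀ (by positivity)]
    nlinarith only [h2', hd', hk0]
  norm_num only [_root_.gt_iff_lt] at h5 h6 ⊢
  linarith only [h5, h6]

theorem num_sum {ι : Type*} [Fintype ι] [DecidableEq ι] {q n D d : ℕ} {r : ι → ℕ} (hinj : Function.Injective r) (hq : 2 ≤ q)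
    (hn : n.Prime) (h3 : 3 ≤ n) (hD : D = ∑ k ∈ range n, q ^ k) (hd : d = q ^ (n - 1) - 1) (hr : ∀ i, (r i).Prime)
    (hdv : ∀ i, r i ∣ D) (h2 : 2 ≤ Fintype.card ι) :
    ∑ i, (1 / ((d : ℝ) + 1) + √((D * (if r i = n then n else 1) : ℕ) : ℝ) / d) < 1 := by
  obtain ⟨T, hT1, hT2⟩ := sum_rel hq (by omega : 1 ≤ n)
  rw [← hD] at hT1
  rw [← hd] at hT2
  have hprod := Nat.le_of_dvd (by omega : 0 < D) (prod_dvd_of hinj hr hdv)
  rw [sum_add_distrib, sum_const, card_univ, nsmul_eq_mul, ← sum_div]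
  by_cases hex : ∃ i0, r i0 = n
  · obtain ⟨i0, hi0⟩ := hex
    have hq4 : 4 ≤ q := by
      rcases prime_dvd_sum hq hn h3 (hr i0) (hD ▸ hdv i0) with h | h
      · exact h.2
      · omega
    have hother : ∀ i ∈ univ.erase i0, 2 * n + 1 ≤ r i := by
      intro i hi
      rcases prime_dvd_sum hq hn h3 (hr i) (hD ▸ hdv i) with h | h
      · exact absurd (hinj (h.1.trans hi0.symm)) (ne_of_mem_erase hi)
      · exact h
    have hne : ∀ i ∈ univ.erase i0, r i ≠ n := by
      intro i hi
      have := hother i hi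
      omega
    set j := Fintype.card ι - 1 with hj
    have hcard : (univ.erase i0).card = j := by rw [card_erase_of_mem (mem_univ _), card_univ]
    have hDj : n * (2 * n + 1) ^ j ≤ D := by
      refine le_trans ?_ hprod
      rw [← mul_prod_erase univ r (mem_univ i0), hi0]
      refine Nat.mul_le_mul_left n ?_
      rw [← hcard, ← prod_const]
      exact prod_le_prod' hother
    have hdD : 3 * (D - 1) ≤ 4 * d := by
      rw [hT1, hT2]
      obtain ⟨p, rfl⟩ : ∃ p, q = p + 1 := ⟨q - 1, by omega⟩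
      simp only [Nat.add_sub_cancel_left, Nat.add_sub_cancel]
      nlinarith only [hq4]
    have key := num_a h3 (by omega : 1 ≤ j) hDj hdD
    have e1 : (Fintype.card ι : ℝ) = j + 1 := by
      rw [hj, Nat.cast_sub (by omega)]
      push_cast
      ring
    have e2 : ∑ i, √((D * (if r i = n then n else 1) : ℕ) : ℝ) = j * √(D : ℝ) + √((D * n : ℕ) : ℝ) := by
      rw [← add_sum_erase univ _ (mem_univ i0), if_pos hi0, add_comm]
      congr 1
      rw [sum_congr rfl (g := fun _ => √(D : ℝ)) (fun i hi => by rw [if_neg (hne i hi), mul_one]), sum_const, hcard,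
        nsmul_eq_mul]
    rw [e1, e2, mul_one_div]
    exact key
  · push Not at hex
    have hall : ∀ i, 7 ≤ r i := by
      intro i
      rcases prime_dvd_sum hq hn h3 (hr i) (hD ▸ hdv i) with h | h
      · exact absurd h.1 (hex i)
      · omega
    have hDk : 7 ^ Fintype.card ι ≤ D := by
      refine le_trans ?_ hprod
      rw [← card_univ, ← prod_const]
      exact prod_le_prod' fun i _ => hall i
    have hdD : D - 1 ≤ 2 * d := by
      rw [hT1, hT2]
      obtain ⟨p, rfl⟩ : ∃ p, q = p + 1 := ⟨q - 1, by omega⟩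
      simp only [Nat.add_sub_cancel_left, Nat.add_sub_cancel]
      nlinarith only [hq]
    have key := num_b h2 hDk hdD
    have e2 : ∑ i, √((D * (if r i = n then n else 1) : ℕ) : ℝ) = Fintype.card ι * √(D : ℝ) := by
      rw [sum_congr rfl (g := fun _ => √(D : ℝ)) (fun i _ => by rw [if_neg (hex i), mul_one]), sum_const, card_univ,
        nsmul_eq_mul]
    rw [e2, mul_one_div]
    exact key

end Cfsg.Agent.H368.RC
end

-- part: H368/RC/NoPrime
section
/-!
# S3510, row A, box CB: `no_prime` (helper368)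

No cover of `PSL_n(q)`-sets, `n ≥ 3` prime, by linear elements which are all irreducible: character bound.
-/

set_option autoImplicit false
open Cfsg

namespace Cfsg.Agent.H368.RC

open MulAction Cfsg.Agent.H106.RC Cfsg.Agent.H202.RC Module Cfsg.Agent.H514.DP Cfsg.Agent.H338.RC

section lin

variable {F V G Ω : Type} [Field F] [AddCommGroup V] [Module F V] [Group G] [MulAction G Ω] {N : Subgroup G}
  {κ : SLV F V →* G}

/-- the elements of `G` induced by linear maps -/
def linG (κ : SLV F V →* G) : Subgroup G where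
  carrier := {y | ∃ b : V ≃ₗ[F] V, ∀ s : SLV F V, y * κ s * y⁻¹ = κ (cj b s)}
  one_mem' := ⟨1, fun s => by simp⟩
  mul_mem' := by
    rintro y z ⟨b, hb⟩ ⟨c, hc⟩
    refine ⟨b * c, fun s => ?_⟩
    rw [cj_mul, ← hb, ← hc]
    group
  inv_mem' := by
    rintro y ⟨b, hb⟩
    refine ⟨b⁻¹, fun s => ?_⟩
    have h1 := hb (cj b⁻¹ s)
    rw [← cj_mul, mul_inv_cancel, cj_one] at h1
    rw [← h1]
    group

theorem mem_linG {y : G} : y ∈ linG κ ↔ ∃ b : V ≃ₗ[F] V, ∀ s : SLV F V, y * κ s * y⁻¹ = κ (cj b s) := Iff.rfl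

theorem le_linG (fr : Frame Ω N κ) : N ≤ linG κ := by
  intro y hy
  rw [← fr.range] at hy
  obtain ⟨t, rfl⟩ := hy
  exact ⟨t, fun s => by rw [cj_sl, map_mul, map_mul, map_inv]⟩

/-- two linear lifts differ by a scalar -/
theorem lift_unique (fr : Frame Ω N κ) (hn : 2 ≤ finrank F V) {y : G} {b b' : V ≃ₗ[F] V}
    (hb : ∀ s : SLV F V, y * κ s * y⁻¹ = κ (cj b s)) (hb' : ∀ s : SLV F V, y * κ s * y⁻¹ = κ (cj b' s)) :
    ∃ c : F, ∀ v, b v = c • b' v := by
  obtain ⟨c, hc⟩ := scalar_of_comm (L := F) fr hn (y := 1) (f := b'⁻¹ * b) (by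
    intro s
    have h1 := hb' (cj (b'⁻¹ * b) s)
    rw [← cj_mul, ← mul_assoc, mul_inv_cancel, one_mul, ← hb s] at h1
    have h2 : y * κ (cj (b'⁻¹ * b) s) = y * κ s := mul_right_cancel h1
    rw [mul_left_cancel h2]
    group) (fun c v => map_smul _ c v) (fun m _ => by simp)
  refine ⟨c, fun v => ?_⟩
  have h1 := congrArg b' (hc v)
  rw [map_smul] at h1
  have h2 : b' ((b'⁻¹ * b) v) = b v := b'.apply_symm_apply (b v)
  rw [← h2, h1]

/-- the lift determines the element -/
theorem eq_of_lift (fr : Frame Ω N κ) {y z : G} {b : V ≃ₗ[F] V}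
    (hy : ∀ s : SLV F V, y * κ s * y⁻¹ = κ (cj b s)) (hz : ∀ s : SLV F V, z * κ s * z⁻¹ = κ (cj b s)) : y = z := by
  have h1 : z⁻¹ * y ∈ Subgroup.centralizer (N : Set G) := by
    rw [Subgroup.mem_centralizer_iff]
    intro m hm
    rw [SetLike.mem_coe, ← fr.range] at hm
    obtain ⟨s, rfl⟩ := hm
    have h2 : y * κ s * y⁻¹ = z * κ s * z⁻¹ := by rw [hy, hz]
    calc κ s * (z⁻¹ * y) = z⁻¹ * (z * κ s * z⁻¹) * y := by group
      _ = z⁻¹ * (y * κ s * y⁻¹) * y := by rw [h2]
      _ = z⁻¹ * y * κ s := by group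
  rw [fr.env.cent, Subgroup.mem_bot] at h1
  exact (inv_mul_eq_one.1 h1).symm

/-- scalars as linear equivalences -/
noncomputable def sc (F V : Type) [Field F] [AddCommGroup V] [Module F V] (c : {c : F // c ≠ 0}) : V ≃ₗ[F] V :=
  LinearEquiv.smulOfNeZero F V c.1 c.2

/-- centralisers in `linG κ` -/
theorem card_cent_mul [Finite F] [Finite V] (fr : Frame Ω N κ) (hn : 2 ≤ finrank F V) {x : G} {a : V ≃ₗ[F] V}
    (ha : ∀ s : SLV F V, x * κ s * x⁻¹ = κ (cj a s)) :
    Nat.card {y : linG κ // (y : G) * x = x * y} * (Nat.card F - 1) ≤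
      Nat.card {b : V ≃ₗ[F] V // ∃ c : F, ∀ v, b (a v) = c • a (b v)} := by
  classical
  have hc : Nat.card {c : F // c ≠ 0} = Nat.card F - 1 := by
    have : Fintype F := Fintype.ofFinite F
    rw [Nat.card_eq_fintype_card, Nat.card_eq_fintype_card, Fintype.card_subtype_compl, Fintype.card_subtype_eq]
  rw [← hc, ← Nat.card_prod]
  have hfin : Finite (V ≃ₗ[F] V) := Finite.of_injective (fun b => (b : V → V)) fun b b' h => LinearEquiv.ext (congrFun h)
  obtain ⟨v₀, hv₀⟩ : ∃ v : V, v ≠ 0 := by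
    by_contra hcon
    push Not at hcon
    have : Subsingleton V := ⟨fun a b => by rw [hcon a, hcon b]⟩
    rw [finrank_zero_of_subsingleton] at hn
    omega
  choose b hb using fun y : linG κ => mem_linG.1 y.2
  have key : ∀ y : {y : linG κ // (y : G) * x = x * y}, ∃ c : F, ∀ v, b y.1 (a v) = c • a (b y.1 v) := by
    intro y
    refine lift_unique (b := b y.1 * a) (b' := a * b y.1) fr hn (y := (y.1 : G) * x) ?_ ?_
    · intro s
      rw [cj_mul, ← hb, ← ha]
      group
    · intro s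
      rw [cj_mul, ← ha, ← hb, y.2]
      group
  refine Nat.card_le_card_of_injective (fun p => ⟨sc F V p.2 * b p.1.1, ?_⟩) ?_
  · obtain ⟨c, hc⟩ := key p.1
    refine ⟨c, fun v => ?_⟩
    change p.2.1 • b p.1.1 (a v) = c • a (p.2.1 • b p.1.1 v)
    rw [hc, map_smul, smul_comm]
  · rintro ⟨y, c⟩ ⟨y', c'⟩ h
    have h1 : ∀ v, c.1 • b y.1 v = c'.1 • b y'.1 v := fun v =>
      congrArg (fun f : {b : V ≃ₗ[F] V // ∃ c : F, ∀ v, b (a v) = c • a (b v)} => f.1 v) h
    have hcj : ∀ (c : {c : F // c ≠ 0}) (y : linG κ) (s : SLV F V), (y : G) * κ s * (y : G)⁻¹ = κ (cj (sc F V c * b y) s) := by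
      intro c y s
      rw [hb]
      congr 1
      symm
      apply cj_eq
      intro v
      change (cj (b y) s : V ≃ₗ[F] V) (c.1 • b y v) = c.1 • b y ((s : V ≃ₗ[F] V) v)
      rw [map_smul, cj_apply]
    have h2 : sc F V c * b y.1 = sc F V c' * b y'.1 := LinearEquiv.ext h1
    have h3 : (y.1 : G) = y'.1 := eq_of_lift fr (hcj c y.1) (by rw [h2]; exact hcj c' y'.1)
    have h4 : y = y' := Subtype.ext (Subtype.ext h3)
    subst h4
    have h5 : c = c' := by
      apply Subtype.ext
      have h6 := h1 v₀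
      have h7 : b y.1 v₀ ≠ 0 := fun h0 => hv₀ ((b y.1).map_eq_zero_iff.1 h0)
      rw [← sub_eq_zero, ← sub_smul, smul_eq_zero] at h6
      rcases h6 with h6 | h6
      · exact sub_eq_zero.1 h6
      · exact (h7 h6).elim
    rw [h5]

/-- semicommuting maps of an irreducible map -/
theorem card_semi [Finite F] [Finite V] {a : V ≃ₗ[F] V}
    (hirr : ∀ W : Submodule F V, (∀ w ∈ W, a w ∈ W) → W = ⊥ ∨ W = ⊤) {n r : ℕ} (hn : finrank F V = n) (hn2 : 2 ≤ n)
    (hnp : n.Prime) (hr : r.Prime) {μ : F} (hμ : ∀ v, (a ^ r) v = μ • v) :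
    Nat.card {b : V ≃ₗ[F] V // ∃ c : F, ∀ v, b (a v) = c • a (b v)} ≤
      (Nat.card F ^ n - 1) * (if r = n then n else 1) := by
  classical
  have hfin : Finite (V ≃ₗ[F] V) := Finite.of_injective (fun b => (b : V → V)) fun b b' h => LinearEquiv.ext (congrFun h)
  have hfd : FiniteDimensional F V := Module.finite_of_finrank_pos (by omega)
  obtain ⟨v₀, hv₀⟩ : ∃ v : V, v ≠ 0 := by
    by_contra hcon
    push Not at hcon
    have : Subsingleton V := ⟨fun a b => by rw [hcon a, hcon b]⟩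
    rw [finrank_zero_of_subsingleton] at hn
    omega
  set m := if r = n then n else 1 with hm
  have hm0 : 0 < m := by
    rw [hm]
    split_ifs <;> omega
  have hV : Nat.card {v : V // v ≠ 0} = Nat.card F ^ n - 1 := by
    have : Fintype V := Fintype.ofFinite V
    rw [← hn, ← Module.natCard_eq_pow_finrank (K := F) (V := V), Nat.card_eq_fintype_card, Nat.card_eq_fintype_card,
      Fintype.card_subtype_compl, Fintype.card_subtype_eq]
  have hC : Nat.card {c : F // c ^ m = 1} ≤ m := by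
    have : Fintype F := Fintype.ofFinite F
    rw [Nat.card_eq_fintype_card, Fintype.card_subtype]
    refine le_trans (Finset.card_le_card (t := (Polynomial.nthRoots m (1 : F)).toFinset) ?_)
      ((Multiset.toFinset_card_le _).trans (Polynomial.card_nthRoots m 1))
    intro c hc
    rw [Multiset.mem_toFinset, Polynomial.mem_nthRoots hm0]
    exact (Finset.mem_filter.1 hc).2
  have hdet : ∀ (b : V ≃ₗ[F] V) (c : F), (∀ v, b (a v) = c • a (b v)) → c ^ n = 1 := by
    intro b c h
    have h1 : (b : V →ₗ[F] V) ∘ₗ (a : V →ₗ[F] V) = c • ((a : V →ₗ[F] V) ∘ₗ (b : V →ₗ[F] V)) := LinearMap.ext h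
    have h2 := congrArg LinearMap.det h1
    rw [LinearMap.det_smul, hn, LinearMap.det_comp, LinearMap.det_comp] at h2
    have ha0 : LinearMap.det (a : V →ₗ[F] V) ≠ 0 := (LinearEquiv.isUnit_det' a).ne_zero
    have hb0 : LinearMap.det (b : V →ₗ[F] V) ≠ 0 := (LinearEquiv.isUnit_det' b).ne_zero
    have h3 : (c ^ n - 1) * (LinearMap.det (a : V →ₗ[F] V) * LinearMap.det (b : V →ₗ[F] V)) = 0 := by
      rw [sub_mul, ← h2]
      ring
    rcases mul_eq_zero.1 h3 with h4 | h4
    · exact sub_eq_zero.1 h4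
    · exact (mul_ne_zero ha0 hb0 h4).elim
  have hpw : ∀ (b : V ≃ₗ[F] V) (c : F), (∀ v, b (a v) = c • a (b v)) → c ^ r = 1 := by
    intro b c h
    have h1 : ∀ (k : ℕ) v, b ((a ^ k) v) = c ^ k • (a ^ k) (b v) := by
      intro k
      induction k with
      | zero => intro v; simp
      | succ k ih =>
        intro v
        have e1 : (a ^ (k + 1)) v = a ((a ^ k) v) := by rw [pow_succ']; rfl
        have e2 : (a ^ (k + 1)) (b v) = a ((a ^ k) (b v)) := by rw [pow_succ']; rfl
        rw [e1, e2, h, ih, map_smul, smul_smul, pow_succ']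
    have h2 := h1 r v₀
    rw [hμ, hμ, map_smul, smul_smul] at h2
    have hbv : b v₀ ≠ 0 := fun h0 => hv₀ (b.map_eq_zero_iff.1 h0)
    have hμ0 : μ ≠ 0 := by
      rintro rfl
      have h3 := hμ v₀
      rw [zero_smul] at h3
      exact hv₀ ((a ^ r).map_eq_zero_iff.1 h3)
    rw [← sub_eq_zero, ← sub_smul, smul_eq_zero] at h2
    rcases h2 with h2 | h2
    · have h4 : (c ^ r - 1) * μ = 0 := by
        rw [sub_mul, one_mul, ← neg_eq_zero]
        rw [← h2]
        ring
      rcases mul_eq_zero.1 h4 with h5 | h5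
      · exact sub_eq_zero.1 h5
      · exact (hμ0 h5).elim
    · exact (hbv h2).elim
  have hcm : ∀ (b : V ≃ₗ[F] V) (c : F), (∀ v, b (a v) = c • a (b v)) → c ^ m = 1 := by
    intro b c h
    rw [hm]
    split_ifs with hrn
    · exact hdet b c h
    · rw [pow_one]
      have hcop : Nat.Coprime r n := (Nat.coprime_primes hr hnp).2 hrn
      have h1 : orderOf c ∣ 1 := by
        rw [← hcop]
        exact Nat.dvd_gcd (orderOf_dvd_of_pow_eq_one (hpw b c h)) (orderOf_dvd_of_pow_eq_one (hdet b c h))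
      exact orderOf_eq_one_iff.1 (Nat.dvd_one.1 h1)
  choose c hc using fun b : {b : V ≃ₗ[F] V // ∃ c : F, ∀ v, b (a v) = c • a (b v)} => b.2
  have hinj : Function.Injective (fun b : {b : V ≃ₗ[F] V // ∃ c : F, ∀ v, b (a v) = c • a (b v)} =>
      ((⟨b.1 v₀, fun h0 => hv₀ (b.1.map_eq_zero_iff.1 h0)⟩ : {v : V // v ≠ 0}),
        (⟨c b, hcm b.1 (c b) (hc b)⟩ : {c : F // c ^ m = 1}))) := by
    intro b b' h
    have h1 : b.1 v₀ = b'.1 v₀ := congrArg (fun p => p.1.1) h
    have h2 : c b = c b' := congrArg (fun p => p.2.1) h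
    let W : Submodule F V := LinearMap.eqLocus (b.1 : V →ₗ[F] V) (b'.1 : V →ₗ[F] V)
    have hW : W = ⊥ ∨ W = ⊤ := by
      apply hirr
      intro w hw
      have h3 : b.1 w = b'.1 w := hw
      change b.1 (a w) = b'.1 (a w)
      rw [hc, hc, h2, h3]
    rcases hW with hW | hW
    · exfalso
      have h3 : v₀ ∈ W := h1
      rw [hW] at h3
      exact hv₀ h3
    · apply Subtype.ext
      apply LinearEquiv.ext
      intro v
      have h3 : v ∈ W := by
        rw [hW]
        trivial
      exact h3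
  have h1 := Nat.card_le_card_of_injective _ hinj
  rw [Nat.card_prod, hV] at h1
  exact h1.trans (Nat.mul_le_mul_left _ hC)

end lin

/-- the order of a non-`F`-element of prime order modulo `F` -/
theorem dvd_sum {F E : Type} [Field F] [Field E] [Algebra F E] [Finite E] {n r : ℕ} (hn : finrank F E = n)
    (hr : r.Prime) {e : E} (he : e ≠ 0) {μ : F} (h1 : e ^ r = algebraMap F E μ) (h2 : ∀ c : F, algebraMap F E c ≠ e) :
    r ∣ ∑ k ∈ Finset.range n, Nat.card F ^ k := by
  have hF : Finite F := Finite.of_injective _ (algebraMap F E).injective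
  have : Fintype E := Fintype.ofFinite E
  have hfin : FiniteDimensional F E := Module.Finite.of_finite
  have hq2 : 2 ≤ Nat.card F := Finite.one_lt_card
  by_contra hcon
  set D := ∑ k ∈ Finset.range n, Nat.card F ^ k with hD
  obtain ⟨K, hK1, -, hK3⟩ := exists_sub (F := F) (E := E) (d := 1) (m := n) one_pos (by rw [hn, one_mul])
  have hKbot : K = ⊥ := IntermediateField.finrank_eq_one_iff.1 hK1
  have hcardE : Fintype.card E = Nat.card F ^ n := by
    rw [← Nat.card_eq_fintype_card, Module.natCard_eq_pow_finrank (K := F) (V := E), hn]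
  have hDq : D * (Nat.card F - 1) = Nat.card F ^ n - 1 := by
    rw [hD, Nat.geomSum_eq hq2, Nat.div_mul_cancel]
    have := Nat.sub_dvd_pow_sub_pow (Nat.card F) 1 n
    rwa [one_pow] at this
  have hmem : ∀ b : E, b ^ Nat.card F = b → ∃ c : F, algebraMap F E c = b := by
    intro b hb
    have h3 : b ∈ K := (hK3 b).2 (by rw [pow_one]; exact hb)
    rw [hKbot, IntermediateField.mem_bot] at h3
    obtain ⟨c, hc⟩ := h3
    exact ⟨c, hc⟩
  have h3 : ∃ c : F, algebraMap F E c = e ^ D := by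
    apply hmem
    have h4 : e ^ (D * (Nat.card F - 1)) = 1 := by
      rw [hDq, ← hcardE]
      exact FiniteField.pow_card_sub_one_eq_one e he
    have h5 : Nat.card F = (Nat.card F - 1) + 1 := by omega
    rw [← pow_mul]
    calc e ^ (D * Nat.card F) = e ^ (D * (Nat.card F - 1) + D) := by
          congr 1
          conv_lhs => rw [h5]
          ring
      _ = e ^ D := by rw [pow_add, h4, one_mul]
  obtain ⟨c, hc⟩ := h3
  have hcop : Nat.Coprime r D := (Nat.Prime.coprime_iff_not_dvd hr).2 hcon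
  have h6 := Nat.gcd_eq_gcd_ab r D
  rw [hcop.gcd_eq_one] at h6
  have h7 : e = algebraMap F E (μ ^ r.gcdA D * c ^ r.gcdB D) := by
    have h8 : e ^ ((1 : ℕ) : ℤ) = e ^ ((r : ℤ) * r.gcdA D + (D : ℤ) * r.gcdB D) := by rw [h6]
    rw [zpow_natCast, pow_one, zpow_add₀ he, zpow_mul, zpow_mul, zpow_natCast, zpow_natCast, h1, ← hc] at h8
    rw [map_mul, map_zpow₀, map_zpow₀]
    exact h8
  exact h2 _ h7.symm

section main

variable {F V G Ω ι : Type} [Field F] [Finite F] [AddCommGroup V] [Module F V] [Module.Finite F V] [Group G] [Finite G]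
  [Finite Ω] [Nonempty Ω] [MulAction G Ω] [Finite ι] {N : Subgroup G} {κ : SLV F V →* G} {x : ι → G} {r : ι → ℕ}
  {a : ι → V ≃ₗ[F] V}

/-- box CB (prime degree) -/
theorem no_prime (h : LinCov Ω N κ x r a) (hp : (finrank F V).Prime) (h3 : 3 ≤ finrank F V)
    (hirr : ∀ i, ∀ W : Submodule F V, (∀ w ∈ W, a i w ∈ W) → W = ⊥ ∨ W = ⊤) : False := by
  classical
  have : Fintype ι := Fintype.ofFinite ι
  have hV : Finite V := Module.finite_of_finite F
  set n := finrank F V with hn
  set q := Nat.card F with hq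
  have hq2 : 2 ≤ q := Finite.one_lt_card
  obtain ⟨v₀, hv₀⟩ : ∃ v : V, v ≠ 0 := by
    by_contra hcon
    push Not at hcon
    have : Subsingleton V := ⟨fun a b => by rw [hcon a, hcon b]⟩
    rw [finrank_zero_of_subsingleton] at hn
    omega
  -- at least two members
  have hne : Nonempty ι := by
    obtain ⟨ω⟩ := (inferInstance : Nonempty Ω)
    obtain ⟨i, -⟩ := h.cov ω
    exact ⟨i⟩
  have h2 : 2 ≤ Fintype.card ι := by
    obtain ⟨i⟩ := hne
    obtain ⟨j, hj⟩ := h.cov.two h.fr.env h.pf.ne i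
    exact Fintype.one_lt_card_iff.2 ⟨j, i, hj⟩
  -- the field
  have hirr' : ∀ W : Submodule F V, (∀ i, ∀ w ∈ W, a i w ∈ W) → W = ⊥ ∨ W = ⊤ := by
    intro W hW
    obtain ⟨i⟩ := hne
    exact hirr i W (hW i)
  obtain ⟨E, _, _, _, _, _, e, hE, he⟩ := exists_field h.comm hv₀ hirr'
  have hnE : finrank F E = n := by
    have hFE : FiniteDimensional F E := Module.Finite.of_finite
    rw [hn, ← Module.finrank_mul_finrank F E V, hE, mul_one]
  set D := ∑ k ∈ Finset.range n, q ^ k with hD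
  have hμ : ∀ i, ∃ μ : F, ∀ v, (a i ^ r i) v = μ • v := fun i => pow_scalar h (by omega) i
  have hpow : ∀ (i : ι) (k : ℕ) (v : V), (a i ^ k) v = e i ^ k • v := by
    intro i k
    induction k with
    | zero => intro v; simp
    | succ k ih =>
      intro v
      have e1 : (a i ^ (k + 1)) v = a i ((a i ^ k) v) := by rw [pow_succ']; rfl
      rw [e1, ih, he, smul_smul, pow_succ']
  have hdv : ∀ i, r i ∣ D := by
    intro i
    obtain ⟨μ, hμ⟩ := hμ i
    refine dvd_sum hnE (h.pf.prime i) (e := e i) (μ := μ) ?_ ?_ ?_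
    · intro h0
      have h1 := he i v₀
      rw [h0, zero_smul] at h1
      exact hv₀ ((a i).map_eq_zero_iff.1 h1)
    · have h1 := hμ v₀
      rw [hpow, ← algebraMap_smul E μ, ← sub_eq_zero, ← sub_smul, smul_eq_zero] at h1
      rcases h1 with h1 | h1
      · exact sub_eq_zero.1 h1
      · exact (hv₀ h1).elim
    · intro c hc
      rcases hirr i (Submodule.span F {v₀}) (by
        intro w hw
        rw [he, ← hc, algebraMap_smul]
        exact Submodule.smul_mem _ _ hw) with h1 | h1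
      · have h4 : v₀ ∈ Submodule.span F {v₀} := Submodule.mem_span_singleton_self v₀
        rw [h1] at h4
        exact hv₀ h4
      · have h4 := finrank_span_singleton (K := F) hv₀
        rw [h1, finrank_top] at h4
        omega
  -- minimal degree
  have hd : MinDeg N (q ^ (n - 1) - 1) := by
    let b : Basis (Fin n) F V := Module.finBasis F V
    have h4 : MinDeg (Matrix.SpecialLinearGroup (Fin n) F) (q ^ (n - 1) - 1) := minDeg_SL h3
    have hr : κ.range = N := h.fr.range
    have h5 : MinDeg κ.range (q ^ (n - 1) - 1) :=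
      minDeg_surj h4 (κ.rangeRestrict.comp (slE b).toMonoidHom)
        (κ.rangeRestrict_surjective.comp (slE b).surjective)
    rw [hr] at h5
    exact h5
  have hd0 : 0 < q ^ (n - 1) - 1 := by
    have h4 : 2 ^ 1 ≤ q ^ (n - 1) := (Nat.pow_le_pow_left hq2 1).trans (Nat.pow_le_pow_right (by omega) (by omega))
    omega
  have hDq : D * (q - 1) = q ^ n - 1 := by
    rw [hD, Nat.geomSum_eq hq2, Nat.div_mul_cancel]
    have := Nat.sub_dvd_pow_sub_pow q 1 n
    rwa [one_pow] at this
  -- centralisers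
  have hc : ∀ i, Nat.card {y : linG κ // (y : G) * x i = x i * y} ≤ D * (if r i = n then n else 1) := by
    intro i
    obtain ⟨μ, hμ⟩ := hμ i
    have h4 := card_cent_mul h.fr (by omega) (h.lift i)
    have h5 := card_semi (hirr i) (n := n) rfl (by omega) hp (h.pf.prime i) hμ
    have h6 := h4.trans h5
    rw [← hq, ← hDq] at h6
    have h7 : D * (q - 1) * (if r i = n then n else 1) = D * (if r i = n then n else 1) * (q - 1) := by ring
    rw [h7] at h6
    exact Nat.le_of_mul_le_mul_right h6 (by omega)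
  exact not_cov_env h.fr.env (le_linG h.fr) hd0 hd (fun i => mem_linG.2 ⟨a i, h.lift i⟩) hc
    (num_sum h.pf.inj hq2 hp h3 hD rfl h.pf.prime hdv h2) h.cov

end main

end Cfsg.Agent.H368.RC
end

-- part: H202/RC/LinFinal
section
/-!
# S3510, row A, box Z: `no_lin`
-/

set_option autoImplicit false
open Cfsg

namespace Cfsg.Agent.H202.RC

open MulAction Cfsg.Agent.H106.RC Module

/-- **The linear theorem** (`hL` of `row_psl`): no cover by linear elements. -/
theorem no_lin (F V G Ω ι : Type) [Field F] [Finite F] [AddCommGroup V] [Module F V] [Module.Finite F V] [Group G]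
    [Finite G] [Finite Ω] [Nonempty Ω] [MulAction G Ω] [Finite ι] (N : Subgroup G) (κ : SLV F V →* G) (x : ι → G)
    (r : ι → ℕ) (a : ι → V ≃ₗ[F] V) (h : LinCov Ω N κ x r a) (hn : 3 ≤ finrank F V)
    (hne : ¬ (Nat.card F = 2 ∧ finrank F V = 4)) (hIH : IH (Nat.card N)) : False :=
  no_lin_of_prime h hn hne hIH fun hp h3 hirr => H368.RC.no_prime h hp h3 hirr

end Cfsg.Agent.H202.RC
end

private theorem dce_e5a07212aa40 : _root_.True := by
  try have : _root_.True := by simp only [_root_.Cfsg.Agent.H991.RC.tw.eq_1]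
  exact _root_.True.intro
end

-- part: H721/RC/FinalOf
section
set_option linter.all false
open scoped Cfsg.Agent.FastGrp

-- part: H916/RC/ExcA6
section
/-!
# S3510 for the socle `A_6` (helper916)

`exc_A6` : `G` primitive on `Ω`, `A_6 ≅ T` normal in `G`, `C_G(T) = 1`, some `g` without regular cycle: `|Ω| = 6`.
-/

set_option autoImplicit false

namespace Cfsg.Agent.H916.RC

open Equiv Equiv.Perm
open Cfsg.Agent.H277.SK Cfsg.Agent.H106.RC

/-- an element without regular cycle contradicts `RCe` -/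
theorem no_rce_of_noreg {G : Type*} [Group G] {Ω : Type*} [MulAction G Ω] [FaithfulSMul G Ω]
    (T : Subgroup G) [T.Normal] (hT : IsSimpleGroup T)
    (hC : Subgroup.centralizer (T : Set G) = ⊥) (g : G)
    (hg : ∀ ω : Ω, MulAction.stabilizer (Subgroup.zpowers g) ω ≠ ⊥)
    (hRC : RCe T (MulAut.conjNormal g)) : False := by
  classical
  obtain ⟨t0, ht0⟩ := exists_ne (1 : T)
  have hex : ∃ ω : Ω, (t0 : G) • ω ≠ ω := by
    by_contra hno
    push Not at hno
    apply ht0
    apply Subtype.ext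
    apply eq_of_smul_eq_smul (α := Ω)
    intro ω
    rw [hno ω]; simp
  obtain ⟨ω0, hω0⟩ := hex
  let φ : G →* MulAut T := MulAut.conjNormal
  have hφ : ∀ x : G, φ x = 1 → x = 1 := by
    intro x hx
    have : x ∈ Subgroup.centralizer (T : Set G) := by
      rw [Subgroup.mem_centralizer_iff]
      intro t ht
      have h1 : (φ x ⟨t, ht⟩ : G) = t := by rw [hx]; rfl
      have h2 : (φ x ⟨t, ht⟩ : G) = x * t * x⁻¹ := MulAut.conjNormal_apply x ⟨t, ht⟩
      rw [h2] at h1
      have : x * t = t * x := by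
        calc x * t = (x * t * x⁻¹) * x := by group
          _ = t * x := by rw [h1]
      exact this.symm
    rw [hC] at this
    exact Subgroup.mem_bot.1 this
  have hinj : Function.Injective φ := (injective_iff_map_eq_one φ).2 hφ
  have hconj : ∀ t : T, φ (t : G) = MulAut.conj t := by
    intro t
    ext x
    simp only [φ, MulAut.conjNormal_apply, _root_.MulAut.conj_apply, _root_.Subgroup.coe_mul, _root_.InvMemClass.coe_inv]
  let H : Subgroup (MulAut T) := (MulAction.stabilizer G ω0).map φ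
  have hH : ¬ (MulAut.conj : T →* MulAut T).range ≤ H := by
    intro hle
    have h1 : φ (t0 : G) ∈ H := by
      rw [hconj]; exact hle ⟨t0, rfl⟩
    obtain ⟨x, hx, hxe⟩ := h1
    have := hinj hxe
    subst this
    exact hω0 hx
  obtain ⟨s, hs⟩ := hRC H hH
  apply hg ((s : G)⁻¹ • ω0)
  rw [eq_bot_iff]
  rintro ⟨z, hz⟩ hzst
  have hzst' : z • ((s : G)⁻¹ • ω0) = (s : G)⁻¹ • ω0 := hzst
  have h1 : (s : G) * z * (s : G)⁻¹ ∈ MulAction.stabilizer G ω0 := by
    rw [MulAction.mem_stabilizer_iff, mul_smul, mul_smul, hzst', smul_inv_smul]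
  have h2 : MulAut.conj s * φ z * (MulAut.conj s)⁻¹ ∈ H := by
    rw [← hconj, ← map_inv, ← map_mul, ← map_mul]
    exact ⟨_, h1, rfl⟩
  have h3 : φ z ∈ Subgroup.zpowers (φ g) := by
    obtain ⟨k, rfl⟩ := Subgroup.mem_zpowers_iff.1 hz
    exact Subgroup.mem_zpowers_iff.2 ⟨k, by rw [map_zpow]⟩
  have h4 := hφ z (hs _ h3 h2)
  rw [Subgroup.mem_bot]
  exact Subtype.ext h4

/-- `T³` is the transposition of `x`, `y`, fixed by `T⁴` -/
def ocS (T x y : ℕ) : Bool := !(Nat.beq x y) && ([0, 1, 2, 3, 4, 5].all fun z =>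
  Nat.beq (SixTab.iv T 3 z) (bif Nat.beq z x then y else bif Nat.beq z y then x else z)) &&
  Nat.beq (SixTab.iv T 4 x) x && Nat.beq (SixTab.iv T 4 y) y

/-- the check for `ord6_cases` -/
def oc (T : ℕ) : Bool := !(SixTab.ck T 6) || (SixTab.ck T 3 || (SixTab.ck T 2 ||
  (([0, 1, 2, 3, 4, 5].all fun x => !(Nat.beq (SixTab.iv T 2 x) x)) ||
    [0, 1, 2, 3, 4, 5].any fun x => [0, 1, 2, 3, 4, 5].any fun y => ocS T x y)))

theorem oc0 : SixTab.fa 0 oc = true := by decide +kernel

theorem oc1 : SixTab.fa 1 oc = true := by decide +kernel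

theorem oc2 : SixTab.fa 2 oc = true := by decide +kernel

theorem oc3 : SixTab.fa 3 oc = true := by decide +kernel

theorem oc4 : SixTab.fa 4 oc = true := by decide +kernel

theorem oc5 : SixTab.fa 5 oc = true := by decide +kernel

/-- the elements of order six of `S_6` -/
theorem ord6_cases : ∀ σ : Perm (Fin 6), σ ^ 6 = 1 → σ ^ 3 ≠ 1 → σ ^ 2 ≠ 1 →
    (∀ x, (σ ^ 2) x ≠ x) ∨ ∃ x y, x ≠ y ∧ σ ^ 3 = swap x y ∧ (σ ^ 4) x = x ∧ (σ ^ 4) y = y := by
  intro σ h6 h3 h2
  have h := SixTab.fa_spec oc0 oc1 oc2 oc3 oc4 oc5 σ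
  unfold oc at h
  rw [Bool.or_eq_true, Bool.or_eq_true, Bool.or_eq_true, Bool.or_eq_true, Bool.not_eq_true', ← Bool.not_eq_true,
    SixTab.ck_cod, SixTab.ck_cod, SixTab.ck_cod] at h
  rcases h with h | h | h | h | h
  · exact absurd h6 h
  · exact absurd h h3
  · exact absurd h h2
  · left
    intro x hx
    rw [List.all_eq_true] at h
    have h1 := h x (SixTab.mem6 x)
    rw [SixTab.iv_cod, hx, Nat.beq_refl] at h1
    exact absurd h1 (by decide)
  · right
    rw [List.any_eq_true] at h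
    obtain ⟨x, hx, h⟩ := h
    rw [List.any_eq_true] at h
    obtain ⟨y, hy, h⟩ := h
    have hx6 : x < 6 := by
      simp only [List.mem_cons, List.not_mem_nil, or_false] at hx
      omega
    have hy6 : y < 6 := by
      simp only [List.mem_cons, List.not_mem_nil, or_false] at hy
      omega
    unfold ocS at h
    rw [Bool.and_eq_true, Bool.and_eq_true, Bool.and_eq_true, List.all_eq_true, Bool.not_eq_true'] at h
    obtain ⟨⟨⟨e1, e2⟩, e3⟩, e4⟩ := h
    have hxy : x ≠ y := by
      rintro rfl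
      rw [Nat.beq_refl] at e1
      exact Bool.noConfusion e1
    refine ⟨⟨x, hx6⟩, ⟨y, hy6⟩, fun h => hxy (congrArg Fin.val h), ?_, ?_, ?_⟩
    · ext z
      have h1 := Nat.eq_of_beq_eq_true (e2 z (SixTab.mem6 z))
      rw [SixTab.iv_cod] at h1
      rw [h1]
      by_cases hzx : z = ⟨x, hx6⟩
      · rw [hzx, swap_apply_left]
        show (bif Nat.beq x x then y else _) = y
        rw [Nat.beq_refl]; rfl
      · have n1 : Nat.beq (z : ℕ) x = false := by
          rw [← Bool.not_eq_true]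
          intro h2
          exact hzx (Fin.ext (Nat.eq_of_beq_eq_true h2))
        rw [n1]
        by_cases hzy : z = ⟨y, hy6⟩
        · rw [hzy, swap_apply_right]
          show (bif Nat.beq y y then x else y) = x
          rw [Nat.beq_refl]; rfl
        · have n2 : Nat.beq (z : ℕ) y = false := by
            rw [← Bool.not_eq_true]
            intro h2
            exact hzy (Fin.ext (Nat.eq_of_beq_eq_true h2))
          rw [n2, swap_apply_of_ne_of_ne hzx hzy]
          rfl
    · have h1 := Nat.eq_of_beq_eq_true e3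
      have h2 := SixTab.iv_cod σ 4 ⟨x, hx6⟩
      exact Fin.ext (h2.symm.trans h1)
    · have h1 := Nat.eq_of_beq_eq_true e4
      have h2 := SixTab.iv_cod σ 4 ⟨y, hy6⟩
      exact Fin.ext (h2.symm.trans h1)

theorem zmul_six (k : ℤ) : (6 : ℤ) ∣ k ∨ (∃ m n : ℤ, k * m = 3 + 6 * n) ∨ ∃ m n : ℤ, k * m = 4 + 6 * n := by
  obtain ⟨q, r, h0, h1, h2⟩ : ∃ q r : ℤ, k = 6 * q + r ∧ 0 ≤ r ∧ r < 6 :=
    ⟨k / 6, k % 6, (Int.mul_ediv_add_emod k 6).symm, Int.emod_nonneg _ (by norm_num), Int.emod_lt_of_pos _ (by norm_num)⟩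
  subst h0
  interval_cases r
  · left; exact ⟨q, by ring⟩
  · right; left; exact ⟨3, 3 * q, by ring⟩
  · right; right; exact ⟨2, 2 * q, by ring⟩
  · right; left; exact ⟨1, q, by ring⟩
  · right; right; exact ⟨1, q, by ring⟩
  · right; left; exact ⟨3, 3 * q + 2, by ring⟩

section core

variable {G : Type*} [Group G] {T : Subgroup G} [hTn : T.Normal] (e : T ≃* A6)

/-- the action on `A_6` -/
def act : G →* MulAut A6 := (MulAut.congr e).toMonoidHom.comp MulAut.conjNormal

theorem act_apply (g : G) (t : T) : act e g (e t) = e (MulAut.conjNormal g t) := by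
  show e (MulAut.conjNormal g (e.symm (e t))) = _
  rw [MulEquiv.symm_apply_apply]

theorem act_coe (t : T) : act e (t : G) = MulAut.conj (e t) := by
  apply MulEquiv.ext
  intro x
  obtain ⟨u, rfl⟩ := e.surjective x
  rw [act_apply, MulAut.conj_apply, ← _root_.MulEquiv.map_inv, ← _root_.MulEquiv.map_mul, ← _root_.MulEquiv.map_mul]
  congr 1

theorem act_inj (hC : Subgroup.centralizer (T : Set G) = ⊥) : Function.Injective (act e) := by
  rw [injective_iff_map_eq_one]
  intro g hg
  have h1 : g ∈ Subgroup.centralizer (T : Set G) := by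
    rw [Subgroup.mem_centralizer_iff]
    intro t ht
    have h2 := act_apply e g ⟨t, ht⟩
    rw [hg, MulAut.one_apply] at h2
    have h3 := congrArg Subtype.val (e.injective h2)
    rw [MulAut.conjNormal_apply] at h3
    have h4 : t = g * t * g⁻¹ := h3
    rw [eq_mul_inv_iff_mul_eq] at h4
    exact h4
  rw [hC, Subgroup.mem_bot] at h1
  exact h1

/-- the case of an element inducing `(x y)(z t u)` -/
theorem core {Ω : Type*} [MulAction G Ω] [FaithfulSMul G Ω] [Finite Ω] (hC : Subgroup.centralizer (T : Set G) = ⊥)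
    (htr : MulAction.IsPretransitive T Ω) {g : G} (hg : ∀ ω : Ω, MulAction.stabilizer (Subgroup.zpowers g) ω ≠ ⊥)
    {σ : Perm (Fin 6)} (hσ : act e g = cn σ) {x y : Fin 6} (hxy : x ≠ y) (h3 : σ ^ 3 = swap x y)
    (h4 : (σ ^ 4).IsThreeCycle) (h4x : (σ ^ 4) x = x) (h4y : (σ ^ 4) y = y) : Nat.card Ω = 6 := by
  classical
  have hinj := act_inj e hC
  have hσ6 : σ ^ 6 = 1 := by
    calc σ ^ 6 = (σ ^ 3) ^ 2 := by rw [← pow_mul]
      _ = 1 := by rw [h3, pow_two, swap_mul_self]
  have hg6 : g ^ 6 = 1 := by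
    apply hinj
    rw [map_pow, hσ, ← map_pow, hσ6, map_one, map_one]
  have hcov : ∀ ω : Ω, g ^ 3 • ω = ω ∨ g ^ 4 • ω = ω := by
    intro ω
    have h1 := hg ω
    rw [Subgroup.ne_bot_iff_exists_ne_one] at h1
    obtain ⟨⟨⟨z, hz⟩, hzω⟩, hz1⟩ := h1
    have hz1' : z ≠ 1 := fun h => hz1 (Subtype.ext (Subtype.ext h))
    have hzω' : z ∈ MulAction.stabilizer G ω := hzω
    obtain ⟨k, rfl⟩ := Subgroup.mem_zpowers_iff.1 hz
    have hpow : ∀ m : ℤ, g ^ (k * m) ∈ MulAction.stabilizer G ω := fun m => by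
      rw [zpow_mul]; exact Subgroup.zpow_mem _ hzω' m
    have hz6 : g ^ (6 : ℤ) = 1 := by exact_mod_cast hg6
    rcases zmul_six k with ⟨q, hq⟩ | ⟨m, n, hmn⟩ | ⟨m, n, hmn⟩
    · exact absurd (by rw [hq, zpow_mul, hz6, one_zpow]) hz1'
    · left
      have h8 := hpow m
      rw [hmn, zpow_add, zpow_mul, hz6, one_zpow, mul_one] at h8
      exact_mod_cast h8
    · right
      have h8 := hpow m
      rw [hmn, zpow_add, zpow_mul, hz6, one_zpow, mul_one] at h8
      exact_mod_cast h8
  -- nonempty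
  obtain ⟨t0, ht0⟩ : ∃ t : T, t ≠ 1 := by
    haveI : Nontrivial A6 := simpleA6.toNontrivial
    haveI : Nontrivial T := e.toEquiv.nontrivial
    exact exists_ne 1
  obtain ⟨w, hw⟩ : ∃ ω : Ω, (t0 : G) • ω ≠ ω := by
    by_contra hno
    push Not at hno
    apply ht0
    apply Subtype.ext
    apply eq_of_smul_eq_smul (α := Ω)
    intro ω
    rw [hno ω]; simp
  let D : Subgroup (Perm (Fin 6)) := ((MulAction.stabilizer G w).map (act e)).comap cn
  have hDT : ∀ t : T, ((e t : A6) : Perm (Fin 6)) ∈ D ↔ t • w = w := by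
    intro t
    constructor
    · rintro ⟨k, hk, hkt⟩
      have h5 : k = (t : G) := by
        apply hinj
        rw [hkt, act_coe, cn_val]
      rw [h5] at hk
      exact hk
    · intro h
      exact ⟨t, h, by rw [act_coe, cn_val]⟩
  have hcovD : ∀ s : Perm (Fin 6), Perm.sign s = 1 → s * σ ^ 3 * s⁻¹ ∈ D ∨ s * σ ^ 4 * s⁻¹ ∈ D := by
    intro s hs
    obtain ⟨t, ht⟩ := e.surjective (⟨s, Perm.mem_alternatingGroup.2 hs⟩ : A6)
    have hact : act e (t : G) = cn s := by
      rw [act_coe, ← cn_val, ht]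
    have hkey : ∀ n : ℕ, g ^ n • ((t : G)⁻¹ • w) = (t : G)⁻¹ • w → s * σ ^ n * s⁻¹ ∈ D := by
      intro n hn
      refine ⟨(t : G) * g ^ n * (t : G)⁻¹, ?_, ?_⟩
      · show ((t : G) * g ^ n * (t : G)⁻¹) • w = w
        rw [mul_smul, mul_smul, hn, smul_inv_smul]
      · simp only [map_mul, map_mul, map_inv, map_pow, hact, hσ, map_mul, map_mul, map_inv, map_pow]
    rcases hcov ((t : G)⁻¹ • w) with h | h
    · exact Or.inl (hkey 3 h)
    · exact Or.inr (hkey 4 h)
  have h12 : (σ ^ 4) ^ 3 = 1 := by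
    calc (σ ^ 4) ^ 3 = (σ ^ 6) ^ 2 := by rw [← pow_mul, ← pow_mul]
      _ = 1 := by rw [hσ6, one_pow]
  have hσ34 : σ = swap x y * σ ^ 4 := by
    rw [← h3, ← pow_add, pow_succ, hσ6, one_mul]
  have hdisj : _root_.Equiv.Perm.Disjoint (swap x y) (σ ^ 4) := by
    intro i
    by_cases hix : i = x
    · right; rw [hix, h4x]
    by_cases hiy : i = y
    · right; rw [hiy, h4y]
    · left; exact swap_apply_of_ne_of_ne hix hiy
  have hgraph : ∀ x' y' : Fin 6, x' ≠ y' → swap x' y' ∉ D → ∀ t : Perm (Fin 6), t.IsThreeCycle → t x' = x' →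
      t y' = y' → t ∈ D := by
    intro x' y' hxy' hnot t ht htx hty
    have hdisj' : _root_.Equiv.Perm.Disjoint (swap x' y') t := by
      intro i
      by_cases hix : i = x'
      · right; rw [hix, htx]
      by_cases hiy : i = y'
      · right; rw [hiy, hty]
      · left; exact swap_apply_of_ne_of_ne hix hiy
    have hct : σ.cycleType = (swap x' y' * t).cycleType := by
      rw [hσ34, hdisj.cycleType_mul, hdisj'.cycleType_mul, h4.cycleType, ht.cycleType,
        (isCycle_swap hxy).cycleType, (isCycle_swap hxy').cycleType, card_support_swap hxy, card_support_swap hxy']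
    obtain ⟨s, hs⟩ := isConj_iff.1 (isConj_iff_cycleType_eq.2 hct)
    have hcm : Commute (swap x' y') t := hdisj'.commute
    have ht3 : t ^ 3 = 1 := by rw [← ht.orderOf, pow_orderOf_eq_one]
    have e3 : s * σ ^ 3 * s⁻¹ = swap x' y' := by
      rw [← conj_pow, hs, hcm.mul_pow, ht3, mul_one, pow_succ, pow_two, swap_mul_self, one_mul]
    have e4 : s * σ ^ 4 * s⁻¹ = t := by
      rw [← conj_pow, hs, hcm.mul_pow, show 4 = 2 * 2 from rfl, pow_mul (swap x' y'), pow_two (swap x' y'),
        swap_mul_self, one_pow, one_mul, show 2 * 2 = 3 + 1 from rfl, pow_add, ht3, one_mul, pow_one]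
    rcases Int.units_eq_one_or (Perm.sign s) with h | h
    · rcases hcovD s h with h5 | h5
      · rw [e3] at h5; exact absurd h5 hnot
      · rw [e4] at h5; exact h5
    · have h6 : Perm.sign (s * σ ^ 3) = 1 := by
        rw [map_mul, h, h3, sign_swap hxy]; rfl
      rcases hcovD _ h6 with h5 | h5
      · have : s * σ ^ 3 * σ ^ 3 * (s * σ ^ 3)⁻¹ = s * σ ^ 3 * s⁻¹ := by group
        rw [this, e3] at h5; exact absurd h5 hnot
      · have : s * σ ^ 3 * σ ^ 4 * (s * σ ^ 3)⁻¹ = s * σ ^ 4 * s⁻¹ := by group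
        rw [this, e4] at h5; exact h5
  have hA : ¬ alternatingGroup (Fin 6) ≤ D := by
    intro hle
    apply hw
    have : ((e t0 : A6) : Perm (Fin 6)) ∈ D := hle (e t0).2
    exact (hDT t0).1 this
  obtain ⟨a, ha⟩ := graph hgraph hA
  have hst : MulAction.stabilizer T w = (MulAction.stabilizer A6 a).comap e.toMonoidHom := by
    ext t
    rw [MulAction.mem_stabilizer_iff, ← hDT, ha _ (Perm.mem_alternatingGroup.1 (e t).2)]
    rfl
  rw [← MulAction.index_stabilizer_of_transitive T w, hst, Subgroup.index_comap_of_surjective _ e.surjective]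
  haveI : MulAction.IsPretransitive A6 (Fin 6) := alternatingGroup.isPretransitive_of_three_le_card (Fin 6) (by simp)
  rw [MulAction.index_stabilizer_of_transitive, Nat.card_eq_fintype_card, Fintype.card_fin]

end core

/-- **The socle `A_6`.** -/
theorem exc_A6 {G : Type*} [Group G] [Finite G] {Ω : Type*} [Fintype Ω] [MulAction G Ω] [FaithfulSMul G Ω]
    (T : Subgroup G) [T.Normal] (hT : Nonempty (T ≃* alternatingGroup (Fin 6)))
    (hC : Subgroup.centralizer (T : Set G) = ⊥) (hprim : MulAction.IsPreprimitive G Ω) (g : G)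
    (hg : ∀ ω : Ω, MulAction.stabilizer (Subgroup.zpowers g) ω ≠ ⊥) : Fintype.card Ω = 6 := by
  classical
  obtain ⟨e⟩ := hT
  have hsT : IsSimpleGroup T := by
    haveI := simpleA6
    haveI : Nontrivial T := e.toEquiv.nontrivial
    exact IsSimpleGroup.isSimpleGroup_of_surjective e.symm.toMonoidHom e.symm.surjective
  have htr : MulAction.IsPretransitive T Ω := by
    apply MulAction.IsQuasiPreprimitive.isPretransitive_of_normal (G := G)
    intro h
    obtain ⟨t0, ht0⟩ := exists_ne (1 : T)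
    apply ht0
    apply Subtype.ext
    apply eq_of_smul_eq_smul (α := Ω)
    intro ω
    have h1 : ω ∈ MulAction.fixedPoints T Ω := by rw [h]; trivial
    have h2 : (t0 : G) • ω = ω := h1 t0
    rw [h2]; simp
  have hinj := act_inj e hC
  rw [← Nat.card_eq_fintype_card]
  by_cases h6 : orderOf (act e g) = 6
  · have hpr : ∀ α : MulAut A6, orderOf α = 6 → Pr α := by
      intro α hα
      by_contra hno
      rcases pow_of_not_pr hno with h | h
      · have := orderOf_dvd_of_pow_eq_one h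
        rw [hα] at this; omega
      · have := orderOf_dvd_of_pow_eq_one h
        rw [hα] at this; omega
    have hmain : ∀ e' : T ≃* A6, orderOf (act e' g) = 6 →
        (∀ σ, act e' g = cn σ → ∃ x, (σ ^ 2) x = x) → Nat.card Ω = 6 := by
      intro e' h6' hfix
      obtain ⟨σ, hσ⟩ := pr_cn (hpr _ h6')
      have ho : orderOf σ = 6 := by rw [← orderOf_injective cn cn_inj, hσ, h6']
      have p6 : σ ^ 6 = 1 := by
        have := pow_orderOf_eq_one σ
        rwa [ho] at this
      have p3 : σ ^ 3 ≠ 1 := fun h => by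
        have := orderOf_dvd_of_pow_eq_one h
        rw [ho] at this; omega
      have p2 : σ ^ 2 ≠ 1 := fun h => by
        have := orderOf_dvd_of_pow_eq_one h
        rw [ho] at this; omega
      obtain ⟨x0, hx0⟩ := hfix σ hσ.symm
      rcases ord6_cases σ p6 p3 p2 with h | ⟨x, y, hxy, q3, q4, q5⟩
      · exact absurd hx0 (h x0)
      · have q6 : (σ ^ 4).IsThreeCycle := by
          have o3 : orderOf (σ ^ 4) = 3 := by
            rw [orderOf_pow, ho]
            norm_num
          have s4 : Perm.sign (σ ^ 4) = 1 := odd_order_even (n := 3) (by decide) (by rw [← o3, pow_orderOf_eq_one])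
          rcases T3_or_Q3 (x := ⟨σ ^ 4, Perm.mem_alternatingGroup.2 s4⟩) (by rw [← Subgroup.orderOf_coe]; exact o3) with h | h
          · exact h
          · exfalso
            have h2 : (σ ^ 4).support.card = 6 := by
              rw [← sum_cycleType, show (σ ^ 4).cycleType = {3, 3} from h]; rfl
            have h4 : (σ ^ 4).support ⊆ Finset.univ.erase x := fun y hy => by
              rw [Finset.mem_erase]
              exact ⟨fun h => (mem_support.1 hy) (h ▸ q4), Finset.mem_univ _⟩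
            have h5 := Finset.card_le_card h4
            rw [h2, Finset.card_erase_of_mem (Finset.mem_univ _), Finset.card_univ, Fintype.card_fin] at h5
            omega
        exact core e' hC htr hg hσ.symm hxy q3 q6 q4 q5
    by_cases hq : ∀ σ, act e g = cn σ → ∃ x, (σ ^ 2) x = x
    · exact hmain e h6 hq
    · push Not at hq
      obtain ⟨σ, hσ, hno⟩ := hq
      obtain ⟨θ, hθ⟩ := StdAlt.Six.exists_theta
      have hθp : ¬ Pr θ := by
        intro h
        obtain ⟨τ, hτ⟩ := pr_cn h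
        apply hθ
        refine ⟨τ, fun x => ?_⟩
        rw [← hτ, cn_apply]
      let e' : T ≃* A6 := e.trans θ
      have hact : ∀ k : G, act e' k = θ * act e k * θ⁻¹ := by
        intro k
        apply MulEquiv.ext
        intro x
        obtain ⟨u, rfl⟩ := e'.surjective x
        rw [act_apply]
        show θ (e (MulAut.conjNormal k u)) = (θ * act e k * θ⁻¹) (θ (e u))
        rw [MulAut.mul_apply, MulAut.mul_apply, show θ⁻¹ (θ (e u)) = e u from θ.symm_apply_apply _, act_apply]
      have ho' : orderOf (act e' g) = 6 := by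
        rw [hact, show θ * act e g * θ⁻¹ = MulAut.conj θ (act e g) from rfl, MulEquiv.orderOf_eq, h6]
      apply hmain e' ho'
      intro σ' hσ'
      by_contra hno'
      push Not at hno'
      -- both squares have type `3^2`
      have ho : orderOf σ = 6 := by rw [← orderOf_injective cn cn_inj, ← hσ, h6]
      have ho2 : orderOf σ' = 6 := by rw [← orderOf_injective cn cn_inj, ← hσ', ho']
      have htype : ∀ τ : Perm (Fin 6), orderOf τ = 6 → (∀ x, (τ ^ 2) x ≠ x) → ∃ h : Perm.sign (τ ^ 2) = 1,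
          Q3 ⟨τ ^ 2, Perm.mem_alternatingGroup.2 h⟩ := by
        intro τ hτ hx
        have o3 : orderOf (τ ^ 2) = 3 := by
          rw [orderOf_pow, hτ]
          norm_num
        have s4 : Perm.sign (τ ^ 2) = 1 := odd_order_even (n := 3) (by decide) (by rw [← o3, pow_orderOf_eq_one])
        refine ⟨s4, ?_⟩
        rcases T3_or_Q3 (x := ⟨τ ^ 2, Perm.mem_alternatingGroup.2 s4⟩) (by rw [← Subgroup.orderOf_coe]; exact o3) with h | h
        · exfalso
          have h2 : (τ ^ 2).support.card = 3 := card_support_eq_three_iff.2 h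
          have h3 : (τ ^ 2).support = Finset.univ := by
            ext x; simp [hx x]
          rw [h3, Finset.card_univ, Fintype.card_fin] at h2
          omega
        · exact h
      obtain ⟨s1, q1⟩ := htype σ ho hno
      obtain ⟨s2, q2⟩ := htype σ' ho2 hno'
      have h7 : θ ⟨σ ^ 2, Perm.mem_alternatingGroup.2 s1⟩ = ⟨σ' ^ 2, Perm.mem_alternatingGroup.2 s2⟩ := by
        apply conj_inj
        rw [← mul_conj_inv, ← cn_val, ← cn_val]
        show θ * cn (σ ^ 2) * θ⁻¹ = cn (σ' ^ 2)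
        rw [map_pow, map_pow, ← hσ, ← hσ', hact, ← conj_pow]
      have h8 := swapQ hθp q1
      rw [h7] at h8
      exact T3_not_Q3 h8 q2
  · exfalso
    have h1 := rce_A6 (act e g) h6
    apply no_rce_of_noreg T hsT hC g hg
    have h2 := h1.congr e.symm
    have h3 : MulAut.congr e.symm (act e g) = MulAut.conjNormal g := by
      apply MulEquiv.ext
      intro t
      show e.symm (act e g (e t)) = _
      rw [act_apply, MulEquiv.symm_apply_apply]
    rwa [h3] at h2

end Cfsg.Agent.H916.RC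
end

-- part: H106/RC/Exc
section
/-!
# S3510: the three exceptional socles (assembly, helper106)
-/

set_option autoImplicit false
open Cfsg

namespace Cfsg.Agent.H106.RC

universe u v

theorem excStmt : ExcStmt.{u, v} := by
  intro G _ _ Ω _ _ _ T _ hT hC hprim g hg
  rcases hT with h5 | h6 | h8
  · obtain ⟨e⟩ := h5
    exact Or.inl ⟨⟨e⟩, Cfsg.Agent.H390.RC.exc_five T e hC hprim g hg⟩
  · exact Or.inr (Or.inl ⟨h6, Cfsg.Agent.H916.RC.exc_A6 T h6 hC hprim g hg⟩)
  · obtain ⟨e⟩ := h8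
    exact Or.inr (Or.inr ⟨⟨e⟩, Cfsg.Agent.H390.RC.exc_eight T e hC hprim g hg⟩)

end Cfsg.Agent.H106.RC
end

-- part: H233/RC/Gamma
section
/-!
# S3510: `RCe` for the elements of `gammaPSL n F`, `n ≥ 3`, from the linear theorem and `FieldStmt`
-/

set_option autoImplicit false
set_option linter.unusedSectionVars false
open Cfsg

namespace Cfsg.Agent.H202.RC

open MulAction Cfsg.Agent.H106.RC Module Cfsg.Agent.H233.RC

/-- elements of `gammaPSL` are `Psi A * phi σ` -/
theorem gamma_form {F : Type} [Field F] [Fintype F] {n : ℕ} (hn : 3 ≤ n)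
    {β : MulAut (Matrix.ProjectiveSpecialLinearGroup (Fin n) F)} (hβ : β ∈ Cfsg.gammaPSL n F) :
    ∃ (A : GL (Fin n) F) (σ : F ≃+* F), β = H199.PslAut.Psi n F A * H199.PslAut.phi n F σ := by
  have hphi : ∀ (σ : F ≃+* F) (B : GL (Fin n) F), ∃ B' : GL (Fin n) F,
      H199.PslAut.phi n F σ * H199.PslAut.Psi n F B = H199.PslAut.Psi n F B' * H199.PslAut.phi n F σ := by
    intro σ B
    let B' : GL (Fin n) F := Units.map (σ.mapMatrix : Matrix (Fin n) (Fin n) F ≃+* Matrix (Fin n) (Fin n) F).toMonoidHom B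
    refine ⟨B', ?_⟩
    apply MulEquiv.ext
    intro t
    obtain ⟨S, rfl⟩ := QuotientGroup.mk_surjective t
    let T : Matrix.SpecialLinearGroup (Fin n) F := ⟨(B : Matrix (Fin n) (Fin n) F) * S.1 *
      ((B⁻¹ : GL (Fin n) F) : Matrix (Fin n) (Fin n) F), by
        rw [Matrix.det_mul, Matrix.det_mul, S.2, mul_one, ← Matrix.det_mul, ← Units.val_mul, mul_inv_cancel,
          Units.val_one, Matrix.det_one]⟩
    have e1 : (H199.PslAut.Psi n F B) (QuotientGroup.mk S) = QuotientGroup.mk T := by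
      have h := (H199.PslAut.innerDiag_iff (H199.PslAut.Psi n F B)).2 ⟨B, rfl⟩
      have h2 := (H199.PslAut.induced_iff B 1 (H199.PslAut.Psi n F B)).2 (by rw [map_one, mul_one])
      exact h2 S T rfl
    have hmap : ∀ M : Matrix.SpecialLinearGroup (Fin n) F, (M.1.map σ).det = 1 := by
      intro M
      have := σ.toRingHom.map_det M.1
      rw [M.2, map_one] at this
      exact this.symm
    have e2 : ∀ M : Matrix.SpecialLinearGroup (Fin n) F,
        (H199.PslAut.phi n F σ) (QuotientGroup.mk M) = QuotientGroup.mk ⟨M.1.map σ, hmap M⟩ := by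
      intro M
      exact (H199.PslAut.std_iff σ _).2 rfl M ⟨M.1.map σ, hmap M⟩ rfl
    rw [MulAut.mul_apply, MulAut.mul_apply, e1, e2, e2]
    have h3 := (H199.PslAut.induced_iff B' 1 (H199.PslAut.Psi n F B')).2 (by rw [map_one, mul_one])
    symm
    apply h3
    change (T.1.map σ) = (B' : Matrix (Fin n) (Fin n) F) * ((S.1.map σ).map (1 : F ≃+* F)) *
      ((B'⁻¹ : GL (Fin n) F) : Matrix (Fin n) (Fin n) F)
    have h4 : (S.1.map σ).map (1 : F ≃+* F) = S.1.map σ := by
      ext i j; rfl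
    have h5 : (B' : Matrix (Fin n) (Fin n) F) = (B : Matrix (Fin n) (Fin n) F).map σ := rfl
    have h6 : ((B'⁻¹ : GL (Fin n) F) : Matrix (Fin n) (Fin n) F) =
        ((B⁻¹ : GL (Fin n) F) : Matrix (Fin n) (Fin n) F).map σ := rfl
    rw [h4, h5, h6, Matrix.map_mul, Matrix.map_mul]
  have hβ' := hβ
  unfold Cfsg.gammaPSL Cfsg.autSubgroupOf at hβ'
  induction hβ' using Subgroup.closure_induction with
  | mem β h =>
    obtain ⟨A, σ, h⟩ := h
    exact ⟨A, σ, (H199.PslAut.induced_iff A σ β).1 h⟩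
  | one => exact ⟨1, 1, by rw [map_one, map_one, mul_one]⟩
  | mul β γ h1 h2 ih1 ih2 =>
    obtain ⟨A, σ, rfl⟩ := ih1 h1
    obtain ⟨B, τ, rfl⟩ := ih2 h2
    obtain ⟨B', hB'⟩ := hphi σ B
    refine ⟨A * B', σ * τ, ?_⟩
    simp only [map_mul, map_mul]
    calc _ = H199.PslAut.Psi n F A * (H199.PslAut.phi n F σ * H199.PslAut.Psi n F B) *
          H199.PslAut.phi n F τ := by group
      _ = _ := by rw [hB']; group
  | inv β h1 ih =>
    obtain ⟨A, σ, rfl⟩ := ih h1
    obtain ⟨B', hB'⟩ := hphi σ⁻¹ A⁻¹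
    refine ⟨B', σ⁻¹, ?_⟩
    rw [← hB', mul_inv_rev, map_inv, map_inv]

/-- `RCe` for the semilinear automorphisms -/
theorem rce_gamma (hF : FieldStmt)
    (hL : ∀ (F V G Ω ι : Type) [Field F] [Finite F] [AddCommGroup V] [Module F V] [Module.Finite F V] [Group G]
      [Finite G] [Finite Ω] [Nonempty Ω] [MulAction G Ω] [Finite ι] (N : Subgroup G) (κ : SLV F V →* G) (x : ι → G)
      (r : ι → ℕ) (a : ι → V ≃ₗ[F] V) (_ : LinCov Ω N κ x r a) (_ : 3 ≤ finrank F V)
      (_ : ¬ (Nat.card F = 2 ∧ finrank F V = 4)) (_ : IH (Nat.card N)), False)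
    {F : Type} [Field F] [Fintype F] {n : ℕ} (hn : 3 ≤ n)
    (hP : IsSimpleGroup (Matrix.ProjectiveSpecialLinearGroup (Fin n) F))
    (hPn : ¬ IsMulCommutative (Matrix.ProjectiveSpecialLinearGroup (Fin n) F))
    (hPE : ¬ Exc (Matrix.ProjectiveSpecialLinearGroup (Fin n) F))
    (hIH : IH (Nat.card (Matrix.ProjectiveSpecialLinearGroup (Fin n) F)))
    {g : MulAut (Matrix.ProjectiveSpecialLinearGroup (Fin n) F)} (hg : g ∈ Cfsg.gammaPSL n F) :
    RCe (Matrix.ProjectiveSpecialLinearGroup (Fin n) F) g := by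
  have hno4 : ¬ (n = 4 ∧ Nat.card F = 2) := by
    rintro ⟨rfl, h1⟩
    apply hPE
    rw [Nat.card_eq_fintype_card] at h1
    exact Or.inr (Or.inr (S0256.result h1))
  have hfin : Finite (Matrix.ProjectiveSpecialLinearGroup (Fin n) F) :=
    Quotient.finite (QuotientGroup.leftRel _)
  apply rce_of_set hP hPn
  intro G _ _ Ω _ _ _ N hE e y hy
  by_contra hno
  push Not at hno
  obtain ⟨ι, hι, x, r, h1, h2, h3, h4⟩ := exists_cover hno
  have hyg : autE hE.norm e y = g := by
    apply MulEquiv.ext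
    intro t
    obtain ⟨m, rfl⟩ := e.surjective t
    rw [autE_apply]
    exact hy m _ rfl
  have hall : ∀ i, ∃ (A : GL (Fin n) F) (σ : F ≃+* F),
      autE hE.norm e (x i) = H199.PslAut.Psi n F A * H199.PslAut.phi n F σ := by
    intro i
    apply gamma_form hn
    obtain ⟨k, hk⟩ := Subgroup.mem_zpowers_iff.1 (h3 i)
    rw [← hk, map_zpow, hyg]
    exact Subgroup.zpow_mem _ hg k
  by_cases hfi : ∃ i, ∃ (A : GL (Fin n) F) (σ : F ≃+* F),
      autE hE.norm e (x i) = H199.PslAut.Psi n F A * H199.PslAut.phi n F σ ∧ σ ≠ 1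
  · exact hF F n hn G Ω N hE e hPE hIH ι x r h1 h2 h4 hall hfi
  · apply lin_noCov hL hn hE e hno4 hIH h1 h2
    intro i
    obtain ⟨A, σ, hA⟩ := hall i
    have hσ : σ = 1 := by
      by_contra hne
      exact hfi ⟨i, A, σ, hA, hne⟩
    refine ⟨A, ?_⟩
    rw [hA, hσ, map_one, mul_one]

end Cfsg.Agent.H202.RC
end

-- part: H384/RC/RowB
section
/-!
# S3510: the row `PSL_n` (helper384), from the field statement and the row `PSL_2`
-/

set_option autoImplicit false

namespace Cfsg.Agent.H384.RC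

open Matrix Cfsg
open Cfsg.Agent.H106.RC Cfsg.Agent.H202.RC

/-- `PSL_n(F)`, `n ≥ 3`, not `PSL_3(2)`, `PSL_4(2)` -/
theorem rc_psl (hF : FieldStmt) {F : Type} [Field F] [Fintype F] {n : ℕ} (hn : 3 ≤ n)
    (h32 : ¬ (n = 3 ∧ Fintype.card F = 2))
    (hP : IsSimpleGroup (Matrix.ProjectiveSpecialLinearGroup (Fin n) F))
    (hPn : ¬ IsMulCommutative (Matrix.ProjectiveSpecialLinearGroup (Fin n) F))
    (hPE : ¬ Exc (Matrix.ProjectiveSpecialLinearGroup (Fin n) F))
    (hIH : IH (Nat.card (Matrix.ProjectiveSpecialLinearGroup (Fin n) F))) :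
    RC (Matrix.ProjectiveSpecialLinearGroup (Fin n) F) := by
  have h42 : ¬ (n = 4 ∧ Fintype.card F = 2) := by
    rintro ⟨rfl, h1⟩
    exact hPE (Or.inr (Or.inr (S0256.result h1)))
  have hfin : Finite (Matrix.ProjectiveSpecialLinearGroup (Fin n) F) :=
    Quotient.finite (QuotientGroup.leftRel _)
  refine rc_of_killed (gammaPSL n F)
    (fun a b ha hb => Cfsg.Agent.H233.RC.gamma_index (by omega) (fun h => by omega) ha hb)
    (fun g hg => rce_gamma hF no_lin hn hP hPn hPE hIH hg)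
    (fun t ht ht2 => killed_dual hn (types hn h42 h32 hIH) t ht ht2)

/-- **the row `PSL_n`** -/
theorem row_isPSL (hF : FieldStmt)
    (hC : Row (fun S _ => ∃ (F : Type) (_ : Field F) (_ : Fintype F), 4 ≤ Fintype.card F ∧
      Nonempty (S ≃* Matrix.ProjectiveSpecialLinearGroup (Fin 2) F))) :
    Row (fun S _ => IsPSL S) := by
  intro S _ _ hS hSn hPSL hExc hIH
  obtain ⟨F, hFi, hFt, n, hn2, hn4, ⟨eS⟩⟩ := hPSL
  by_cases hn : n = 2
  · subst hn
    exact hC S hS hSn ⟨F, hFi, hFt, hn4 rfl, ⟨eS⟩⟩ hExc hIH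
  by_cases h32 : n = 3 ∧ Fintype.card F = 2
  · obtain ⟨rfl, h2⟩ := h32
    have : Fact (Nat.Prime 7) := ⟨by norm_num⟩
    obtain ⟨e⟩ := S0255.result (F := ZMod 7) (K := F) (ZMod.card 7) h2
    exact hC S hS hSn ⟨ZMod 7, inferInstance, inferInstance, by rw [ZMod.card]; norm_num,
      ⟨eS.trans e.symm⟩⟩ hExc hIH
  have hn3 : 3 ≤ n := by omega
  have hcard : Nat.card (Matrix.ProjectiveSpecialLinearGroup (Fin n) F) = Nat.card S :=
    Nat.card_congr eS.symm.toEquiv
  have hP : IsSimpleGroup (Matrix.ProjectiveSpecialLinearGroup (Fin n) F) := isSimple_cgr eS hS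
  have hPn : ¬ IsMulCommutative (Matrix.ProjectiveSpecialLinearGroup (Fin n) F) :=
    notComm_cgr eS hSn
  have hPE : ¬ Exc (Matrix.ProjectiveSpecialLinearGroup (Fin n) F) := by
    intro h
    apply hExc
    rcases h with ⟨⟨e⟩⟩ | ⟨⟨e⟩⟩ | ⟨⟨e⟩⟩
    · exact Or.inl ⟨eS.trans e⟩
    · exact Or.inr (Or.inl ⟨eS.trans e⟩)
    · exact Or.inr (Or.inr ⟨eS.trans e⟩)
  rw [← hcard] at hIH
  exact (rc_psl hF hn3 h32 hP hPn hPE hIH).congr eS.symm

end Cfsg.Agent.H384.RC
end

-- part: H930/RC/F42b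
section
/-!
# S3510, box A5, `(n, q_0) = (4, 2)`, `q = 4` (helper930)

Elements `a, b` of `GL_4(2)` of orders 3, 5 and the field automorphism of `F_4`.
-/

set_option autoImplicit false

namespace Cfsg.Agent.H930.RC

open Cfsg.Agent.H106.RC MulAction Matrix
open Cfsg.Agent.ClassicalGeometry.AutPSL.Root Cfsg.Agent.ClassicalGeometry.AutPSL.Auto
open Cfsg.Agent.H199.PslAut Cfsg.Agent.H199.PslField
open Cfsg.Agent.H380.RC

section overK

variable {K : Type} [Field K]

theorem char_two (hK2 : Nat.card K = 2) : (2 : K) = 0 := by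
  rcases eq_zero_or_one hK2 ((1 : K) + 1) with h | h
  · rw [← one_add_one_eq_two, h]
  · exact absurd (add_left_cancel (h.trans (add_zero 1).symm)) one_ne_zero

/-- equation of an element of order 5 -/
theorem five_eq (hK2 : Nat.card K = 2) {b : GL (Fin 4) K} (hb : b ^ 5 = 1) (hb1 : b ≠ 1) :
    (b : Matrix (Fin 4) (Fin 4) K) ^ 4 + (b : Matrix (Fin 4) (Fin 4) K) ^ 3 + (b : Matrix (Fin 4) (Fin 4) K) ^ 2 +
      (b : Matrix (Fin 4) (Fin 4) K) + 1 = 0 := by
  have hb5 : (b : Matrix (Fin 4) (Fin 4) K) ^ 5 = 1 := by rw [← Units.val_pow_eq_pow_val, hb, Units.val_one]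
  set B : Matrix (Fin 4) (Fin 4) K := (b : Matrix (Fin 4) (Fin 4) K) with hB
  have hf : ∀ v, ((vf b)^[5]) v = v := fun v => by rw [vf_iterate, hb, Units.val_one, Matrix.one_mulVec]
  have h1 : fx (vf b) = ⊥ := by
    rcases five_inv (card_vec hK2) hf (vf_ne hb1) (fx (vf b)) (fun v hv => by rw [mem_fx] at hv ⊢; rw [hv, hv])
      with h | h
    · exact h
    · obtain ⟨v, hv⟩ := vf_ne hb1
      exact absurd (fx_eq_top.1 h v) hv
  apply Matrix.mulVec_injective
  funext v
  rw [Matrix.zero_mulVec]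
  have h2 : (B ^ 4 + B ^ 3 + B ^ 2 + B + 1).mulVec v ∈ fx (vf b) := by
    rw [mem_fx, vf_apply, Matrix.mulVec_mulVec]
    congr 1
    have h3 : B * (B ^ 4 + B ^ 3 + B ^ 2 + B + 1) = B ^ 5 + B ^ 4 + B ^ 3 + B ^ 2 + B := by noncomm_ring
    rw [h3, hb5]
    abel
  rw [h1] at h2
  exact h2

/-- the element of order 3 is `b + b⁻¹` or its inverse -/
theorem three_eq (hK2 : Nat.card K = 2) {a b : GL (Fin 4) K} (ha : a ^ 3 = 1) (ha1 : a ≠ 1) (hb : b ^ 5 = 1)
    (hb1 : b ≠ 1) (hab : a * b = b * a) :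
    ((b : Matrix (Fin 4) (Fin 4) K) + (b : Matrix (Fin 4) (Fin 4) K) ^ 4 = a ∨
      (b : Matrix (Fin 4) (Fin 4) K) + (b : Matrix (Fin 4) (Fin 4) K) ^ 4 = (a : Matrix (Fin 4) (Fin 4) K) ^ 2) ∧
    ((b : Matrix (Fin 4) (Fin 4) K) + (b : Matrix (Fin 4) (Fin 4) K) ^ 4) ^ 2 =
      ((b : Matrix (Fin 4) (Fin 4) K) + (b : Matrix (Fin 4) (Fin 4) K) ^ 4) + 1 := by
  have hb5 : (b : Matrix (Fin 4) (Fin 4) K) ^ 5 = 1 := by rw [← Units.val_pow_eq_pow_val, hb, Units.val_one]
  have ha3 : (a : Matrix (Fin 4) (Fin 4) K) ^ 3 = 1 := by rw [← Units.val_pow_eq_pow_val, ha, Units.val_one]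
  have hAB : (a : Matrix (Fin 4) (Fin 4) K) * (b : Matrix (Fin 4) (Fin 4) K) =
      (b : Matrix (Fin 4) (Fin 4) K) * (a : Matrix (Fin 4) (Fin 4) K) := by
    rw [← Units.val_mul, hab, Units.val_mul]
  have hsum := five_eq hK2 hb hb1
  have h2 : (2 : Matrix (Fin 4) (Fin 4) K) = 0 := by
    have : (2 : Matrix (Fin 4) (Fin 4) K) = (2 : K) • (1 : Matrix (Fin 4) (Fin 4) K) := by
      rw [← one_add_one_eq_two, ← one_add_one_eq_two, add_smul, one_smul]
    rw [this, char_two hK2, zero_smul]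
  have hf : ∀ v, ((vf b)^[5]) v = v := fun v => by rw [vf_iterate, hb, Units.val_one, Matrix.one_mulVec]
  set B : Matrix (Fin 4) (Fin 4) K := (b : Matrix (Fin 4) (Fin 4) K) with hB
  set A : Matrix (Fin 4) (Fin 4) K := (a : Matrix (Fin 4) (Fin 4) K) with hA
  have hC2 : (B + B ^ 4) ^ 2 = (B + B ^ 4) + 1 := by
    have h3 : (B + B ^ 4) ^ 2 = B ^ 2 + 2 * B ^ 5 + B ^ 5 * B ^ 3 := by noncomm_ring
    rw [h3, hb5, one_mul, mul_one]
    have h4 : B + B ^ 4 + 1 = (B ^ 4 + B ^ 3 + B ^ 2 + B + 1) - (B ^ 3 + B ^ 2) := by abel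
    rw [h4, hsum, h2, add_zero, zero_sub]
    have h5 : B ^ 2 + B ^ 3 + (B ^ 3 + B ^ 2) = 2 * (B ^ 2 + B ^ 3) := by noncomm_ring
    rw [h2, zero_mul] at h5
    exact eq_neg_of_add_eq_zero_left h5
  refine ⟨?_, hC2⟩
  -- `A ^ 2 + A + 1 = 0`
  have hA1 : A ^ 2 + A + 1 = 0 := by
    have h1 : fx (vf a) = ⊥ := by
      rcases five_inv (card_vec hK2) hf (vf_ne hb1) (fx (vf a)) (fx_stable (vf_comm hab.symm)) with h | h
      · exact h
      · obtain ⟨v, hv⟩ := vf_ne ha1
        exact absurd (fx_eq_top.1 h v) hv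
    apply Matrix.mulVec_injective
    funext v
    rw [Matrix.zero_mulVec]
    have h2 : (A ^ 2 + A + 1).mulVec v ∈ fx (vf a) := by
      rw [mem_fx, vf_apply, Matrix.mulVec_mulVec]
      (with_reducible_and_instances congr 1)
      have h3 : A * (A ^ 2 + A + 1) = A ^ 3 + A ^ 2 + A := by noncomm_ring
      rw [h3, ha3]
      abel
    rw [h1] at h2
    exact h2
  set C : Matrix (Fin 4) (Fin 4) K := B + B ^ 4 with hC
  have hAC : A * C = C * A := by
    have h5 : A * B ^ 4 = B ^ 4 * A := (Commute.pow_right (show Commute A B from hAB) 4).eq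
    rw [hC, mul_add, add_mul, hAB, h5]
  have hprod : (C - A) * (C - A ^ 2) = 0 := by
    have h5 : (C - A) * (C - A ^ 2) = C ^ 2 - C * A ^ 2 - A * C + A ^ 3 := by noncomm_ring
    have h6 : C ^ 2 - C * A ^ 2 - C * A + 1 = C ^ 2 + C + 1 - C * (A ^ 2 + A + 1) := by noncomm_ring
    rw [h5, hAC, ha3, h6, hA1, hC2, mul_zero, sub_zero]
    have h7 : C + 1 + C + 1 = 2 * (C + 1) := by noncomm_ring
    rw [h7, h2, zero_mul]
  let δ : (Fin 4 → K) →+ (Fin 4 → K) :=
    { toFun := fun v => (C - A).mulVec v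
      map_zero' := Matrix.mulVec_zero _
      map_add' := fun v w => Matrix.mulVec_add _ v w }
  have hδ : ∀ v, δ v = (C - A).mulVec v := fun _ => rfl
  have hBC : (C - A) * B = B * (C - A) := by
    have h5 : C * B = B * C := by rw [hC]; noncomm_ring
    rw [sub_mul, mul_sub, hAB, h5]
  rcases five_inv (card_vec hK2) hf (vf_ne hb1) δ.ker (fun v hv => by
    rw [AddMonoidHom.mem_ker, hδ] at hv ⊢
    rw [vf_apply, Matrix.mulVec_mulVec, hBC, ← Matrix.mulVec_mulVec, hv, Matrix.mulVec_zero]) with h | h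
  · right
    apply Matrix.mulVec_injective
    funext v
    have h5 : (C - A ^ 2).mulVec v ∈ δ.ker := by
      rw [AddMonoidHom.mem_ker, hδ, Matrix.mulVec_mulVec, hprod, Matrix.zero_mulVec]
    rw [h, AddSubgroup.mem_bot, Matrix.sub_mulVec, sub_eq_zero] at h5
    exact h5
  · left
    apply Matrix.mulVec_injective
    funext v
    have h5 : v ∈ δ.ker := by rw [h]; trivial
    rw [AddMonoidHom.mem_ker, hδ, Matrix.sub_mulVec, sub_eq_zero] at h5
    exact h5

end overK

section overF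

variable {F : Type} [Field F]

/-- matrices `X` with `E X = X`, `X E' = X` -/
def QM (E E' : Matrix (Fin 4) (Fin 4) F) : AddSubgroup (Matrix (Fin 4) (Fin 4) F) where
  carrier := {X | E * X = X ∧ X * E' = X}
  zero_mem' := ⟨mul_zero _, zero_mul _⟩
  add_mem' {a b} ha hb := ⟨by rw [mul_add, ha.1, hb.1], by rw [add_mul, ha.2, hb.2]⟩
  neg_mem' {a} ha := ⟨by rw [mul_neg, ha.1], by rw [neg_mul, ha.2]⟩

variable {E E' : Matrix (Fin 4) (Fin 4) F}

theorem QM_mul (h : E' * E = 0) {X Y : Matrix (Fin 4) (Fin 4) F} (hX : X ∈ QM E E') (hY : Y ∈ QM E E') :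
    X * Y = 0 := by
  rw [← hX.2, ← hY.1, mul_assoc, ← mul_assoc E', h, zero_mul, mul_zero]

theorem det_one_of_pow {F : Type} [Field F] (M : Matrix (Fin 4) (Fin 4) F) {s : ℕ} (hM : M ^ s = 1)
    (hs : ∀ d : F, d ^ s = 1 → d = 1) : M.det = 1 := by
  apply hs
  rw [← Matrix.det_pow, hM, Matrix.det_one]

/-- `1 + X` -/
def uX (h2 : (2 : F) = 0) (h : E' * E = 0) (X : QM E E') : Matrix.SpecialLinearGroup (Fin 4) F :=
  ⟨1 + X.1, by
    apply det_one_of_pow (s := 2)
    · have h1 : (1 + X.1) ^ 2 = 1 + (2 : F) • X.1 + X.1 * X.1 := by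
        rw [two_smul]; noncomm_ring
      rw [h1, h2, zero_smul, QM_mul h X.2 X.2, add_zero, add_zero]
    · intro d hd
      have h3 : (d - 1) ^ 2 = 0 := by
        have : (d - 1) ^ 2 = d ^ 2 - 2 * d + 1 := by ring
        rw [this, hd, h2]
        rw [zero_mul, sub_zero, one_add_one_eq_two, h2]
      exact sub_eq_zero.1 (pow_eq_zero_iff (two_ne_zero) |>.1 h3)⟩

theorem uX_mul (h2 : (2 : F) = 0) (h : E' * E = 0) (X Y : QM E E') : uX h2 h X * uX h2 h Y = uX h2 h (X + Y) := by
  apply Subtype.ext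
  change (1 + X.1) * (1 + Y.1) = 1 + (X.1 + Y.1)
  have h1 : (1 + X.1) * (1 + Y.1) = 1 + (X.1 + Y.1) + X.1 * Y.1 := by noncomm_ring
  rw [h1, QM_mul h X.2 Y.2, add_zero]

theorem uX_zero (h2 : (2 : F) = 0) (h : E' * E = 0) : uX h2 h (0 : QM E E') = 1 := by
  apply Subtype.ext
  change (1 : Matrix (Fin 4) (Fin 4) F) + 0 = 1
  rw [add_zero]

theorem uX_inv (h2 : (2 : F) = 0) (h : E' * E = 0) (X : QM E E') : (uX h2 h X)⁻¹ = uX h2 h (-X) := by
  rw [inv_eq_iff_mul_eq_one, uX_mul, add_neg_cancel, uX_zero]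

/-- conjugation by matrices commuting with `E`, `E'` -/
theorem conj_mem {Z : GL (Fin 4) F} (hE : (Z : Matrix (Fin 4) (Fin 4) F) * E = E * Z)
    (hE' : (Z : Matrix (Fin 4) (Fin 4) F) * E' = E' * Z) {X : Matrix (Fin 4) (Fin 4) F} (hX : X ∈ QM E E') :
    (Z : Matrix (Fin 4) (Fin 4) F) * X * ((Z⁻¹ : GL (Fin 4) F) : Matrix (Fin 4) (Fin 4) F) ∈ QM E E' := by
  have hi : ∀ Y : Matrix (Fin 4) (Fin 4) F, (Z : Matrix (Fin 4) (Fin 4) F) * Y = Y * Z →
      Y * ((Z⁻¹ : GL (Fin 4) F) : Matrix (Fin 4) (Fin 4) F) = ((Z⁻¹ : GL (Fin 4) F) : Matrix (Fin 4) (Fin 4) F) * Y := by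
    intro Y hY
    have h1 : ((Z⁻¹ : GL (Fin 4) F) : Matrix (Fin 4) (Fin 4) F) * ((Z : Matrix (Fin 4) (Fin 4) F) * Y) *
        ((Z⁻¹ : GL (Fin 4) F) : Matrix (Fin 4) (Fin 4) F) = ((Z⁻¹ : GL (Fin 4) F) : Matrix (Fin 4) (Fin 4) F) *
        (Y * Z) * ((Z⁻¹ : GL (Fin 4) F) : Matrix (Fin 4) (Fin 4) F) := by rw [hY]
    rw [← mul_assoc, ← Units.val_mul, inv_mul_cancel, Units.val_one, one_mul, mul_assoc, mul_assoc, ← Units.val_mul,
      mul_inv_cancel, Units.val_one, mul_one] at h1
    exact h1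
  refine ⟨?_, ?_⟩
  · rw [← mul_assoc, ← mul_assoc, ← hE, mul_assoc (Z : Matrix (Fin 4) (Fin 4) F) E X, hX.1]
  · rw [mul_assoc, ← hi E' hE', ← mul_assoc, mul_assoc (Z : Matrix (Fin 4) (Fin 4) F) X E', hX.2]

theorem cj_uX (h2 : (2 : F) = 0) (h : E' * E = 0) {Z : GL (Fin 4) F}
    (hE : (Z : Matrix (Fin 4) (Fin 4) F) * E = E * Z) (hE' : (Z : Matrix (Fin 4) (Fin 4) F) * E' = E' * Z)
    (X : QM E E') : cj Z (uX h2 h X) = uX h2 h ⟨_, conj_mem hE hE' X.2⟩ := by
  apply Subtype.ext
  change (Z : Matrix (Fin 4) (Fin 4) F) * (1 + X.1) * ((Z⁻¹ : GL (Fin 4) F) : Matrix (Fin 4) (Fin 4) F) =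
    1 + (Z : Matrix (Fin 4) (Fin 4) F) * X.1 * ((Z⁻¹ : GL (Fin 4) F) : Matrix (Fin 4) (Fin 4) F)
  rw [mul_add, mul_one, add_mul, ← Units.val_mul, mul_inv_cancel, Units.val_one]

/-- `X ↦ X - Z X Z⁻¹` is surjective on `QM E E'` if `Z` has no commuting `X ≠ 0` -/
theorem exists_pre [Finite F] {Z : GL (Fin 4) F}
    (hE : (Z : Matrix (Fin 4) (Fin 4) F) * E = E * Z) (hE' : (Z : Matrix (Fin 4) (Fin 4) F) * E' = E' * Z)
    (hZ : ∀ X ∈ QM E E', (Z : Matrix (Fin 4) (Fin 4) F) * X = X * Z → X = 0) (X : QM E E') :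
    ∃ Y : QM E E', Y - ⟨_, conj_mem hE hE' Y.2⟩ = X := by
  let δ : QM E E' →+ QM E E' :=
    { toFun := fun Y => Y - ⟨_, conj_mem hE hE' Y.2⟩
      map_zero' := by
        apply Subtype.ext
        change (0 : Matrix (Fin 4) (Fin 4) F) - (Z : Matrix (Fin 4) (Fin 4) F) * 0 * _ = 0
        rw [mul_zero, zero_mul, sub_zero]
      map_add' := fun a b => by
        apply Subtype.ext
        change (a.1 + b.1) - (Z : Matrix (Fin 4) (Fin 4) F) * (a.1 + b.1) *
          ((Z⁻¹ : GL (Fin 4) F) : Matrix (Fin 4) (Fin 4) F) = (a.1 - (Z : Matrix (Fin 4) (Fin 4) F) * a.1 *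
          ((Z⁻¹ : GL (Fin 4) F) : Matrix (Fin 4) (Fin 4) F)) + (b.1 - (Z : Matrix (Fin 4) (Fin 4) F) * b.1 *
          ((Z⁻¹ : GL (Fin 4) F) : Matrix (Fin 4) (Fin 4) F))
        rw [mul_add, add_mul]
        abel }
  have hfin : Finite (QM E E') := inferInstance
  have hinj : Function.Injective δ := by
    rw [injective_iff_map_eq_zero]
    intro Y hY
    apply Subtype.ext
    apply hZ _ Y.2
    have h1 : Y.1 - (Z : Matrix (Fin 4) (Fin 4) F) * Y.1 * ((Z⁻¹ : GL (Fin 4) F) : Matrix (Fin 4) (Fin 4) F) = 0 :=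
      congrArg Subtype.val hY
    rw [sub_eq_zero] at h1
    have h3 := congrArg (fun M => M * (Z : Matrix (Fin 4) (Fin 4) F)) h1
    simp only [mul_assoc] at h3
    rw [← Units.val_mul, inv_mul_cancel, Units.val_one, mul_one] at h3
    exact h3.symm
  exact (Finite.surjective_of_injective hinj) X

end overF

section grp

variable {F : Type} [Field F] {G : Type} [Group G] {N : Subgroup G}
variable {E E' : Matrix (Fin 4) (Fin 4) F}

/-- the radical group -/
noncomputable def UQ (e : N ≃* Matrix.ProjectiveSpecialLinearGroup (Fin 4) F) (h2 : (2 : F) = 0) (h : E' * E = 0) :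
    Subgroup G where
  carrier := {g | ∃ X : QM E E', g = toN e (uX h2 h X)}
  one_mem' := ⟨0, by rw [uX_zero, map_one]⟩
  mul_mem' := by
    rintro _ _ ⟨X, rfl⟩ ⟨Y, rfl⟩
    exact ⟨X + Y, by rw [← map_mul, uX_mul]⟩
  inv_mem' := by
    rintro _ ⟨X, rfl⟩
    exact ⟨-X, by rw [← map_inv, uX_inv]⟩

/-- the rule for `q = 4` -/
theorem rule_four {Ω ι : Type} [Finite F] [Finite G] [Nonempty Ω] [MulAction G Ω] [Finite ι]
    (hE : Env G Ω N) (e : N ≃* Matrix.ProjectiveSpecialLinearGroup (Fin 4) F) (h2 : (2 : F) = 0) (h : E' * E = 0)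
    {x : ι → G} (hx : ∀ i, x i ^ 15 = 1) (hc : ∀ i j, x i * x j = x j * x i) (hcov : _root_.Cfsg.Agent.H106.RC.Cov Ω x)
    (Z : ι → GL (Fin 4) F) (hZ : ∀ i s, x i * toN e s * (x i)⁻¹ = toN e (cj (Z i) s))
    (hZE : ∀ i, (Z i : Matrix (Fin 4) (Fin 4) F) * E = E * Z i)
    (hZE' : ∀ i, (Z i : Matrix (Fin 4) (Fin 4) F) * E' = E' * Z i)
    (hZX : ∀ i, ∀ X ∈ QM E E', (Z i : Matrix (Fin 4) (Fin 4) F) * X = X * Z i → X = 0)
    (X : QM E E') (hX : X ≠ 0) : False := by
  let U := UQ e h2 h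
  have hUsq : ∀ u : U, u ^ 2 = 1 := by
    rintro ⟨_, Y, rfl⟩
    apply Subtype.ext
    change (toN e (uX h2 h Y)) ^ 2 = 1
    rw [← map_pow, pow_two, uX_mul]
    have h3 : Y + Y = 0 := by
      apply Subtype.ext
      change Y.1 + Y.1 = 0
      rw [← two_smul F, h2, zero_smul]
    rw [h3, uX_zero, map_one]
  have hUp : IsPGroup 2 U := fun u => ⟨1, by rw [pow_one]; exact hUsq u⟩
  have hcop : (15 : ℕ).Coprime (Nat.card U) := by
    obtain ⟨k, hk⟩ := (IsPGroup.iff_card (p := 2)).1 hUp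
    rw [hk]
    apply Nat.Coprime.pow_right
    norm_num
  have hconj : ∀ (i : ι) (Y : QM E E'), x i * toN e (uX h2 h Y) * (x i)⁻¹ =
      toN e (uX h2 h ⟨_, conj_mem (hZE i) (hZE' i) Y.2⟩) := by
    intro i Y
    rw [hZ, cj_uX h2 h (hZE i) (hZE' i)]
  have hne : toN e (uX h2 h X) ≠ 1 := by
    intro h1
    rw [toN_eq_one_iff, pr_eq_one_iff, Matrix.SpecialLinearGroup.mem_center_iff] at h1
    obtain ⟨c, -, hc1⟩ := h1
    change Matrix.scalar (Fin 4) c = 1 + X.1 at hc1
    apply hX
    have h4 : X.1 = (c - 1) • (1 : Matrix (Fin 4) (Fin 4) F) := by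
      rw [sub_smul, one_smul, Matrix.smul_one_eq_diagonal, eq_sub_iff_add_eq, add_comm, ← hc1]
      rfl
    have h5 := QM_mul h X.2 X.2
    rw [h4, Matrix.smul_mul, Matrix.mul_smul, Matrix.mul_one, smul_smul] at h5
    have h6 := congrFun (congrFun h5 0) 0
    rw [Matrix.smul_apply, Matrix.one_apply_eq, Matrix.zero_apply, smul_eq_mul, mul_one, mul_self_eq_zero] at h6
    apply Subtype.ext
    rw [h4, h6, zero_smul]
    rfl
  refine hE.not_all hne fun ω => ?_
  obtain ⟨i, hi⟩ := H338.RC.cover_gen (N := fun _ : ι => 15) (U := U) (fun _ => by norm_num) hx hc (by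
      rintro i _ ⟨Y, rfl⟩
      rw [hconj]
      exact ⟨_, rfl⟩) (by
      rintro _ ⟨Y, rfl⟩ _ ⟨Y', rfl⟩
      rw [← map_mul, ← map_mul, uX_mul, uX_mul, add_comm]) (fun i j hi _ => absurd hcop hi) ω
      (fun u _ => hcov (u • ω))
  apply comm_le hi
  obtain ⟨Y, hY⟩ := exists_pre (hZE i) (hZE' i) (hZX i) X
  have h3 := mem_cmm (U := U) (x := x i) (u := toN e (uX h2 h Y)) ⟨Y, rfl⟩
  have h4 : toN e (uX h2 h Y) * x i * (toN e (uX h2 h Y))⁻¹ * (x i)⁻¹ =
      toN e (uX h2 h Y) * (x i * toN e (uX h2 h Y) * (x i)⁻¹)⁻¹ := by group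
  rw [h4, hconj, ← map_inv, ← map_mul, uX_inv, uX_mul, ← sub_eq_add_neg, hY] at h3
  exact h3

end grp

section ids

variable {S : Type*} [CommRing S] {b w : S}

/-- the commutative identities -/
theorem ids (h2 : (2 : S) = 0) (hb : b ^ 4 + b ^ 3 + b ^ 2 + b + 1 = 0) (hw : w ^ 2 = w + 1) :
    let c := b + b ^ 4
    let e₁ := c + w + 1
    let e₂ := c + w
    b ^ 5 = 1 ∧ c * e₁ = w * e₁ ∧ e₂ * c = (w + 1) * e₂ ∧ e₂ * e₁ = 0 ∧ e₁ * e₁ = e₁ ∧ e₂ * e₂ = e₂ ∧
      (b * e₁ + e₂) ^ 5 = 1 ∧ (b * e₁ + b ^ 4 * e₂) * (b * e₂ + e₁) = b * e₁ + e₂ ∧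
      (b * e₁ + b ^ 4 * e₂) ^ 5 = 1 ∧ (b * e₁ + b ^ 4 * e₂) + (b * e₁ + b ^ 4 * e₂) ^ 4 = c := by
  intro c e₁ e₂
  have hb5 : b ^ 5 = 1 := by linear_combination (b - 1) * hb
  have hc2 : c ^ 2 = c + 1 := by
    have : c ^ 2 = b ^ 2 + 2 * b ^ 5 + b ^ 5 * b ^ 3 := by ring
    rw [this, hb5, h2]
    linear_combination hb - (b + b ^ 4 + 1) * h2
  have h1 : e₁ + e₂ = 1 := by
    change (c + w + 1) + (c + w) = 1
    linear_combination (c + w) * h2
  have h12 : e₂ * e₁ = 0 := by
    change (c + w) * (c + w + 1) = 0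
    linear_combination hc2 + hw + (c * w + c + w + 1) * h2
  have h11 : e₁ * e₁ = e₁ := by linear_combination e₁ * h1 - h12
  have h22 : e₂ * e₂ = e₂ := by linear_combination e₂ * h1 - h12
  have hmul : ∀ p q p' q' : S, (p * e₁ + q * e₂) * (p' * e₁ + q' * e₂) = (p * p') * e₁ + (q * q') * e₂ := by
    intro p q p' q'
    linear_combination (p * p') * h11 + (q * q') * h22 + (p * q' + q * p') * h12
  have hpow : ∀ (p q : S) (n : ℕ), (p * e₁ + q * e₂) ^ n = p ^ n * e₁ + q ^ n * e₂ := by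
    intro p q n
    induction n with
    | zero => rw [pow_zero, pow_zero, pow_zero, one_mul, one_mul, h1]
    | succ n ih => rw [pow_succ, ih, hmul, pow_succ, pow_succ]
  refine ⟨hb5, ?_, ?_, h12, h11, h22, ?_, ?_, ?_, ?_⟩
  · change c * (c + w + 1) = w * (c + w + 1)
    linear_combination hc2 - hw + (c - w) * h2
  · change (c + w) * c = (w + 1) * (c + w)
    linear_combination hc2 - hw - w * h2
  · have h3 := hpow b 1 5
    rw [one_mul] at h3
    rw [h3, hb5, one_pow, one_mul, one_mul, h1]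
  · have h3 := hmul b (b ^ 4) 1 b
    have h4 : b ^ 4 * b = 1 := by rw [← pow_succ, hb5]
    rw [h4, one_mul, one_mul, mul_one] at h3
    rw [add_comm (b * e₂) e₁, h3]
  · rw [hpow, hb5, ← pow_mul, mul_comm 4 5, pow_mul, hb5, one_pow, one_mul, one_mul, h1]
  · rw [hpow, ← pow_mul]
    have h3 : b ^ (4 * 4) = b := by
      have : b ^ (4 * 4) = (b ^ 5) ^ 3 * b := by ring
      rw [this, hb5, one_pow, one_mul]
    rw [h3]
    change b * e₁ + b ^ 4 * e₂ + (b ^ 4 * e₁ + b * e₂) = b + b ^ 4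
    linear_combination (b + b ^ 4) * h1

end ids

section final

variable {F : Type} [Field F] {G : Type} [Group G] {N : Subgroup G}

/-- **`q = 4`, `h` of order 15** -/
theorem dead_four {Ω ι : Type} [Finite F] [Finite G] [Nonempty Ω] [MulAction G Ω] [Finite ι]
    (hE : Env G Ω N) (e : N ≃* Matrix.ProjectiveSpecialLinearGroup (Fin 4) F) {x : ι → G} {r : ι → ℕ}
    (hx : PF x r) (hcov : _root_.Cfsg.Agent.H106.RC.Cov Ω x) {i₀ : ι} {σ : F ≃+* F} (hσ1 : σ ≠ 1) (hσ : cS hE.norm e (x i₀) = phi 4 F σ)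
    {K : Subfield F} (hK : ∀ a, a ∈ K ↔ σ a = a) (hK2 : Nat.card K = 2) {k : ι → GL (Fin 4) K}
    (hk : ∀ i, i ≠ i₀ → cS hE.norm e (x i) = theta 4 K.subtype (k i))
    (hkc : ∀ i j, i ≠ i₀ → j ≠ i₀ → k i * k j = k j * k i) (hk1 : ∀ i, i ≠ i₀ → k i ^ r i = 1 ∧ k i ≠ 1)
    (hr0 : r i₀ = 2) {i₃ i₅ : ι} (h3 : i₃ ≠ i₀) (h5 : i₅ ≠ i₀) (hr3 : r i₃ = 3) (hr5 : r i₅ = 5)
    (hall : ∀ i, i = i₀ ∨ i = i₃ ∨ i = i₅) : False := by
  classical
  have hN := hE.norm
  have hinj := cS_inj hN e hE.cent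
  have h2K := char_two hK2
  have h2 : (2 : F) = 0 := by
    have := congrArg K.subtype h2K
    rwa [map_ofNat, map_zero] at this
  -- the element `w`
  have hσ2 : ∀ a, σ (σ a) = a := by
    intro a
    have h6 : σ ^ 2 = 1 := by
      apply phi_injective (n := 4) (by norm_num)
      rw [map_pow, ← hσ, ← map_pow, ← hr0, hx.pow, map_one, map_one]
    exact DFunLike.congr_fun h6 a
  obtain ⟨w, hw0⟩ : ∃ d, σ d ≠ d := by
    by_contra hno
    push Not at hno
    exact hσ1 (RingEquiv.ext hno)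
  have hK01 : ∀ a, σ a = a → a = 0 ∨ a = 1 := by
    intro a ha
    rcases eq_zero_or_one hK2 ⟨a, (hK a).2 ha⟩ with h | h
    · exact Or.inl (congrArg Subtype.val h)
    · exact Or.inr (congrArg Subtype.val h)
  have hquad : ∀ d, σ d ≠ d → σ d = d + 1 ∧ d ^ 2 = d + 1 := by
    intro d hd
    have hsum : d + σ d = 1 := by
      rcases hK01 (d + σ d) (by rw [_root_.RingEquiv.map_add, hσ2, add_comm]) with h | h
      · exfalso
        apply hd
        linear_combination h - d * h2
      · exact h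
    have hprod : d * σ d = 1 := by
      rcases hK01 (d * σ d) (by rw [map_mul, hσ2, mul_comm]) with h | h
      · exfalso
        rcases mul_eq_zero.1 h with h | h
        · apply hd
          rw [h, map_zero]
        · apply hd
          have : d = 0 := σ.injective (by rw [h, map_zero])
          rw [this, map_zero]
      · exact h
    have hσd : σ d = d + 1 := by linear_combination hsum - d * h2
    refine ⟨hσd, ?_⟩
    rw [hσd] at hprod
    linear_combination hprod - d * h2
  obtain ⟨hσw, hw2⟩ := hquad w hw0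
  have hno5 : ∀ d : F, d ^ 5 = 1 → d = 1 := by
    intro d hd
    by_cases hσd : σ d = d
    · rcases hK01 d hσd with h | h
      · rw [h, zero_pow (by norm_num)] at hd
        exact absurd hd zero_ne_one
      · exact h
    · exfalso
      obtain ⟨-, h⟩ := hquad d hσd
      have h6 : d = 0 := by linear_combination hd - (d ^ 3 + d ^ 2 + 2 * d + 3) * h - (2 * d + 1) * h2
      rw [h6, zero_pow (by norm_num)] at hd
      exact zero_ne_one hd
  -- matrices over `K`
  obtain ⟨hb5, hb1⟩ := hk1 i₅ h5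
  obtain ⟨ha3, ha1⟩ := hk1 i₃ h3
  rw [hr5] at hb5
  rw [hr3] at ha3
  have hsumB := five_eq hK2 hb5 hb1
  obtain ⟨hCA, hC2⟩ := three_eq hK2 ha3 ha1 hb5 hb1 (hkc i₃ i₅ h3 h5)
  let m : Matrix (Fin 4) (Fin 4) K →+* Matrix (Fin 4) (Fin 4) F := K.subtype.mapMatrix
  let A : GL (Fin 4) F := Matrix.GeneralLinearGroup.map K.subtype (k i₃)
  let B : GL (Fin 4) F := Matrix.GeneralLinearGroup.map K.subtype (k i₅)
  have hmA : m (k i₃ : Matrix (Fin 4) (Fin 4) K) = (A : Matrix (Fin 4) (Fin 4) F) := rfl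
  have hmB : m (k i₅ : Matrix (Fin 4) (Fin 4) K) = (B : Matrix (Fin 4) (Fin 4) F) := rfl
  have hB4 : (B : Matrix (Fin 4) (Fin 4) F) ^ 4 + (B : Matrix (Fin 4) (Fin 4) F) ^ 3 +
      (B : Matrix (Fin 4) (Fin 4) F) ^ 2 + (B : Matrix (Fin 4) (Fin 4) F) + 1 = 0 := by
    have := congrArg m hsumB
    simpa only [_root_.RingHom.map_add, _root_.RingHom.map_pow, hmB, _root_.RingHom.map_one, _root_.RingHom.map_zero] using this
  -- the commutative ring
  let s : Set (Matrix (Fin 4) (Fin 4) F) := {(B : Matrix (Fin 4) (Fin 4) F)}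
  have hcm : IsMulCommutative (Algebra.adjoin F s) := Algebra.isMulCommutative_adjoin F (by
    rintro a rfl b rfl; rfl)
  let b : Algebra.adjoin F s := ⟨B, Algebra.subset_adjoin rfl⟩
  let w' : Algebra.adjoin F s := algebraMap F _ w
  have hI := ids (b := b) (w := w') (by
      have : (2 : Algebra.adjoin F s) = algebraMap F _ 2 := by rw [map_ofNat]
      simp only [this, h2, map_zero]) (Subtype.ext hB4) (by
      rw [← _root_.RingHom.map_pow, hw2, _root_.RingHom.map_add, _root_.RingHom.map_one])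
  let v := (Algebra.adjoin F s).val
  let W : Matrix (Fin 4) (Fin 4) F := algebraMap F _ w
  have hvb : v b = (B : Matrix (Fin 4) (Fin 4) F) := rfl
  have hvw : v w' = W := rfl
  let C : Matrix (Fin 4) (Fin 4) F := (B : Matrix (Fin 4) (Fin 4) F) + (B : Matrix (Fin 4) (Fin 4) F) ^ 4
  let E₁ : Matrix (Fin 4) (Fin 4) F := C + W + 1
  let E₂ : Matrix (Fin 4) (Fin 4) F := C + W
  obtain ⟨-, i1, i2, i3, i4, i5, i6, i7, i8, i9⟩ := hI
  replace i1 : C * E₁ = W * E₁ := by
    have := congrArg v i1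
    simpa only [map_add, map_mul, map_pow, map_one, hvb, hvw] using this
  replace i2 : E₂ * C = (W + 1) * E₂ := by
    have := congrArg v i2
    simpa only [map_add, map_mul, map_pow, map_one, hvb, hvw] using this
  replace i3 : E₂ * E₁ = 0 := by
    have := congrArg v i3
    simpa only [map_add, map_mul, map_pow, map_one, map_zero, hvb, hvw] using this
  replace i4 : E₁ * E₁ = E₁ := by
    have := congrArg v i4
    simpa only [map_add, map_mul, map_pow, map_one, map_zero, hvb, hvw] using this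
  replace i5 : E₂ * E₂ = E₂ := by
    have := congrArg v i5
    simpa only [map_add, map_mul, map_pow, map_one, map_zero, hvb, hvw] using this
  replace i6 : ((B : Matrix (Fin 4) (Fin 4) F) * E₁ + E₂) ^ 5 = 1 := by
    have := congrArg v i6
    simpa only [map_add, map_mul, map_pow, map_one, map_zero, hvb, hvw] using this
  replace i7 : ((B : Matrix (Fin 4) (Fin 4) F) * E₁ + (B : Matrix (Fin 4) (Fin 4) F) ^ 4 * E₂) *
      ((B : Matrix (Fin 4) (Fin 4) F) * E₂ + E₁) = (B : Matrix (Fin 4) (Fin 4) F) * E₁ + E₂ := by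
    have := congrArg v i7
    simpa only [map_add, map_mul, map_pow, map_one, map_zero, hvb, hvw] using this
  replace i8 : ((B : Matrix (Fin 4) (Fin 4) F) * E₁ + (B : Matrix (Fin 4) (Fin 4) F) ^ 4 * E₂) ^ 5 = 1 := by
    have := congrArg v i8
    simpa only [map_add, map_mul, map_pow, map_one, map_zero, hvb, hvw] using this
  replace i9 : ((B : Matrix (Fin 4) (Fin 4) F) * E₁ + (B : Matrix (Fin 4) (Fin 4) F) ^ 4 * E₂) +
      ((B : Matrix (Fin 4) (Fin 4) F) * E₁ + (B : Matrix (Fin 4) (Fin 4) F) ^ 4 * E₂) ^ 4 = C := by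
    have := congrArg v i9
    simpa only [map_add, map_mul, map_pow, map_one, map_zero, hvb, hvw] using this
  -- the elements `t`, `Y`
  let t : Matrix.SpecialLinearGroup (Fin 4) F :=
    ⟨(B : Matrix (Fin 4) (Fin 4) F) * E₁ + E₂, det_one_of_pow _ i6 hno5⟩
  let M : Matrix (Fin 4) (Fin 4) F →+* Matrix (Fin 4) (Fin 4) F := (σ : F →+* F).mapMatrix
  have hMK : ∀ g : GL (Fin 4) K, M (Matrix.GeneralLinearGroup.map K.subtype g : Matrix (Fin 4) (Fin 4) F) =
      (Matrix.GeneralLinearGroup.map K.subtype g : Matrix (Fin 4) (Fin 4) F) := by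
    intro g
    ext i j
    exact (hK _).1 (g.1 i j).2
  have hMB : M (B : Matrix (Fin 4) (Fin 4) F) = (B : Matrix (Fin 4) (Fin 4) F) := hMK _
  have hMC : M C = C := by
    change M ((B : Matrix (Fin 4) (Fin 4) F) + (B : Matrix (Fin 4) (Fin 4) F) ^ 4) = _
    rw [map_add, map_pow, hMB]
  have hMW : M W = W + 1 := by
    have h6 : M W = algebraMap F (Matrix (Fin 4) (Fin 4) F) (σ w) := by
      ext i j
      change σ (algebraMap F (Matrix (Fin 4) (Fin 4) F) w i j) = _
      rw [Matrix.algebraMap_matrix_apply, Matrix.algebraMap_matrix_apply]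
      split_ifs <;> simp
    rw [h6, hσw, _root_.RingHom.map_add, _root_.RingHom.map_one]
  have h2M : (1 : Matrix (Fin 4) (Fin 4) F) + 1 = 0 := by
    have : (1 : Matrix (Fin 4) (Fin 4) F) + 1 = algebraMap F _ 2 := by rw [map_ofNat, one_add_one_eq_two]
    rw [this, h2, map_zero]
  have hME₁ : M E₁ = E₂ := by
    change M (C + W + 1) = C + W
    rw [_root_.RingHom.map_add, _root_.RingHom.map_add, hMC, hMW, _root_.RingHom.map_one, ← add_assoc, add_assoc, h2M, add_zero]
  have hME₂ : M E₂ = E₁ := by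
    change M (C + W) = C + W + 1
    rw [map_add, hMC, hMW]
    exact (add_assoc C W 1).symm
  have hft : (fld σ t : Matrix (Fin 4) (Fin 4) F) = (B : Matrix (Fin 4) (Fin 4) F) * E₂ + E₁ := by
    have : (fld σ t : Matrix (Fin 4) (Fin 4) F) = M ((B : Matrix (Fin 4) (Fin 4) F) * E₁ + E₂) := rfl
    rw [this, _root_.RingHom.map_add, _root_.RingHom.map_mul, hMB, hME₁, hME₂]
  let Y : Matrix.SpecialLinearGroup (Fin 4) F := t * (fld σ t)⁻¹
  have hY : (Y : Matrix (Fin 4) (Fin 4) F) =
      (B : Matrix (Fin 4) (Fin 4) F) * E₁ + (B : Matrix (Fin 4) (Fin 4) F) ^ 4 * E₂ := by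
    have h6 : ((B : Matrix (Fin 4) (Fin 4) F) * E₁ + (B : Matrix (Fin 4) (Fin 4) F) ^ 4 * E₂) *
        (fld σ t : Matrix (Fin 4) (Fin 4) F) = (t : Matrix (Fin 4) (Fin 4) F) := by
      rw [hft]; exact i7
    change (t : Matrix (Fin 4) (Fin 4) F) * ((fld σ t)⁻¹ : Matrix.SpecialLinearGroup (Fin 4) F).1 = _
    rw [← h6, mul_assoc, ← Matrix.SpecialLinearGroup.coe_mul, mul_inv_cancel, Matrix.SpecialLinearGroup.coe_one,
      mul_one]
  -- commutation with `C`
  have hWc : ∀ X : Matrix (Fin 4) (Fin 4) F, W * X = X * W := fun X => Algebra.commutes w X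
  have hEc : ∀ X : Matrix (Fin 4) (Fin 4) F, X * C = C * X → X * E₁ = E₁ * X ∧ X * E₂ = E₂ * X := by
    intro X hX
    constructor
    · change X * (C + W + 1) = (C + W + 1) * X
      rw [mul_add, mul_add, add_mul, add_mul, hX, hWc, mul_one, one_mul]
    · change X * (C + W) = (C + W) * X
      rw [mul_add, add_mul, hX, hWc]
  have hker : ∀ X ∈ QM E₁ E₂, C * X = X * C → X = 0 := by
    intro X hX h
    have h6 : C * X = W * X := by
      rw [← hX.1, ← mul_assoc, i1, mul_assoc]
    have h7 : X * C = X * (W + 1) := by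
      have h8 : (W + 1) * X = X * (W + 1) := by rw [add_mul, mul_add, hWc, one_mul, mul_one]
      calc X * C = X * E₂ * C := by rw [hX.2]
        _ = X * ((W + 1) * E₂) := by rw [mul_assoc, i2]
        _ = (W + 1) * (X * E₂) := by rw [← mul_assoc, ← h8, mul_assoc]
        _ = X * (W + 1) := by rw [hX.2, h8]
    rw [h6, h7, mul_add, mul_one, hWc] at h
    exact left_eq_add.1 h
  -- the new cover
  have hYB : (Y : Matrix (Fin 4) (Fin 4) F) * C = C * Y := by
    rw [hY]
    have h6 : Commute ((B : Matrix (Fin 4) (Fin 4) F) * E₁ + (B : Matrix (Fin 4) (Fin 4) F) ^ 4 * E₂)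
      ((B : Matrix (Fin 4) (Fin 4) F) * E₁ + (B : Matrix (Fin 4) (Fin 4) F) ^ 4 * E₂) := Commute.refl _
    have h7 := (h6.add_right (h6.pow_right 4)).eq
    rwa [i9] at h7
  let Z : ι → GL (Fin 4) F := fun i => if i = i₀ then (Y : GL (Fin 4) F) else
    Matrix.GeneralLinearGroup.map K.subtype (k i)
  let x' : ι → G := Function.update x i₀ (toN e Y)
  have hkB : ∀ i, i ≠ i₀ → (Matrix.GeneralLinearGroup.map K.subtype (k i) : Matrix (Fin 4) (Fin 4) F) *
      (B : Matrix (Fin 4) (Fin 4) F) = (B : Matrix (Fin 4) (Fin 4) F) *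
      (Matrix.GeneralLinearGroup.map K.subtype (k i) : Matrix (Fin 4) (Fin 4) F) := by
    intro i hi
    rw [← Units.val_mul, ← map_mul, hkc i i₅ hi h5, map_mul, Units.val_mul]
  have hkC : ∀ i, i ≠ i₀ → (Matrix.GeneralLinearGroup.map K.subtype (k i) : Matrix (Fin 4) (Fin 4) F) * C = C *
      (Matrix.GeneralLinearGroup.map K.subtype (k i) : Matrix (Fin 4) (Fin 4) F) := by
    intro i hi
    have h6 : Commute (Matrix.GeneralLinearGroup.map K.subtype (k i) : Matrix (Fin 4) (Fin 4) F)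
      (B : Matrix (Fin 4) (Fin 4) F) := hkB i hi
    exact (h6.add_right (h6.pow_right 4)).eq
  have hkt : ∀ i, i ≠ i₀ → (Matrix.GeneralLinearGroup.map K.subtype (k i) : Matrix (Fin 4) (Fin 4) F) * t =
      t * (Matrix.GeneralLinearGroup.map K.subtype (k i) : Matrix (Fin 4) (Fin 4) F) := by
    intro i hi
    obtain ⟨h6, h7⟩ := hEc _ (hkC i hi)
    change _ * ((B : Matrix (Fin 4) (Fin 4) F) * E₁ + E₂) = ((B : Matrix (Fin 4) (Fin 4) F) * E₁ + E₂) * _
    rw [mul_add, add_mul, h7, ← mul_assoc, hkB i hi, mul_assoc, h6, mul_assoc]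
  have hcj : ∀ i, i ≠ i₀ → cj (Matrix.GeneralLinearGroup.map K.subtype (k i)) t = t := by
    intro i hi
    apply Subtype.ext
    rw [coe_cj, hkt i hi, mul_assoc, ← Units.val_mul, mul_inv_cancel, Units.val_one, mul_one]
  have hxi : ∀ i, i ≠ i₀ → ∀ s, x i * toN e s * (x i)⁻¹ =
      toN e (cj (Matrix.GeneralLinearGroup.map K.subtype (k i)) s) := by
    intro i hi s
    exact conj_toN hN e (a := cj (Matrix.GeneralLinearGroup.map K.subtype (k i))) (hk i hi) s
  -- the replacement of `x i₀`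
  have hcovY : _root_.Cfsg.Agent.H106.RC.Cov Ω x' := by
    have h6 := Cov.mv_comm hcov i₀ (c := toN e t) (fun j hj => by
      have h7 := hxi j hj t
      rw [hcj j hj, mul_inv_eq_iff_eq_mul] at h7
      exact h7.symm)
    have h7 : toN e t * x i₀ * (toN e t)⁻¹ * (x i₀)⁻¹ = toN e Y := by
      have h8 : toN e t * x i₀ * (toN e t)⁻¹ * (x i₀)⁻¹ = toN e t * (x i₀ * toN e t * (x i₀)⁻¹)⁻¹ := by group
      rw [h8, conj_toN hN e (a := fld σ) hσ, ← map_inv, ← map_mul]
    rw [h7] at h6
    exact h6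
  have hx0 : x' i₀ = toN e Y := Function.update_self _ _ _
  have hxj : ∀ i, i ≠ i₀ → x' i = x i := fun i hi => Function.update_of_ne hi _ _
  have hYcj : ∀ i, i ≠ i₀ → cj (Matrix.GeneralLinearGroup.map K.subtype (k i)) Y = Y := by
    intro i hi
    have h6 : cj (Matrix.GeneralLinearGroup.map K.subtype (k i)) (fld σ t) = fld σ t := by
      have h7 := fld_cj σ (Matrix.GeneralLinearGroup.map K.subtype (k i)) t
      rw [hcj i hi] at h7
      have h8 : mapGL σ (Matrix.GeneralLinearGroup.map K.subtype (k i)) =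
          Matrix.GeneralLinearGroup.map K.subtype (k i) := by
        apply Units.ext
        rw [coe_mapGL]
        ext a b
        exact (hK _).1 ((k i).1 a b).2
      rw [h8] at h7
      exact h7.symm
    change cj _ (t * (fld σ t)⁻¹) = t * (fld σ t)⁻¹
    simp only [map_mul, map_inv, h6, hcj i hi]
  have hY5 : Y ^ 5 = 1 := by
    apply Subtype.ext
    rw [Matrix.SpecialLinearGroup.coe_pow, hY, i8]
    rfl
  have hx15 : ∀ i, x' i ^ 15 = 1 := by
    intro i
    rcases hall i with rfl | rfl | rfl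
    · rw [hx0, ← map_pow, show 15 = 5 * 3 by norm_num, pow_mul, hY5, one_pow, map_one]
    · rw [hxj _ h3, show 15 = 3 * 5 by norm_num, pow_mul]
      have := hx.pow i
      rw [hr3] at this
      rw [this, one_pow]
    · rw [hxj _ h5, show 15 = 5 * 3 by norm_num, pow_mul]
      have := hx.pow i
      rw [hr5] at this
      rw [this, one_pow]
  have hxY : ∀ i, i ≠ i₀ → x i * toN e Y = toN e Y * x i := by
    intro i hi
    have h7 := hxi i hi Y
    rwa [hYcj i hi, mul_inv_eq_iff_eq_mul] at h7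
  have hcomm : ∀ i j, x' i * x' j = x' j * x' i := by
    intro i j
    by_cases hi : i = i₀
    · by_cases hj : j = i₀
      · rw [hi, hj]
      · rw [hi, hx0, hxj j hj, hxY j hj]
    · by_cases hj : j = i₀
      · rw [hj, hx0, hxj i hi, hxY i hi]
      · rw [hxj i hi, hxj j hj, hx.comm]
  have hZ0 : Z i₀ = (Y : GL (Fin 4) F) := if_pos rfl
  have hZi : ∀ i, i ≠ i₀ → Z i = Matrix.GeneralLinearGroup.map K.subtype (k i) := fun i hi => if_neg hi
  have hZC : ∀ i, (Z i : Matrix (Fin 4) (Fin 4) F) * C = C * Z i := by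
    intro i
    by_cases hi : i = i₀
    · rw [hi, hZ0]
      exact hYB
    · rw [hZi i hi]
      exact hkC i hi
  have hCA' : C = (A : Matrix (Fin 4) (Fin 4) F) ∨ C = (A : Matrix (Fin 4) (Fin 4) F) ^ 2 := by
    rcases hCA with h | h
    · left
      have := congrArg m h
      simpa only [_root_.RingHom.map_add, _root_.RingHom.map_pow, hmA, hmB] using this
    · right
      have := congrArg m h
      simpa only [_root_.RingHom.map_add, _root_.RingHom.map_pow, hmA, hmB] using this
  -- a nonzero element of `QM`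
  have hCent : C 0 0 ∈ K := by
    have h6 : C = m ((k i₅ : Matrix (Fin 4) (Fin 4) K) + (k i₅ : Matrix (Fin 4) (Fin 4) K) ^ 4) := by
      rw [_root_.RingHom.map_add, _root_.RingHom.map_pow, hmB]
    rw [h6]
    exact SetLike.coe_mem _
  have hW00 : W 0 0 = w := by
    change algebraMap F (Matrix (Fin 4) (Fin 4) F) w 0 0 = w
    rw [Matrix.algebraMap_matrix_apply, if_pos rfl]
    rfl
  have hwK : w ∉ K := fun h => hw0 ((hK w).1 h)
  have hE₁0 : E₁ ≠ 0 := by
    intro h6
    have h7 := congrFun (congrFun h6 0) 0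
    change C 0 0 + W 0 0 + (1 : Matrix (Fin 4) (Fin 4) F) 0 0 = 0 at h7
    rw [hW00, Matrix.one_apply_eq] at h7
    apply hwK
    have h8 : w = -(C 0 0) - 1 := by linear_combination h7
    rw [h8]
    exact K.sub_mem (K.neg_mem hCent) K.one_mem
  have hE₂0 : E₂ ≠ 0 := by
    intro h6
    have h7 := congrFun (congrFun h6 0) 0
    change C 0 0 + W 0 0 = 0 at h7
    rw [hW00] at h7
    apply hwK
    have h8 : w = -(C 0 0) := by linear_combination h7
    rw [h8]
    exact K.neg_mem hCent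
  obtain ⟨X, hX0⟩ : ∃ X : QM E₁ E₂, X ≠ 0 := by
    obtain ⟨p, i, hpi⟩ : ∃ p i, E₁ p i ≠ 0 := by
      by_contra hno
      push Not at hno
      exact hE₁0 (Matrix.ext hno)
    obtain ⟨j, q, hjq⟩ : ∃ j q, E₂ j q ≠ 0 := by
      by_contra hno
      push Not at hno
      exact hE₂0 (Matrix.ext hno)
    refine ⟨⟨E₁ * Matrix.single i j 1 * E₂, ?_, ?_⟩, ?_⟩
    · rw [← mul_assoc, ← mul_assoc, i4]
    · rw [mul_assoc, i5]
    · intro h6
      have h7 := congrFun (congrFun (congrArg Subtype.val h6) p) q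
      change (E₁ * Matrix.single i j (1 : F) * E₂ : Matrix (Fin 4) (Fin 4) F) p q = 0 at h7
      rw [Matrix.mul_apply, Finset.sum_eq_single j] at h7
      · rw [Matrix.mul_single_apply_same, mul_one] at h7
        exact (mul_ne_zero hpi hjq) h7
      · intro l _ hl
        rw [Matrix.mul_single_apply_of_ne _ _ _ _ _ hl, zero_mul]
      · intro h; exact absurd (Finset.mem_univ _) h
  refine rule_four hE e h2 i3 hx15 hcomm hcovY Z (fun i s => ?_) (fun i => (hEc _ (hZC i)).1)
    (fun i => (hEc _ (hZC i)).2) (fun i X₁ hX₁ hZX => ?_) X hX0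
  · by_cases hi : i = i₀
    · rw [hi, hx0, hZ0, ← map_inv, ← map_mul, ← map_mul]
      congr 1
    · rw [hxj i hi, hZi i hi, hxi i hi]
  · apply hker X₁ hX₁
    rcases hall i with hi | hi | hi
    · rw [hi, hZ0] at hZX
      have h6 : Commute (Y : Matrix (Fin 4) (Fin 4) F) X₁ := hZX
      rw [hY] at h6
      have h7 := (h6.add_left (h6.pow_left 4)).eq
      rwa [i9] at h7
    · rw [hi, hZi _ h3] at hZX
      have h6 : Commute (A : Matrix (Fin 4) (Fin 4) F) X₁ := hZX
      rcases hCA' with h | h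
      · rw [h]; exact h6.eq
      · rw [h]; exact (h6.pow_left 2).eq
    · rw [hi, hZi _ h5] at hZX
      have h6 : Commute (B : Matrix (Fin 4) (Fin 4) F) X₁ := hZX
      exact (h6.add_left (h6.pow_left 4)).eq

end final

end Cfsg.Agent.H930.RC
end

-- part: H930/RC/F42c
section
/-!
# S3510, box A5, `(n, q_0) = (4, 2)`, `q = 2^r`, `r ≥ 5` (helper930)

The field automorphism is replaced by an element of a torus of prime order not dividing `|GL_4(2)|`.
-/

set_option autoImplicit false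

namespace Cfsg.Agent.H930.RC

open Cfsg.Agent.H106.RC MulAction Matrix
open Cfsg.Agent.ClassicalGeometry.AutPSL.Root Cfsg.Agent.ClassicalGeometry.AutPSL.Auto
open Cfsg.Agent.H199.PslAut Cfsg.Agent.H199.PslField

section nt

theorem exists_prime_dvd {r : ℕ} (hr : r.Prime) (h5 : 5 ≤ r) :
    ∃ s : ℕ, s.Prime ∧ s ∣ 2 ^ r + 1 ∧ s ≠ 2 ∧ s ≠ 3 ∧ s ≠ 5 ∧ s ≠ 7 := by
  have h1 : r % 12 = 1 ∨ r % 12 = 5 ∨ r % 12 = 7 ∨ r % 12 = 11 := by
    have h2 : ¬ 2 ∣ r := fun h => by
      have := (Nat.prime_dvd_prime_iff_eq Nat.prime_two hr).1 h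
      omega
    have h3 : ¬ 3 ∣ r := fun h => by
      have := (Nat.prime_dvd_prime_iff_eq Nat.prime_three hr).1 h
      omega
    omega
  have h2 : 2 ^ r % 315 = 2 ^ (r % 12) % 315 := by
    conv_lhs => rw [← Nat.div_add_mod r 12, pow_add, pow_mul, Nat.mul_mod, Nat.pow_mod]
    norm_num
  have h3 : 2 ^ r % 315 = 2 ∨ 2 ^ r % 315 = 32 ∨ 2 ^ r % 315 = 128 ∨ 2 ^ r % 315 = 158 := by
    rw [h2]
    rcases h1 with h | h | h | h <;> rw [h] <;> norm_num
  have h4 : 2 ^ r % 2 = 0 := by
    obtain ⟨k, rfl⟩ : ∃ k, r = k + 1 := ⟨r - 1, by omega⟩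
    rw [pow_succ]; omega
  have h6 : 32 ≤ 2 ^ r := by
    calc 32 = 2 ^ 5 := by norm_num
      _ ≤ 2 ^ r := Nat.pow_le_pow_right (by norm_num) h5
  obtain ⟨m, hm⟩ : ∃ m, 2 ^ r + 1 = 3 * m := ⟨(2 ^ r + 1) / 3, by (clear * - h3; omega)⟩
  have hm1 : m ≠ 1 := by (clear * - h6 hm; omega)
  refine ⟨m.minFac, Nat.minFac_prime hm1, (Nat.minFac_dvd m).trans ⟨3, by rw [hm, mul_comm]⟩, ?_, ?_, ?_, ?_⟩
  all_goals
    intro h7
    obtain ⟨l, hl⟩ : _ ∣ m := h7 ▸ Nat.minFac_dvd m
    (clear * - h4 hm hl h3; omega)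

end nt

section comm

variable {F S : Type} [Field F] [CommRing S] [Algebra F S]

/-- powers of the torus element -/
theorem torus_pow {a z : S} (he : (a ^ 2 + a) * (a ^ 2 + a) = a ^ 2 + a) (n : ℕ) :
    (z * (a ^ 2 + a) + (1 - (a ^ 2 + a))) ^ n = z ^ n * (a ^ 2 + a) + (1 - (a ^ 2 + a)) := by
  induction n with
  | zero => ring
  | succ n ih =>
    rw [pow_succ, ih, pow_succ]
    linear_combination (z ^ n * z - z ^ n - z + 1) * he

end comm

section ext

open Polynomial

variable {F : Type} [Field F] [Finite F]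

/-- existence of the coefficients: `β ω + α` of order `s` -/
theorem exists_coeff {r s : ℕ} (hcard : Nat.card F = 2 ^ r) (hodd : r % 2 = 1) (h2 : (2 : F) = 0) (hs : s.Prime)
    (hs1 : s ∣ 2 ^ r + 1) (hs3 : s ≠ 3) :
    ∃ α β : F, (∃ R : F[X], (C β * X + C α) ^ s - 1 = (X ^ 2 + X + 1) * R) ∧
      ¬ ((α = 0 ∨ α = 1) ∧ (β = 0 ∨ β = 1)) ∧ (∀ d : F, d ^ 2 + d + 1 ≠ 0) := by
  classical
  have : Fintype F := Fintype.ofFinite F
  have hnoroot : ∀ d : F, d ^ 2 + d + 1 ≠ 0 := by
    intro d hd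
    have hd0 : d ≠ 0 := by
      rintro rfl
      simp at hd
    have hd3 : d ^ 3 = 1 := by linear_combination (d - 1) * hd
    have hd1 : d ≠ 1 := by
      rintro rfl
      have h3 : (1 : F) = 0 := by linear_combination hd - h2
      exact one_ne_zero h3
    have h3 : orderOf (Units.mk0 d hd0) = 3 := by
      have := Fact.mk Nat.prime_three
      apply orderOf_eq_prime
      · apply Units.ext
        rw [Units.val_pow_eq_pow_val, Units.val_mk0, hd3, Units.val_one]
      · intro h
        apply hd1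
        have := congrArg Units.val h
        simpa using this
    have h4 : 3 ∣ Nat.card Fˣ := h3 ▸ orderOf_dvd_natCard _
    rw [Nat.card_units, hcard] at h4
    have h5 : 2 ^ r % 3 = 2 := by
      have h6 : 2 ^ r % 3 = 2 ^ (r % 2) % 3 := by
        conv_lhs => rw [← Nat.div_add_mod r 2, pow_add, pow_mul, Nat.mul_mod, Nat.pow_mod]
        norm_num
      rw [h6, hodd]; norm_num
    have h6 : 1 ≤ 2 ^ r := Nat.one_le_two_pow
    omega
  let f : F[X] := X ^ 2 + X + 1
  have hfd : f.natDegree = 2 := by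
    change (X ^ 2 + X + 1 : F[X]).natDegree = 2
    compute_degree!
  have hfm : f.Monic := by
    change (X ^ 2 + X + 1 : F[X]).Monic
    monicity!
  have hf : Irreducible f := by
    rw [Polynomial.Monic.irreducible_iff_roots_eq_zero_of_degree_le_three hfm (by rw [hfd]) (by rw [hfd]; norm_num)]
    rw [Multiset.eq_zero_iff_forall_notMem]
    intro d hd
    apply hnoroot d
    have := (Polynomial.mem_roots'.1 hd).2
    simpa only [f, Polynomial.IsRoot, _root_.Polynomial.eval_add, _root_.Polynomial.eval_pow, _root_.Polynomial.eval_X, _root_.Polynomial.eval_one] using this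
  have : Fact (Irreducible f) := ⟨hf⟩
  let E := AdjoinRoot f
  have hfin : Module.Finite F E := hfm.finite_adjoinRoot
  have hcE : Nat.card E = (2 ^ r) ^ 2 := by
    have h3 := Module.natCard_eq_pow_finrank (K := F) (V := E)
    rw [hcard] at h3
    rw [h3]
    congr 1
    rw [(AdjoinRoot.powerBasis' hfm).finrank]
    exact hfd
  have hfE : Finite E := Nat.finite_of_card_ne_zero (by rw [hcE]; positivity)
  have hsE : s ∣ Nat.card Eˣ := by
    rw [Nat.card_units, hcE]
    have h3 : (2 ^ r) ^ 2 - 1 = (2 ^ r + 1) * (2 ^ r - 1) := by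
      have := Nat.sq_sub_sq (2 ^ r) 1
      rwa [one_pow] at this
    rw [h3]
    exact hs1.mul_right _
  have := Fact.mk hs
  obtain ⟨u, hu⟩ := exists_prime_orderOf_dvd_card' s hsE
  obtain ⟨P, hP⟩ := AdjoinRoot.mk_surjective (u : E)
  have hdeg : (P %ₘ f).natDegree ≤ 1 := by
    have h3 := Polynomial.natDegree_modByMonic_lt P hfm (by
      intro h
      have := congrArg Polynomial.natDegree h
      rw [hfd, natDegree_one] at this
      omega)
    rw [hfd] at h3
    omega
  obtain ⟨β, α, hαβ⟩ := Polynomial.exists_eq_X_add_C_of_natDegree_le_one hdeg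
  have hmk : AdjoinRoot.mk f (C β * X + C α) = (u : E) := by
    rw [← hαβ, ← hP, AdjoinRoot.mk_eq_mk]
    refine ⟨-(P /ₘ f), ?_⟩
    have := Polynomial.modByMonic_add_div P f
    linear_combination this
  have hus : u ^ s = 1 := by rw [← hu, pow_orderOf_eq_one]
  have h2P : (2 : F[X]) = 0 := by
    have := congrArg (C : F →+* F[X]) h2
    rwa [map_ofNat, map_zero] at this
  refine ⟨α, β, ?_, ?_, hnoroot⟩
  · have h3 : AdjoinRoot.mk f ((C β * X + C α) ^ s - 1) = 0 := by
      rw [map_sub, map_pow, hmk, map_one, ← Units.val_pow_eq_pow_val, hus, Units.val_one, sub_self]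
    rw [AdjoinRoot.mk_eq_zero] at h3
    obtain ⟨R, hR⟩ := h3
    exact ⟨R, hR⟩
  · rintro ⟨hα, hβ⟩
    have hne1 : u ≠ 1 := by
      rintro rfl
      rw [orderOf_one] at hu
      exact hs.one_lt.ne hu
    have h3 : u ^ 3 = 1 := by
      rcases hβ with rfl | rfl
      · exfalso
        rcases hα with rfl | rfl
        · rw [C_0, zero_mul, zero_add, map_zero] at hmk
          exact u.ne_zero hmk.symm
        · rw [C_0, zero_mul, zero_add, C_1, map_one] at hmk
          exact hne1 (Units.ext hmk.symm)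
      · apply Units.ext
        rw [Units.val_pow_eq_pow_val, Units.val_one, ← hmk, ← map_pow, ← sub_eq_zero, ← map_one (AdjoinRoot.mk f),
          ← map_sub, AdjoinRoot.mk_eq_zero]
        rcases hα with rfl | rfl
        · refine ⟨X - 1, ?_⟩
          rw [C_1, C_0]
          ring
        · refine ⟨X, ?_⟩
          change _ = (X ^ 2 + X + 1) * X
          rw [C_1]
          linear_combination (X ^ 2 + X) * h2P
    have h4 := orderOf_dvd_of_pow_eq_one h3
    rw [hu, Nat.prime_dvd_prime_iff_eq hs Nat.prime_three] at h4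
    exact hs3 h4

end ext

section final

variable {F : Type} [Field F] {G : Type} [Group G] {N : Subgroup G}

/-- **`q = 2^r`, `r ≥ 5`** -/
theorem dead_odd {Ω ι : Type} [Finite F] [Finite G] [Nonempty Ω] [MulAction G Ω] [Finite ι]
    (hE : Env G Ω N) (e : N ≃* Matrix.ProjectiveSpecialLinearGroup (Fin 4) F) {x : ι → G} {r : ι → ℕ}
    (hx : PF x r) (hcov : Cov Ω x) {i₀ : ι} {σ : F ≃+* F} (hσ : cS hE.norm e (x i₀) = phi 4 F σ)
    {K : Subfield F} (hK : ∀ a, a ∈ K ↔ σ a = a) (hK2 : Nat.card K = 2) (hF : Nat.card F = 2 ^ r i₀)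
    {k : ι → GL (Fin 4) K}
    (hk : ∀ i, i ≠ i₀ → cS hE.norm e (x i) = theta 4 K.subtype (k i))
    (hkc : ∀ i j, i ≠ i₀ → j ≠ i₀ → k i * k j = k j * k i) (hk1 : ∀ i, i ≠ i₀ → k i ^ r i = 1 ∧ k i ≠ 1)
    (hr0 : 5 ≤ r i₀) {i₃ : ι} (h3 : i₃ ≠ i₀) (hr3 : r i₃ = 3)
    (hL : ∀ (x : ι → G) (r : ι → ℕ), PF x r → Cov Ω x →
      (∀ i, ∃ A : GL (Fin 4) F, cS hE.norm e (x i) = Psi 4 F A) → False) : False := by
  classical
  have hN := hE.norm
  have hinj := cS_inj hN e hE.cent
  have h2K : (2 : K) = 0 := by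
    rcases eq_zero_or_one hK2 ((1 : K) + 1) with h | h
    · rw [← one_add_one_eq_two, h]
    · exact absurd (add_left_cancel (h.trans (add_zero 1).symm)) one_ne_zero
  have h2 : (2 : F) = 0 := by
    have := congrArg K.subtype h2K
    rwa [map_ofNat, map_zero] at this
  have hK01 : ∀ a, σ a = a → a = 0 ∨ a = 1 := by
    intro a ha
    rcases eq_zero_or_one hK2 ⟨a, (hK a).2 ha⟩ with h | h
    · exact Or.inl (congrArg Subtype.val h)
    · exact Or.inr (congrArg Subtype.val h)
  have hrp := hx.prime i₀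
  have hodd : r i₀ % 2 = 1 := by
    rcases hrp.eq_two_or_odd with h | h
    · omega
    · exact h
  obtain ⟨s, hs, hs1, hs2, hs3, hs5, hs7⟩ := exists_prime_dvd hrp hr0
  obtain ⟨α, β, ⟨R, hR⟩, hαβ, hnoroot⟩ := exists_coeff hF hodd h2 hs hs1 hs3
  -- no element of order `s` in `F`
  have hnos : ∀ d : F, d ^ s = 1 → d = 1 := by
    intro d hd
    have hd0 : d ≠ 0 := by
      rintro rfl
      rw [zero_pow hs.ne_zero] at hd
      exact zero_ne_one hd
    have h4 : (Units.mk0 d hd0) ^ s = 1 := by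
      apply Units.ext
      rw [Units.val_pow_eq_pow_val, Units.val_mk0, hd, Units.val_one]
    have h5 := Nat.dvd_gcd (orderOf_dvd_of_pow_eq_one h4) (orderOf_dvd_natCard (Units.mk0 d hd0))
    have h6 : Nat.gcd s (Nat.card Fˣ) = 1 := by
      rw [Nat.card_units, hF]
      refine (Nat.Prime.coprime_iff_not_dvd hs).2 fun h => ?_
      have h7 := (Nat.dvd_sub hs1 h)
      have h8 : 2 ^ r i₀ + 1 - (2 ^ r i₀ - 1) = 2 := by
        have : 1 ≤ 2 ^ r i₀ := Nat.one_le_two_pow
        omega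
      rw [h8, Nat.prime_dvd_prime_iff_eq hs Nat.prime_two] at h7
      exact hs2 h7
    rw [h6, Nat.dvd_one, orderOf_eq_one_iff] at h5
    have := congrArg Units.val h5
    simpa using this
  -- the matrix `A`
  obtain ⟨ha3, ha1⟩ := hk1 i₃ h3
  rw [hr3] at ha3
  let A : GL (Fin 4) F := Matrix.GeneralLinearGroup.map K.subtype (k i₃)
  have hA3 : (A : Matrix (Fin 4) (Fin 4) F) ^ 3 = 1 := by
    rw [← Units.val_pow_eq_pow_val, ← map_pow, ha3, map_one, Units.val_one]
  have hA1 : (A : Matrix (Fin 4) (Fin 4) F) ≠ 1 := by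
    intro h
    apply ha1
    apply Units.ext
    ext i j
    have := congrFun (congrFun h i) j
    change ((k i₃ : Matrix (Fin 4) (Fin 4) K) i j : F) = (1 : Matrix (Fin 4) (Fin 4) F) i j at this
    rw [this, Units.val_one, Matrix.one_apply, Matrix.one_apply]
    split_ifs <;> simp
  -- the commutative ring `F[A]`
  let sA : Set (Matrix (Fin 4) (Fin 4) F) := {(A : Matrix (Fin 4) (Fin 4) F)}
  have hcm : IsMulCommutative (Algebra.adjoin F sA) := Algebra.isMulCommutative_adjoin F (by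
    rintro a rfl b rfl; rfl)
  let v := (Algebra.adjoin F sA).val
  have hv : Function.Injective v := Subtype.val_injective
  let a : Algebra.adjoin F sA := ⟨A, Algebra.subset_adjoin rfl⟩
  have hva : v a = (A : Matrix (Fin 4) (Fin 4) F) := rfl
  have ha3' : a ^ 3 = 1 := by
    apply hv
    rw [map_pow, hva, hA3, map_one]
  have h2S : (2 : Algebra.adjoin F sA) = 0 := by
    have : (2 : Algebra.adjoin F sA) = algebraMap F _ 2 := by rw [map_ofNat]
    rw [this, h2, map_zero]
  have he : (a ^ 2 + a) * (a ^ 2 + a) = a ^ 2 + a := by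
    linear_combination (a + 2) * ha3' + h2S
  let ca : F → Algebra.adjoin F sA := algebraMap F _
  let z : Algebra.adjoin F sA := ca β * a + ca α
  have hzs : (z ^ s - 1) * (a ^ 2 + a) = 0 := by
    have h4 := congrArg (Polynomial.aeval a) hR
    simp only [map_sub, map_pow, map_add, map_mul, Polynomial.aeval_C, Polynomial.aeval_C, Polynomial.aeval_X, map_one,
      map_mul, map_add, map_add, map_pow, Polynomial.aeval_X, map_one] at h4
    change (z ^ s - 1) * (a ^ 2 + a) = 0
    have h5 : z ^ s - 1 = (a ^ 2 + a + 1) * Polynomial.aeval a R := h4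
    rw [h5]
    linear_combination (Polynomial.aeval a R) * he + (Polynomial.aeval a R) * (a ^ 2 + a) * h2S
  let t' : Algebra.adjoin F sA := z * (a ^ 2 + a) + (1 - (a ^ 2 + a))
  have hts : t' ^ s = 1 := by
    change (z * (a ^ 2 + a) + (1 - (a ^ 2 + a))) ^ s = 1
    rw [torus_pow he]
    linear_combination hzs
  let T : Matrix (Fin 4) (Fin 4) F := v t'
  have hTs : T ^ s = 1 := by
    change (v t') ^ s = 1
    rw [← map_pow, hts, map_one]
  let cM : F → Matrix (Fin 4) (Fin 4) F := algebraMap F _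
  have hT : T = (cM β * A + cM α) * ((A : Matrix (Fin 4) (Fin 4) F) ^ 2 + A) +
      (1 - ((A : Matrix (Fin 4) (Fin 4) F) ^ 2 + A)) := rfl
  let M : Matrix (Fin 4) (Fin 4) F →+* Matrix (Fin 4) (Fin 4) F := (σ : F →+* F).mapMatrix
  have hMK : ∀ g : GL (Fin 4) K, M (Matrix.GeneralLinearGroup.map K.subtype g : Matrix (Fin 4) (Fin 4) F) =
      (Matrix.GeneralLinearGroup.map K.subtype g : Matrix (Fin 4) (Fin 4) F) := by
    intro g
    ext i j
    exact (hK _).1 (g.1 i j).2
  have hMA : M (A : Matrix (Fin 4) (Fin 4) F) = (A : Matrix (Fin 4) (Fin 4) F) := hMK _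
  have hMc : ∀ c : F, M (cM c) = cM (σ c) := by
    intro c
    ext i j
    change σ (algebraMap F (Matrix (Fin 4) (Fin 4) F) c i j) = algebraMap F (Matrix (Fin 4) (Fin 4) F) (σ c) i j
    rw [Matrix.algebraMap_matrix_apply, Matrix.algebraMap_matrix_apply]
    split_ifs <;> simp
  have hMT : M T = (cM (σ β) * A + cM (σ α)) * ((A : Matrix (Fin 4) (Fin 4) F) ^ 2 + A) +
      (1 - ((A : Matrix (Fin 4) (Fin 4) F) ^ 2 + A)) := by
    rw [hT]
    simp only [_root_.RingHom.map_add, _root_.RingHom.map_mul, _root_.RingHom.map_sub, _root_.RingHom.map_pow, _root_.RingHom.map_one, hMA, hMc]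
  -- `T` is not fixed by `σ`
  have hMT1 : M T ≠ T := by
    intro h4
    let γ : F := α - σ α
    let δ : F := β - σ β
    have h5 : (ca δ * a + ca γ) * (a ^ 2 + a) = 0 := by
      apply hv
      have h6 : T - M T = 0 := by rw [h4, sub_self]
      rw [hMT, hT] at h6
      have h7 : v ((ca δ * a + ca γ) * (a ^ 2 + a)) = (cM δ * A + cM γ) * ((A : Matrix (Fin 4) (Fin 4) F) ^ 2 + A) :=
        rfl
      have h8 : cM δ = cM β - cM (σ β) := map_sub (algebraMap F (Matrix (Fin 4) (Fin 4) F)) β (σ β)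
      have h9 : cM γ = cM α - cM (σ α) := map_sub (algebraMap F (Matrix (Fin 4) (Fin 4) F)) α (σ α)
      rw [h7, map_zero, ← h6, h8, h9]
      noncomm_ring
    have h6 : ca (δ ^ 2 + δ * γ + γ ^ 2) * (a ^ 2 + a) = 0 := by
      have h7 : ca (δ ^ 2 + δ * γ + γ ^ 2) = ca δ ^ 2 + ca δ * ca γ + ca γ ^ 2 := by
        change algebraMap F _ _ = _
        (rewrite [_root_.RingHom.map_add, _root_.RingHom.map_add, _root_.RingHom.map_mul]; (conv => enter [@2, @5, @5]; rw [_root_.RingHom.map_pow]); simp only [_root_.RingHom.map_pow]; with_reducible rfl)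
      rw [h7]
      linear_combination (ca δ * a + ca δ + ca γ) * h5 - (ca δ ^ 2) * he - (ca δ * ca γ * a) * (a ^ 2 + a) * h2S
    have h7 : a ^ 2 + a ≠ 0 := by
      intro h8
      have h9 : a = 1 := by linear_combination ha3' - (a - 1) * h8
      apply hA1
      rw [← hva, h9, map_one]
    have h8 : δ ^ 2 + δ * γ + γ ^ 2 = 0 := by
      by_contra hne
      apply h7
      have h9 : ca (δ ^ 2 + δ * γ + γ ^ 2)⁻¹ * (ca (δ ^ 2 + δ * γ + γ ^ 2) * (a ^ 2 + a)) = 0 := by rw [h6, mul_zero]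
      rw [← mul_assoc] at h9
      have h10 : ca (δ ^ 2 + δ * γ + γ ^ 2)⁻¹ * ca (δ ^ 2 + δ * γ + γ ^ 2) = 1 := by
        change algebraMap F _ _ * algebraMap F _ _ = 1
        rw [← map_mul, inv_mul_cancel₀ hne, map_one]
      rwa [h10, one_mul] at h9
    have h9 : δ = 0 := by
      by_contra hne
      apply hnoroot (γ / δ)
      field_simp
      linear_combination h8
    have h10 : γ = 0 := by
      rw [h9] at h8
      have : γ ^ 2 = 0 := by linear_combination h8
      exact pow_eq_zero_iff (two_ne_zero) |>.1 this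
    exact hαβ ⟨hK01 α (sub_eq_zero.1 h10).symm, hK01 β (sub_eq_zero.1 h9).symm⟩
  -- the elements of `SL`
  have hdet : T.det = 1 := by
    apply hnos
    rw [← Matrix.det_pow, hTs, Matrix.det_one]
  let t : Matrix.SpecialLinearGroup (Fin 4) F := ⟨T, hdet⟩
  have hft : (fld σ t : Matrix (Fin 4) (Fin 4) F) = M T := rfl
  have hts1 : t ^ s = 1 := by
    apply Subtype.ext
    rw [Matrix.SpecialLinearGroup.coe_pow]
    exact hTs
  have hfts : (fld σ t) ^ s = 1 := by rw [← map_pow, hts1, map_one]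
  let Y : Matrix.SpecialLinearGroup (Fin 4) F := t * (fld σ t)⁻¹
  have htc : t * fld σ t = fld σ t * t := by
    apply Subtype.ext
    rw [Matrix.SpecialLinearGroup.coe_mul, Matrix.SpecialLinearGroup.coe_mul, hft]
    change T * M T = M T * T
    have h6 : M T = v ((ca (σ β) * a + ca (σ α)) * (a ^ 2 + a) + (1 - (a ^ 2 + a))) := hMT
    rw [h6]
    change v t' * v _ = v _ * v t'
    ((conv => enter [@2]; rw [← map_mul]); simp only [← map_mul]; (conv => enter [@2, @6]; rw [mul_comm]))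
  have hYs : Y ^ s = 1 := by
    change (t * (fld σ t)⁻¹) ^ s = 1
    have h6 : Commute t (fld σ t)⁻¹ := (show Commute t (fld σ t) from htc).inv_right
    rw [h6.mul_pow, hts1, inv_pow, hfts, inv_one, one_mul]
  have hY1 : toN e Y ≠ 1 := by
    intro h6
    rw [toN_eq_one_iff] at h6
    change pr (t * (fld σ t)⁻¹) = 1 at h6
    rw [map_mul, map_inv, mul_inv_eq_one] at h6
    obtain ⟨c, hc⟩ := exists_smul_of_pr_eq h6
    apply hMT1
    have h7 : M T = c • T := hc
    have h8 : c ^ s = 1 := by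
      have h9 : (M T) ^ s = 1 := by rw [← map_pow, hTs, map_one]
      rw [h7, smul_pow, hTs] at h9
      have h10 := congrFun (congrFun h9 0) 0
      rwa [Matrix.smul_apply, Matrix.one_apply_eq, smul_eq_mul, mul_one] at h10
    rw [h7, hnos c h8, one_smul]
  -- commutation with the other members
  have hkA : ∀ i, i ≠ i₀ → (Matrix.GeneralLinearGroup.map K.subtype (k i) : Matrix (Fin 4) (Fin 4) F) *
      (A : Matrix (Fin 4) (Fin 4) F) = (A : Matrix (Fin 4) (Fin 4) F) *
      (Matrix.GeneralLinearGroup.map K.subtype (k i) : Matrix (Fin 4) (Fin 4) F) := by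
    intro i hi
    rw [← Units.val_mul, ← map_mul, hkc i i₃ hi h3, map_mul, Units.val_mul]
  have hkT : ∀ i, i ≠ i₀ → (Matrix.GeneralLinearGroup.map K.subtype (k i) : Matrix (Fin 4) (Fin 4) F) * T =
      T * (Matrix.GeneralLinearGroup.map K.subtype (k i) : Matrix (Fin 4) (Fin 4) F) := by
    intro i hi
    have h6 : Commute (Matrix.GeneralLinearGroup.map K.subtype (k i) : Matrix (Fin 4) (Fin 4) F)
      (A : Matrix (Fin 4) (Fin 4) F) := hkA i hi
    have h7 : ∀ c : F, Commute (Matrix.GeneralLinearGroup.map K.subtype (k i) : Matrix (Fin 4) (Fin 4) F) (cM c) :=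
      fun c => (Algebra.commutes c _).symm
    have h8 : Commute (Matrix.GeneralLinearGroup.map K.subtype (k i) : Matrix (Fin 4) (Fin 4) F)
        ((A : Matrix (Fin 4) (Fin 4) F) ^ 2 + A) := (h6.pow_right 2).add_right h6
    rw [hT]
    exact (((((h7 β).mul_right h6).add_right (h7 α)).mul_right h8).add_right
      ((Commute.one_right _).sub_right h8)).eq
  have hcj : ∀ i, i ≠ i₀ → cj (Matrix.GeneralLinearGroup.map K.subtype (k i)) t = t := by
    intro i hi
    apply Subtype.ext
    rw [coe_cj]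
    change _ * T * _ = T
    rw [hkT i hi, mul_assoc, ← Units.val_mul, mul_inv_cancel, Units.val_one, mul_one]
  have hxi : ∀ i, i ≠ i₀ → ∀ s, x i * toN e s * (x i)⁻¹ =
      toN e (cj (Matrix.GeneralLinearGroup.map K.subtype (k i)) s) := by
    intro i hi s
    exact conj_toN hN e (a := cj (Matrix.GeneralLinearGroup.map K.subtype (k i))) (hk i hi) s
  let x' : ι → G := Function.update x i₀ (toN e Y)
  have hcovY : Cov Ω x' := by
    have h6 := Cov.mv_comm hcov i₀ (c := toN e t) (fun j hj => by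
      have h7 := hxi j hj t
      rw [hcj j hj, mul_inv_eq_iff_eq_mul] at h7
      exact h7.symm)
    have h7 : toN e t * x i₀ * (toN e t)⁻¹ * (x i₀)⁻¹ = toN e Y := by
      have h8 : toN e t * x i₀ * (toN e t)⁻¹ * (x i₀)⁻¹ = toN e t * (x i₀ * toN e t * (x i₀)⁻¹)⁻¹ := by group
      rw [h8, conj_toN hN e (a := fld σ) hσ, ← map_inv, ← map_mul]
    rw [h7] at h6
    exact h6
  have hx0 : x' i₀ = toN e Y := Function.update_self _ _ _
  have hxj : ∀ i, i ≠ i₀ → x' i = x i := fun i hi => Function.update_of_ne hi _ _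
  have hYcj : ∀ i, i ≠ i₀ → cj (Matrix.GeneralLinearGroup.map K.subtype (k i)) Y = Y := by
    intro i hi
    have h6 : cj (Matrix.GeneralLinearGroup.map K.subtype (k i)) (fld σ t) = fld σ t := by
      have h7 := fld_cj σ (Matrix.GeneralLinearGroup.map K.subtype (k i)) t
      rw [hcj i hi] at h7
      have h8 : mapGL σ (Matrix.GeneralLinearGroup.map K.subtype (k i)) =
          Matrix.GeneralLinearGroup.map K.subtype (k i) := by
        apply Units.ext
        rw [coe_mapGL]
        ext a b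
        exact (hK _).1 ((k i).1 a b).2
      rw [h8] at h7
      exact h7.symm
    change cj _ (t * (fld σ t)⁻¹) = t * (fld σ t)⁻¹
    rw [map_mul, map_inv, h6, hcj i hi]
  have hxY : ∀ i, i ≠ i₀ → x i * toN e Y = toN e Y * x i := by
    intro i hi
    have h7 := hxi i hi Y
    rwa [hYcj i hi, mul_inv_eq_iff_eq_mul] at h7
  let r' : ι → ℕ := Function.update r i₀ s
  have hr0' : r' i₀ = s := Function.update_self _ _ _
  have hrj : ∀ i, i ≠ i₀ → r' i = r i := fun i hi => Function.update_of_ne hi _ _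
  have hsr : ∀ i, i ≠ i₀ → r i ≠ s := by
    intro i hi h
    have h6 := mat_prime hK2 (hx.prime i) (hk1 i hi).1 (hk1 i hi).2
    rw [h] at h6
    rcases h6 with h | h | h | h
    · exact hs2 h
    · exact hs3 h
    · exact hs5 h
    · exact hs7 h
  refine hL x' r' ⟨fun i => ?_, fun i j hij => ?_, fun i => ?_, fun i => ?_, fun i j => ?_⟩ hcovY fun i => ?_
  · by_cases hi : i = i₀
    · rw [hi, hr0']; exact hs
    · rw [hrj i hi]; exact hx.prime i
  · by_cases hi : i = i₀
    · by_cases hj : j = i₀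
      · rw [hi, hj]
      · rw [hi, hr0', hrj j hj] at hij
        exact absurd hij.symm (hsr j hj)
    · by_cases hj : j = i₀
      · rw [hj, hr0', hrj i hi] at hij
        exact absurd hij (hsr i hi)
      · rw [hrj i hi, hrj j hj] at hij
        exact hx.inj hij
  · by_cases hi : i = i₀
    · rw [hi, hx0, hr0', ← map_pow, hYs, map_one]
    · rw [hxj i hi, hrj i hi, hx.pow]
  · by_cases hi : i = i₀
    · rw [hi, hx0]; exact hY1
    · rw [hxj i hi]; exact hx.ne i
  · by_cases hi : i = i₀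
    · by_cases hj : j = i₀
      · rw [hi, hj]
      · rw [hi, hx0, hxj j hj, hxY j hj]
    · by_cases hj : j = i₀
      · rw [hj, hx0, hxj i hi, hxY i hi]
      · rw [hxj i hi, hxj j hj, hx.comm]
  · by_cases hi : i = i₀
    · refine ⟨(Y : GL (Fin 4) F), ?_⟩
      rw [hi, hx0, Psi_coe, toN_eq, cS_coe, MulEquiv.apply_symm_apply]
    · refine ⟨Matrix.GeneralLinearGroup.map K.subtype (k i), ?_⟩
      rw [hxj i hi, hk i hi]
      rfl

end final

end Cfsg.Agent.H930.RC
end

-- part: H930/RC/F42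
section
/-!
# S3510, row A: `FieldStmt` from the linear theorem (helper930)
-/

set_option autoImplicit false

namespace Cfsg.Agent.H930.RC

open Cfsg.Agent.H106.RC Cfsg.Agent.H202.RC MulAction
open Cfsg.Agent.ClassicalGeometry.AutPSL.Root Cfsg.Agent.ClassicalGeometry.AutPSL.Auto
open Cfsg.Agent.H199.PslAut Cfsg.Agent.H199.PslField

/-- `PSL_n` of the fixed field of `σ ≠ 1` is smaller than `PSL_n(F)` -/
theorem card_psl_lt {F : Type} [Field F] [Finite F] {n : ℕ} (hn : 3 ≤ n) {σ : F ≃+* F} (hσ1 : σ ≠ 1)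
    {K : Subfield F} (hK : ∀ a, a ∈ K ↔ σ a = a) :
    Nat.card (Matrix.ProjectiveSpecialLinearGroup (Fin n) K) <
      Nat.card (Matrix.ProjectiveSpecialLinearGroup (Fin n) F) := by
  classical
  let μ : Matrix.SpecialLinearGroup (Fin n) K →* Matrix.ProjectiveSpecialLinearGroup (Fin n) F :=
    pr.comp (Matrix.SpecialLinearGroup.map K.subtype)
  have hker : μ.ker = Subgroup.center (Matrix.SpecialLinearGroup (Fin n) K) := by
    ext s
    rw [MonoidHom.mem_ker]
    change pr (Matrix.SpecialLinearGroup.map K.subtype s) = 1 ↔ _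
    rw [pr_eq_one_iff, Matrix.SpecialLinearGroup.mem_center_iff,
      Matrix.SpecialLinearGroup.mem_center_iff]
    have hcoe : ∀ r : K, (Matrix.scalar (Fin n) (r : F)) = (Matrix.scalar (Fin n) r).map K.subtype := by
      intro r
      ext a b
      rw [Matrix.map_apply, Matrix.scalar_apply, Matrix.scalar_apply, Matrix.diagonal_apply, Matrix.diagonal_apply]
      split_ifs <;> simp
    constructor
    · rintro ⟨r, hr, h⟩
      have h0 : Nonempty (Fin n) := ⟨⟨0, by omega⟩⟩
      obtain ⟨a⟩ := h0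
      have h1 : r = ((s.1 a a : K) : F) := by
        have := congrFun (congrFun h a) a
        rw [Matrix.scalar_apply, Matrix.diagonal_apply_eq] at this
        exact this
      refine ⟨s.1 a a, ?_, ?_⟩
      · apply Subtype.ext
        rw [SubmonoidClass.coe_pow, ← h1]
        exact hr
      · have h2 : (Matrix.scalar (Fin n) (s.1 a a)).map K.subtype = s.1.map K.subtype := by
          rw [← hcoe, ← h1]
          exact h
        ext b c
        have := congrFun (congrFun h2 b) c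
        exact this
    · rintro ⟨r, hr, h⟩
      refine ⟨r, ?_, ?_⟩
      · rw [← SubmonoidClass.coe_pow, hr]
        rfl
      · rw [hcoe, h]
        rfl
  have h1 : Nat.card (Matrix.ProjectiveSpecialLinearGroup (Fin n) K) = Nat.card μ.range := by
    rw [← Nat.card_congr (QuotientGroup.quotientKerEquivRange μ).toEquiv]
    exact Nat.card_congr (QuotientGroup.quotientMulEquivOfEq hker.symm).toEquiv
  rw [h1]
  have hfin : Finite (Matrix.ProjectiveSpecialLinearGroup (Fin n) F) := inferInstance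
  have h2 : Nat.card μ.range ≤ Nat.card (Matrix.ProjectiveSpecialLinearGroup (Fin n) F) :=
    Subgroup.card_le_card_group _
  rcases lt_or_eq_of_le h2 with h | h
  · exact h
  · exfalso
    have h3 : μ.range = ⊤ := Subgroup.eq_top_of_card_eq _ h
    apply hσ1
    apply phi_injective (n := n) (by omega)
    rw [map_one]
    apply MulEquiv.ext
    intro y
    have hy : y ∈ μ.range := by rw [h3]; trivial
    obtain ⟨s, rfl⟩ := hy
    rw [MulAut.one_apply]
    change phi n F σ (pr (Matrix.SpecialLinearGroup.map K.subtype s)) = pr (Matrix.SpecialLinearGroup.map K.subtype s)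
    rw [phi_pr]
    congr 1
    have : Matrix.SpecialLinearGroup.map K.subtype s ∈ fixSL n σ := by
      rw [fixSL_eq hK]
      exact ⟨s, rfl⟩
    exact this

/-- **FieldStmt from the linear theorem.** -/
theorem fieldStmt
    (hL : ∀ (F V G Ω ι : Type) [Field F] [Finite F] [AddCommGroup V] [Module F V] [Module.Finite F V] [Group G]
      [Finite G] [Finite Ω] [Nonempty Ω] [MulAction G Ω] [Finite ι] (N : Subgroup G) (κ : SLV F V →* G) (x : ι → G)
      (r : ι → ℕ) (a : ι → V ≃ₗ[F] V) (_ : LinCov Ω N κ x r a) (_ : 3 ≤ Module.finrank F V)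
      (_ : ¬ (Nat.card F = 2 ∧ Module.finrank F V = 4)) (_ : IH (Nat.card N)), False) : FieldStmt := by
  intro F _ _ n hn G _ _ Ω _ _ _ N hE e hne hIH ι _ x r hx hcov hmin hlin hfield
  obtain ⟨i₀, g, σ, hσ, hσ1⟩ := hfield
  change cS hE.norm e (x i₀) = _ at hσ
  have hlin' : ∀ i, ∃ (g : GL (Fin n) F) (σ : F ≃+* F), cS hE.norm e (x i) = Psi n F g * phi n F σ := hlin
  obtain ⟨K, hK, hcK⟩ := card_fix σ
  have hKu : ∀ K' : Subfield F, (∀ a, a ∈ K' ↔ σ a = a) → K' = K := by
    intro K' hK'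
    ext a
    rw [hK', hK]
  by_cases hex : n = 4 ∧ Nat.card K = 2
  · -- the exceptional case
    obtain ⟨rfl, hK2⟩ := hex
    by_cases hone : ∃ i₁, ∀ i, i ≠ i₁ → i = i₀
    · exact field_dead_gen hn hE e hx hcov hlin' hσ1 hσ (Or.inr hone)
    push Not at hone
    obtain ⟨e', hσ', hl⟩ := exists_std (by norm_num) hE.norm e hσ1 hσ (hx.prime i₀) (hx.pow i₀)
    have hlin'' : ∀ i, ∃ (g : GL (Fin 4) F) (σ : F ≃+* F), cS hE.norm e' (x i) = Psi 4 F g * phi 4 F σ := by
      intro i
      obtain ⟨g, τ, h⟩ := hlin' i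
      obtain ⟨g', h'⟩ := hl _ _ ⟨g, h⟩
      exact ⟨g', τ, h'⟩
    obtain ⟨k, hk, hkc, hk1⟩ := exists_mat hn hE e' hx hlin'' hσ' hK hK2
    obtain ⟨j₁, -, hj₁⟩ := hone i₀
    obtain ⟨j₂, hj₁₂, hj₂⟩ := hone j₁
    have hrr : r j₁ ≠ r j₂ := fun h => hj₁₂ (hx.inj h).symm
    have hord := mat_orders hK2 (hx.prime j₁) (hx.prime j₂) hrr (hk1 j₁ hj₁).1 (hk1 j₁ hj₁).2
      (hk1 j₂ hj₂).1 (hk1 j₂ hj₂).2 (hkc j₁ j₂ hj₁ hj₂)
    obtain ⟨i₃, i₄, h3, h4, hr3, hr4⟩ : ∃ i₃ i₄, i₃ ≠ i₀ ∧ i₄ ≠ i₀ ∧ r i₃ = 3 ∧ (r i₄ = 2 ∨ r i₄ = 5) := by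
      rcases hord with ⟨h, h'⟩ | ⟨h, h'⟩
      · exact ⟨j₁, j₂, hj₁, hj₂, h, h'⟩
      · exact ⟨j₂, j₁, hj₂, hj₁, h, h'⟩
    by_cases hr0 : r i₀ = 2
    · have hr4' : r i₄ = 5 := by
        rcases hr4 with h | h
        · exact absurd (hx.inj (h.trans hr0.symm)) h4
        · exact h
      refine dead_four hE e' hx hcov hσ1 hσ' hK hK2 hk hkc hk1 hr0 h3 h4 hr3 hr4' fun i => ?_
      by_contra hno
      push Not at hno
      obtain ⟨hi0, hi3, hi4⟩ := hno
      have hri : r i ≠ r i₃ := fun h => hi3 (hx.inj h)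
      have hord := mat_orders hK2 (hx.prime i) (hx.prime i₃) hri (hk1 i hi0).1 (hk1 i hi0).2
        (hk1 i₃ h3).1 (hk1 i₃ h3).2 (hkc i i₃ hi0 h3)
      rcases hord with ⟨h, -⟩ | ⟨-, h | h⟩
      · exact hri (h.trans hr3.symm)
      · exact hi0 (hx.inj (h.trans hr0.symm))
      · exact hi4 (hx.inj (h.trans hr4'.symm))
    · have hr03 : r i₀ ≠ 3 := fun h => h3 (hx.inj (hr3.trans h.symm))
      have hp := hx.prime i₀
      have h5 : 5 ≤ r i₀ := by
        have h2 := hp.two_le
        by_contra hlt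
        push Not at hlt
        have h6 : r i₀ = 4 := by omega
        rw [h6] at hp
        revert hp
        norm_num
      have hσr : σ ^ r i₀ = 1 := by
        apply phi_injective (n := 4) (by norm_num)
        rw [map_pow, ← hσ', ← map_pow, hx.pow, map_one, map_one]
      have hoσ : orderOf σ = r i₀ := by
        have := Fact.mk hp
        exact orderOf_eq_prime hσr hσ1
      rw [hoσ, hK2] at hcK
      refine dead_odd hE e' hx hcov hσ' hK hK2 hcK.symm hk hkc hk1 h5 h3 hr3 fun x' r' hx' hcov' hP => ?_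
      refine lin_noCov hL hn hE e' ?_ hIH hx' hcov' hP
      rintro ⟨-, h⟩
      rw [h] at hcK
      have h6 : (2 : ℕ) ^ 5 ≤ 2 ^ r i₀ := Nat.pow_le_pow_right (by norm_num) h5
      omega
  · -- the general case
    refine field_dead hn hE e hx hcov hlin' hσ1 hσ fun K' hK' => ?_
    rw [hKu K' hK']
    have hFK : Fintype K := Fintype.ofFinite K
    have hS : IsSimpleGroup (Matrix.ProjectiveSpecialLinearGroup (Fin n) K) :=
      LieClassical.SLGen.psl_isSimpleGroup (by rw [Fintype.card_fin]; exact hn)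
    have hperf0 : commutator (Matrix.SpecialLinearGroup (Fin n) K) = ⊤ :=
      LieClassical.SLGen.commutator_eq_top (by rw [Fintype.card_fin]; exact hn)
    have hSn : ¬ IsMulCommutative (Matrix.ProjectiveSpecialLinearGroup (Fin n) K) := by
      intro hcomm
      have hc : ∀ a b : Matrix.ProjectiveSpecialLinearGroup (Fin n) K, a * b = b * a :=
        fun a b => hcomm.is_comm.comm a b
      have h1 : Group.IsPerfect (Matrix.SpecialLinearGroup (Fin n) K) := ⟨hperf0⟩
      have h2 : Group.IsPerfect (Matrix.ProjectiveSpecialLinearGroup (Fin n) K) := inferInstance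
      have h3 := h2.commutator_eq_top
      rw [commutator_def, Subgroup.commutator_eq_bot_iff_le_centralizer.2] at h3
      · obtain ⟨a, b, hab⟩ := hS.exists_pair_ne
        apply hab
        have h4 : ∀ c : Matrix.ProjectiveSpecialLinearGroup (Fin n) K, c = 1 := by
          intro c
          have : c ∈ (⊤ : Subgroup (Matrix.ProjectiveSpecialLinearGroup (Fin n) K)) := trivial
          rw [← h3] at this
          exact Subgroup.mem_bot.1 this
        rw [h4 a, h4 b]
      · intro a _ b _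
        exact hc b a
    refine hIH _ hS hSn (Or.inl ⟨K, inferInstance, hFK, n, by omega, by omega, ⟨MulEquiv.refl _⟩⟩) (fun hexc => ?_)
      (card_psl_lt hn hσ1 hK)
    rcases psl_exc (by omega) hexc with ⟨h, -⟩ | ⟨h, h'⟩
    · omega
    · exact hex ⟨h, by rw [Nat.card_eq_fintype_card]; exact h'⟩

end Cfsg.Agent.H930.RC
end

-- part: H384/RC/RowPSL
section
/-!
# S3510: the row `PSL_n`, unconditional (helper384)
-/

set_option autoImplicit false

namespace Cfsg.Agent.H384.RC

open Matrix Cfsg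
open Cfsg.Agent.H106.RC Cfsg.Agent.H202.RC

/-- **the row `PSL_n`, all `n ≥ 2`** -/
theorem row_psl_all : Row (fun S _ => IsPSL S) := by
  refine row_isPSL (Cfsg.Agent.H930.RC.fieldStmt no_lin) ?_
  intro S _ _ _ _ hS hE hIH
  obtain ⟨F, _, _, h4, ⟨e⟩⟩ := hS
  exact Cfsg.Agent.H183.RC.rc_psl2 hE hIH (by rw [Nat.card_eq_fintype_card]; exact h4) e

end Cfsg.Agent.H384.RC
end

-- part: H911/RC/ExcThree
section
/-!
# S3510, triality, characteristic three: the exceptional case (helper911)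

`Spl τ z w`, `|F| = 3`, `s` an isometric automorphism of `dia τ` of squarefree order prime to three whose fixed space is
`⟨z, w⟩`: then `z ⋄ x = - x` for `x` in `An h z w` (`L_An`), so `z` is a para-unit.
-/

set_option autoImplicit false

namespace Cfsg.Agent.H911.RC

open Module QuadraticMap Cfsg.Agent.LieClassical.OrthCore Cfsg.Agent.LieClassical.OrthTrans
  Cfsg.Agent.LieClassical.OrthSimple Cfsg.Agent.ClassicalGeometry.OrthAut1
  Cfsg.Agent.ClassicalGeometry.OrthSemi Cfsg.Agent.H198.Classes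
  Cfsg.Agent.LieClassical.QuadForms Cfsg.Agent.H198.ClassesPlus
  Cfsg.Agent.ClassicalGeometry.TrialityOct Cfsg.Agent.ClassicalGeometry.Triality
  Cfsg.Agent.ClassicalGeometry.TrialitySpaces Cfsg.Agent.H198.TriBase Cfsg.Agent.H198.TriAut
  Cfsg.Agent.H198.TriDia Cfsg.Agent.H198.TriTC Cfsg.Agent.H198.TwComp
open Cfsg.Agent.H566.RC (Au Kp)

universe u

variable {F : Type u} [Field F]

/-! ### Small spaces over the field with three elements -/

theorem dvd_two_of {o n : ℕ} (h : o ∣ 48) (hn : o ∣ n) (hsq : Squarefree n) (hn3 : ¬ 3 ∣ n) : o ∣ 2 := by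
  have h4 : ¬ 4 ∣ o := by
    intro h4
    have := hsq 2 (h4.trans hn)
    exact absurd (Nat.isUnit_iff.1 this) (by norm_num)
  have h3 : ¬ 3 ∣ o := fun h3 => hn3 (h3.trans hn)
  have h5 : o ∈ Nat.divisors 48 := Nat.mem_divisors.2 ⟨h, by norm_num⟩
  have h6 : Nat.divisors 48 = {1, 2, 3, 4, 6, 8, 12, 16, 24, 48} := by decide
  rw [h6] at h5
  simp only [Finset.mem_insert, Finset.mem_singleton] at h5
  rcases h5 with rfl | rfl | rfl | rfl | rfl | rfl | rfl | rfl | rfl | rfl <;> (clear * - hn3 hn h4; omega)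

theorem sq_of_small (hF : Nat.card F = 3) {V : Type*} [AddCommGroup V] [Module F V] [FiniteDimensional F V]
    {s : V ≃ₗ[F] V} {n : ℕ} (hn : s ^ n = 1) (hsq : Squarefree n) (hn3 : ¬ 3 ∣ n) {A : Submodule F V}
    (hA : ∀ x ∈ A, s x ∈ A) (hd : finrank F A ≤ 2) : ∀ x ∈ A, s (s x) = x := by
  classical
  have hfin : Finite F := Nat.finite_of_card_ne_zero (by rw [hF]; norm_num)
  have := Fintype.ofFinite F
  have hF' : Fintype.card F = 3 := by rw [← Nat.card_eq_fintype_card, hF]
  let f : Module.End F A := (s : V →ₗ[F] V).restrict hA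
  have hf : ∀ (k : ℕ) (x : A), (((f ^ k) x : A) : V) = (s ^ k) (x : V) := by
    intro k
    induction k with
    | zero => intro x; rfl
    | succ k ih =>
      intro x
      rw [pow_succ, pow_succ, Module.End.mul_apply, LinearEquiv.mul_apply, ih]
      rfl
  have hfn : f ^ n = 1 := by
    apply LinearMap.ext
    intro x
    apply Subtype.ext
    rw [hf, hn]
    rfl
  let g : (Module.End F A)ˣ := Units.ofPowEqOne f n hfn hsq.ne_zero
  have hgn : g ^ n = 1 := Units.pow_ofPowEqOne hfn hsq.ne_zero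
  have hcard : Nat.card (Module.End F A)ˣ ∣ 48 := by
    rw [Nat.card_congr (Units.mapEquiv (LinearMap.toMatrixAlgEquiv (Module.finBasis F A)).toMulEquiv).toEquiv]
    change Nat.card (GL (Fin (finrank F A)) F) ∣ 48
    rw [Matrix.card_GL_field]
    have h2 : finrank F A = 0 ∨ finrank F A = 1 ∨ finrank F A = 2 := by omega
    rcases h2 with h2 | h2 | h2 <;> rw [h2, hF'] <;> simp only [Fin.prod_univ_two, _root_.Finset.univ_eq_empty, _root_.pow_zero, _root_.Finset.prod_empty, _root_.isUnit_iff_eq_one, _root_.IsUnit.dvd, _root_.Finset.univ_unique, _root_.Fin.default_eq_zero, _root_.Fin.isValue, _root_.pow_one, _root_.Fin.val_eq_zero, _root_.Nat.add_one_sub_one, _root_.Finset.prod_const, _root_.Finset.card_singleton, _root_.Nat.reduceDvd, _root_.Nat.reducePow, _root_.Fin.coe_ofNat_eq_mod, _root_.Nat.zero_mod, _root_.Nat.mod_succ, _root_.Nat.reduceSub, _root_.Nat.reduceMul, _root_.dvd_refl]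
  have ho : orderOf g ∣ 2 := dvd_two_of ((orderOf_dvd_natCard g).trans hcard) (orderOf_dvd_of_pow_eq_one hgn) hsq hn3
  have hg2 : g ^ 2 = 1 := orderOf_dvd_iff_pow_eq_one.1 ho
  have hf2 : f ^ 2 = 1 := by
    have := congrArg Units.val hg2
    rwa [Units.val_pow_eq_pow_val] at this
  intro x hx
  have h1 := hf 2 ⟨x, hx⟩
  rw [hf2, pow_two, LinearEquiv.mul_apply] at h1
  exact h1.symm

/-! ### The split plane -/

section split

variable {τ : G8 F} (h : Au τ)

include h

theorem dneg_left (u w : V8 F) : dia τ (-u) w = -dia τ u w := (H675.RC.tc_dia h).neg_left u w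

theorem dneg_right (u w : V8 F) : dia τ u (-w) = -dia τ u w := (H675.RC.tc_dia h).neg_right u w

theorem dzero_left (u : V8 F) : dia τ 0 u = 0 := (H675.RC.tc_dia h).zero_left u

theorem dzero_right (u : V8 F) : dia τ u 0 = 0 := (H675.RC.tc_dia h).zero_right u

theorem Spl.neg {z w : V8 F} (S : Spl τ z w) : Spl τ z (-w) := by
  refine ⟨S.qz, ?_, ?_, S.zz, ?_, ?_, ?_⟩
  · rw [QuadraticMap.map_neg, S.qw]
  · rw [polar_neg_right, S.perp, neg_zero]
  · rw [dneg_right h, S.zw]
  · rw [dneg_left h, S.wz]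
  · rw [dneg_left h, dneg_right h, neg_neg, S.ww]

/-- the annihilator of `z + w` in `⟨z, w⟩^⊥` -/
def An (z w : V8 F) : Submodule F (V8 F) where
  carrier := {x | polar (plusForm 4 F) z x = 0 ∧ polar (plusForm 4 F) w x = 0 ∧ dia τ (z + w) x = 0}
  add_mem' := by
    rintro x y ⟨h1, h2, h3⟩ ⟨h4, h5, h6⟩
    refine ⟨?_, ?_, ?_⟩
    · rw [polar_add_right, h1, h4, add_zero]
    · rw [polar_add_right, h2, h5, add_zero]
    · rw [h.dia_add_right, h3, h6, add_zero]
  zero_mem' := ⟨polar_zero_right _ _, polar_zero_right _ _, dzero_right h _⟩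
  smul_mem' := by
    rintro c x ⟨h1, h2, h3⟩
    refine ⟨?_, ?_, ?_⟩
    · rw [polar_smul_right, h1, smul_zero]
    · rw [polar_smul_right, h2, smul_zero]
    · rw [h.dia_smul_right, h3, smul_zero]

variable {z w : V8 F}

variable (S : Spl τ z w) (h3 : (3 : F) = 0)

omit h in
include h3 in
theorem two_ne : (2 : F) ≠ 0 := by
  intro h2
  have : (1 : F) = 0 := by linear_combination h3 - h2
  exact one_ne_zero this

omit h in
include S in
theorem Spl.pzz : polar (plusForm 4 F) z z = 2 := by rw [polar_self', S.qz, mul_one]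

omit h in
include S in
theorem Spl.pww : polar (plusForm 4 F) w w = -2 := by rw [polar_self', S.qw]; ring

omit h in
include S in
theorem Spl.pwz : polar (plusForm 4 F) w z = 0 := by rw [polar_comm, S.perp]

omit h in
include S h3 in
theorem Spl.ne_zero : z + w ≠ 0 := by
  intro e
  have e1 : polar (plusForm 4 F) z (z + w) = 0 := by rw [e, polar_zero_right]
  rw [polar_add_right, S.pzz, S.perp, add_zero] at e1
  exact two_ne h3 e1

omit h in
include S in
theorem Spl.qu : plusForm 4 F (z + w) = 0 := by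
  rw [Q_add, S.qz, S.qw, S.perp]
  ring

include S h3

/-- `An` is totally singular -/
theorem An_sing {x : V8 F} (hx : x ∈ An h z w) : plusForm 4 F x = 0 := by
  have h1 := h.dia_dia' x (z + w)
  rw [hx.2.2, dzero_right h] at h1
  exact (smul_eq_zero.1 h1.symm).resolve_right (S.ne_zero h3)

theorem An_right {x : V8 F} (hx : x ∈ An h z w) : dia τ x (z - w) = 0 := by
  have h1 := h.lin2 x (z + w) (z + w)
  have h2 : dia τ (z + w) (z + w) = (2 : F) • (z - w) := by
    rw [h.dia_add_left, h.dia_add_right, h.dia_add_right, S.zz, S.zw, S.wz, S.ww]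
    module
  have h4 : polar (plusForm 4 F) x (z + w) = 0 := by
    rw [polar_comm, polar_add_left, hx.1, hx.2.1, add_zero]
  rw [hx.2.2, dzero_right h, add_zero, h2, h.dia_smul_right, h4, zero_smul] at h1
  exact (smul_eq_zero.1 h1).resolve_left (two_ne h3)

theorem An_L {x : V8 F} (hx : x ∈ An h z w) : dia τ z x ∈ An h z w := by
  refine ⟨?_, ?_, ?_⟩
  · rw [← h.assoc, S.zz, hx.1]
  · rw [← h.assoc, S.wz, polar_neg_left, hx.2.1, neg_zero]
  · have h1 := h.lin2 (z + w) z x
    have h2 : dia τ z (z + w) = z - w := by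
      rw [h.dia_add_right, S.zz, S.zw, sub_eq_add_neg]
    rw [h2, An_right h S h3 hx, add_zero, polar_add_left, hx.1, hx.2.1, add_zero, zero_smul] at h1
    exact h1

omit h3 in
theorem L_cube {x : V8 F} (hx : polar (plusForm 4 F) z x = 0) : dia τ z (dia τ z (dia τ z x)) = -x := by
  have h1 := h.lin2 z z x
  rw [S.zz, hx, zero_smul] at h1
  rw [eq_neg_of_add_eq_zero_left h1, dneg_right h, h.dia_dia', S.qz, one_smul]

/-- `dim An ≤ 3` -/
theorem An_finrank (hG : Good (plusForm 4 F)) : finrank F (An h z w) ≤ 3 := by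
  have hu : z + w ∉ An h z w := by
    intro hu
    have e1 := hu.1
    rw [polar_add_right, S.pzz, S.perp, add_zero] at e1
    exact two_ne h3 e1
  obtain ⟨A, hA⟩ : ∃ A : Submodule F (V8 F), A = An h z w ⊔ Submodule.span F {z + w} := ⟨_, rfl⟩
  have hts : ∀ a ∈ A, plusForm 4 F a = 0 := by
    intro a ha
    rw [hA] at ha
    obtain ⟨x, hx, y, hy, rfl⟩ := Submodule.mem_sup.1 ha
    obtain ⟨c, rfl⟩ := Submodule.mem_span_singleton.1 hy
    simp only [Q_add, An_sing h S h3 hx, QuadraticMap.map_smul, S.qu, polar_smul_right, polar_add_right,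
      polar_comm _ x z, polar_comm _ x w, hx.1, hx.2.1]
    simp
  have h1 : finrank F A + finrank F A ≤ finrank F (V8 F) :=
    finrank_add_le hG.nondeg (A := A) (B := A) fun a ha b hb => polar_zero_of hts ha hb
  have h2 : finrank F (V8 F) = 8 := by
    rw [Module.finrank_fintype_fun_eq_card, Fintype.card_sum, Fintype.card_fin]
  have h7 : An h z w ⊓ Submodule.span F {z + w} = ⊥ := by
    rw [Submodule.eq_bot_iff]
    rintro v ⟨hv1, hv2⟩
    obtain ⟨c, rfl⟩ := Submodule.mem_span_singleton.1 hv2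
    by_cases hc : c = 0
    · rw [hc, zero_smul]
    · exfalso
      apply hu
      have := (An h z w).smul_mem c⁻¹ hv1
      rwa [smul_smul, inv_mul_cancel₀ hc, one_smul] at this
  have h4 : finrank F A = finrank F (An h z w) + 1 := by
    have h5 := Submodule.finrank_sup_add_finrank_inf_eq (An h z w) (Submodule.span F {z + w})
    rw [h7, finrank_bot, add_zero] at h5
    rw [hA, h5, finrank_span_singleton (S.ne_zero h3)]
  omega

omit h3 in
/-- `⟨z, w⟩^⊥` is a bimodule -/
theorem W_left {x : V8 F} (h1 : polar (plusForm 4 F) z x = 0) (h2 : polar (plusForm 4 F) w x = 0) (α β : F) :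
    polar (plusForm 4 F) z (dia τ (α • z + β • w) x) = 0 ∧ polar (plusForm 4 F) w (dia τ (α • z + β • w) x) = 0 := by
  constructor
  · (rewrite [← h.assoc, h.dia_add_right, h.dia_smul_right, h.dia_smul_right, S.zz, S.zw, polar_add_left, polar_smul_left]; simp only [polar_smul_left]; simp only [polar_neg_left]; rewrite [h1, h2])
    simp
  · (rewrite [← h.assoc, h.dia_add_right, h.dia_smul_right, h.dia_smul_right, S.wz, S.ww, polar_add_left, polar_smul_left]; simp only [polar_smul_left]; simp only [polar_neg_left]; rewrite [h1, h2])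
    simp

omit h3 in
theorem W_right {x : V8 F} (h1 : polar (plusForm 4 F) z x = 0) (h2 : polar (plusForm 4 F) w x = 0) (α β : F) :
    polar (plusForm 4 F) z (dia τ x (α • z + β • w)) = 0 ∧ polar (plusForm 4 F) w (dia τ x (α • z + β • w)) = 0 := by
  have h1' : polar (plusForm 4 F) x z = 0 := by rw [polar_comm, h1]
  have h2' : polar (plusForm 4 F) x w = 0 := by rw [polar_comm, h2]
  constructor
  · (rewrite [polar_comm, h.assoc, h.dia_add_left, h.dia_smul_left, h.dia_smul_left, S.zz, S.wz, polar_add_right, polar_smul_right]; simp only [polar_smul_right]; simp only [polar_neg_right]; rewrite [h1', h2'])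
    simp
  · (rewrite [polar_comm, h.assoc, h.dia_add_left, h.dia_smul_left, h.dia_smul_left, S.zw, S.ww, polar_add_right, polar_smul_right]; simp only [polar_smul_right]; simp only [polar_neg_right]; rewrite [h1', h2'])
    simp

/-- decomposition of `⟨z, w⟩^⊥` -/
theorem W_dec {x : V8 F} (h1 : polar (plusForm 4 F) z x = 0) (h2 : polar (plusForm 4 F) w x = 0) :
    ∃ x₁ ∈ An h z w, ∃ y₁ ∈ An h z (-w), x = x₁ + y₁ := by
  have e := h.lin1 (z + w) x (z - w)
  have e1 : polar (plusForm 4 F) (z + w) (z - w) = 1 := by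
    rw [polar_add_left, polar_sub_right, polar_sub_right, S.pzz, S.perp, S.pwz, S.pww]
    linear_combination h3
  rw [e1, one_smul] at e
  have hzw : z + w = (1 : F) • z + (1 : F) • w := by rw [one_smul, one_smul]
  have hzw' : z - w = (1 : F) • z + (-1 : F) • w := by rw [one_smul, neg_one_smul, sub_eq_add_neg]
  refine ⟨dia τ (dia τ (z - w) x) (z + w), ⟨?_, ?_, ?_⟩, dia τ (dia τ (z + w) x) (z - w), ⟨?_, ?_, ?_⟩, ?_⟩
  · rw [hzw, hzw']
    exact (W_right h S (W_left h S h1 h2 _ _).1 (W_left h S h1 h2 _ _).2 _ _).1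
  · rw [hzw, hzw']
    exact (W_right h S (W_left h S h1 h2 _ _).1 (W_left h S h1 h2 _ _).2 _ _).2
  · rw [h.dia_dia', S.qu, zero_smul]
  · rw [hzw, hzw']
    exact (W_right h S (W_left h S h1 h2 _ _).1 (W_left h S h1 h2 _ _).2 _ _).1
  · rw [polar_neg_left, hzw, hzw', (W_right h S (W_left h S h1 h2 _ _).1 (W_left h S h1 h2 _ _).2 _ _).2, neg_zero]
  · rw [← sub_eq_add_neg, h.dia_dia', sub_eq_add_neg, (Spl.neg h S).qu, zero_smul]
  · exact e.symm.trans (add_comm _ _)

omit h S h3 in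
/-- powers -/
theorem pow_two_fix {s : V8 F ≃ₗ[F] V8 F} {x : V8 F} (hx : s (s x) = x) (l : ℕ) :
    (s ^ (2 * l)) x = x ∧ (s ^ (2 * l + 1)) x = s x := by
  have h1 : (s ^ (2 * l)) x = x := by
    induction l with
    | zero => rfl
    | succ l ih =>
      have e : s ^ (2 * (l + 1)) = s ^ (2 * l) * (s * s) := by
        rw [mul_add, mul_one, pow_add, pow_two s]
      rw [e, LinearEquiv.mul_apply, LinearEquiv.mul_apply, hx, ih]
  refine ⟨h1, ?_⟩
  rw [pow_succ', LinearEquiv.mul_apply, h1]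

end split

/-- **in the exceptional case `L_z = -1` on the annihilator** -/
theorem L_An (hG : Good (plusForm 4 F)) (hF : Nat.card F = 3) (h3 : (3 : F) = 0) {τ : G8 F} (h : Au τ) {z w : V8 F}
    (S : Spl τ z w) {s : V8 F ≃ₗ[F] V8 F} (hs : s ∈ O (plusForm 4 F))
    (hm : ∀ u w, s (dia τ u w) = dia τ (s u) (s w)) {n : ℕ} (hn : s ^ n = 1) (hsq : Squarefree n) (hn3 : ¬ 3 ∣ n)
    (hz : s z = z) (hw : s w = w) (hfix : ∀ x, s x = x → ∃ α β : F, x = α • z + β • w) :
    ∀ x ∈ An h z w, dia τ z x = -x := by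
  have h2 := two_ne h3
  have hpol : ∀ g ∈ O (plusForm 4 F), ∀ x y, polar (plusForm 4 F) (g x) (g y) = polar (plusForm 4 F) x y := by
    intro g hg x y
    have hg' : ∀ v, plusForm 4 F (g v) = plusForm 4 F v := hg
    rw [polar, ← map_add, hg', hg', hg', polar]
  -- no fixed vectors
  have hfix0 : ∀ x, polar (plusForm 4 F) z x = 0 → polar (plusForm 4 F) w x = 0 → s x = x → x = 0 := by
    intro x h1 h4 h5
    obtain ⟨α, β, rfl⟩ := hfix x h5
    simp only [polar_add_right, polar_smul_right, polar_smul_right, S.pzz, S.perp, smul_zero, add_zero] at h1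
    simp only [polar_add_right, polar_smul_right, polar_smul_right, S.pwz, S.pww, smul_zero, zero_add] at h4
    have e1 : α = 0 := (mul_eq_zero.1 h1).resolve_right h2
    have e2 : β = 0 := (mul_eq_zero.1 h4).resolve_right (neg_ne_zero.2 h2)
    rw [e1, e2, zero_smul, zero_smul, add_zero]
  -- invariance
  have hinv : ∀ {w' : V8 F}, s w' = w' → ∀ x ∈ An h z w', s x ∈ An h z w' := by
    intro w' hw' x hx
    refine ⟨?_, ?_, ?_⟩
    · have := hpol s hs z x
      rw [hz] at this
      rw [this, hx.1]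
    · have := hpol s hs w' x
      rw [hw'] at this
      rw [this, hx.2.1]
    · have := hm (z + w') x
      rw [hx.2.2, map_zero, map_add, hz, hw'] at this
      exact this.symm
  have hinvk : ∀ {w' : V8 F}, s w' = w' → ∀ (k : ℕ), ∀ x ∈ An h z w', (s ^ k) x ∈ An h z w' := by
    intro w' hw' k
    induction k with
    | zero => intro x hx; exact hx
    | succ k ih =>
      intro x hx
      rw [pow_succ', LinearEquiv.mul_apply]
      exact hinv hw' _ (ih x hx)
  by_contra hcon
  push Not at hcon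
  obtain ⟨x₀, hx₀, hne⟩ := hcon
  -- `f = L + 1`
  let f : V8 F →ₗ[F] V8 F :=
    { toFun := fun x => dia τ z x + x
      map_add' := fun x y => by rw [h.dia_add_right]; abel
      map_smul' := fun c x => by rw [h.dia_smul_right, RingHom.id_apply, smul_add] }
  have hf : ∀ x, f x = dia τ z x + x := fun _ => rfl
  have hfA : ∀ x ∈ An h z w, f x ∈ An h z w := fun x hx => (An h z w).add_mem (An_L h S h3 hx) hx
  have hf3 : ∀ x ∈ An h z w, f (f (f x)) = 0 := by
    intro x hx
    rw [hf x, hf, hf]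
    simp only [h.dia_add_right]
    rw [L_cube h S hx.1]
    have e : -x + dia τ z (dia τ z x) + (dia τ z (dia τ z x) + dia τ z x) + (dia τ z (dia τ z x) + dia τ z x +
        (dia τ z x + x)) = (3 : F) • (dia τ z (dia τ z x) + dia τ z x) := by
      module
    rw [e, h3, zero_smul]
  set X₁ := An h z w ⊓ LinearMap.ker f with hX₁
  have hf0 : f x₀ ≠ 0 := fun e => hne (eq_neg_of_add_eq_zero_left e)
  obtain ⟨x₁, hx₁, hx₁0⟩ : ∃ x ∈ X₁, x ≠ 0 := by
    by_cases e : f (f x₀) = 0
    · exact ⟨f x₀, ⟨hfA _ hx₀, e⟩, hf0⟩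
    · exact ⟨f (f x₀), ⟨hfA _ (hfA _ hx₀), hf3 _ hx₀⟩, e⟩
  have hlt : finrank F X₁ < finrank F (An h z w) := by
    apply Submodule.finrank_lt_finrank_of_lt
    refine lt_of_le_of_ne inf_le_left fun e => hf0 ?_
    have : x₀ ∈ X₁ := by rw [e]; exact hx₀
    exact this.2
  have h3d := An_finrank h S h3 hG
  have hX₁s : ∀ x ∈ X₁, s x ∈ X₁ := by
    rintro x ⟨hx, hx'⟩
    refine ⟨hinv hw x hx, ?_⟩
    have e : f x = 0 := hx'
    have e1 := congrArg s e
    rw [hf, map_add, hm, hz, map_zero] at e1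
    exact e1
  have hX₁2 := sq_of_small hF hn hsq hn3 hX₁s (by omega)
  by_cases hpar : Even n
  swap
  · -- `n` odd
    rw [Nat.not_even_iff_odd] at hpar
    obtain ⟨l, rfl⟩ := hpar
    have e1 := (pow_two_fix (hX₁2 x₁ hx₁) l).2
    rw [hn] at e1
    exact hx₁0 (hfix0 x₁ hx₁.1.1 hx₁.1.2.1 e1.symm)
  obtain ⟨k, hk⟩ := hpar
  have hk2 : n = 2 * k := by omega
  have hkodd : ¬ 2 ∣ k := by
    intro h4
    have h5 : 2 * 2 ∣ n := by
      rw [hk2]
      exact Nat.mul_dvd_mul_left 2 h4
    exact absurd (Nat.isUnit_iff.1 (hsq 2 h5)) (by norm_num)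
  obtain ⟨l, hl⟩ : ∃ l, k = 2 * l + 1 := ⟨k / 2, by omega⟩
  set m := s ^ k with hmk
  have hmO : m ∈ O (plusForm 4 F) := (O (plusForm 4 F)).pow_mem hs k
  have hmm : ∀ x, m (m x) = x := by
    intro x
    have e : m * m = 1 := by rw [hmk, ← pow_add, ← two_mul, ← hk2, hn]
    rw [← LinearEquiv.mul_apply, e]
    rfl
  have hms : ∀ x, m (s x) = s (m x) := by
    intro x
    rw [← LinearEquiv.mul_apply, ← LinearEquiv.mul_apply, hmk, ← pow_succ, ← pow_succ']
  have hmz : m z = z := by
    have : ∀ j : ℕ, (s ^ j) z = z := by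
      intro j
      induction j with
      | zero => rfl
      | succ j ih => rw [pow_succ, LinearEquiv.mul_apply, hz, ih]
    exact this k
  have hmw : m w = w := by
    have : ∀ j : ℕ, (s ^ j) w = w := by
      intro j
      induction j with
      | zero => rfl
      | succ j ih => rw [pow_succ, LinearEquiv.mul_apply, hw, ih]
    exact this k
  have hsm : ∀ {x}, s (s x) = x → m x = s x := by
    intro x hx
    rw [hmk, hl]
    exact (pow_two_fix hx l).2
  -- `m = -1` on `X₁`
  have hX₁m : ∀ x ∈ X₁, m x = -x := by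
    intro x hx
    have e1 : x + s x ∈ X₁ := X₁.add_mem hx (hX₁s x hx)
    have e2 : s (x + s x) = x + s x := by rw [map_add, hX₁2 x hx, add_comm]
    have e3 := hfix0 _ e1.1.1 e1.1.2.1 e2
    rw [hsm (hX₁2 x hx)]
    exact (eq_neg_of_add_eq_zero_right e3)
  -- the fixed vectors of `m` in `An`
  set X₂ := An h z w ⊓ LinearMap.ker ((m : V8 F →ₗ[F] V8 F) - 1) with hX₂
  have hmem₂ : ∀ x, x ∈ X₂ ↔ x ∈ An h z w ∧ m x = x := by
    intro x
    rw [hX₂, Submodule.mem_inf, LinearMap.mem_ker, LinearMap.sub_apply, sub_eq_zero]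
    rfl
  have hd12 : finrank F X₁ + finrank F X₂ ≤ finrank F (An h z w) := by
    have h4 := Submodule.finrank_sup_add_finrank_inf_eq X₁ X₂
    have h5 : X₁ ⊓ X₂ = ⊥ := by
      rw [Submodule.eq_bot_iff]
      rintro x ⟨hx, hx'⟩
      have e1 := hX₁m x hx
      rw [((hmem₂ x).1 hx').2] at e1
      have e2 : (2 : F) • x = 0 := by
        rw [two_smul]
        nth_rw 1 [e1]
        exact neg_add_cancel x
      exact (smul_eq_zero.1 e2).resolve_left h2
    rw [h5, finrank_bot, add_zero] at h4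
    rw [← h4]
    exact Submodule.finrank_mono (sup_le inf_le_left inf_le_left)
  have hpos : 0 < finrank F X₁ := by
    have : Nontrivial X₁ := ⟨⟨⟨x₁, hx₁⟩, 0, fun e => hx₁0 (congrArg Subtype.val e)⟩⟩
    exact finrank_pos
  have hX₂s : ∀ x ∈ X₂, s x ∈ X₂ := by
    intro x hx
    rw [hmem₂] at hx ⊢
    exact ⟨hinv hw x hx.1, by rw [hms, hx.2]⟩
  have hX₂2 := sq_of_small hF hn hsq hn3 hX₂s (by omega)
  have hX₂0 : ∀ x ∈ X₂, x = 0 := by
    intro x hx
    have e1 := hsm (hX₂2 x hx)
    have hx' := (hmem₂ x).1 hx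
    rw [hx'.2] at e1
    exact hfix0 x hx'.1.1 hx'.1.2.1 e1.symm
  have hAm : ∀ x ∈ An h z w, m x = -x := by
    intro x hx
    have e1 : x + m x ∈ X₂ := by
      rw [hmem₂]
      refine ⟨(An h z w).add_mem hx (hinvk hw k x hx), ?_⟩
      rw [map_add, hmm, add_comm]
    exact eq_neg_of_add_eq_zero_right (hX₂0 _ e1)
  have hsw' : s (-w) = -w := by rw [map_neg, hw]
  have Sn := Spl.neg h S
  -- decomposition of `V`
  have hdec : ∀ v : V8 F, ∃ (α β : F) (x : V8 F), v = α • z + β • w + x ∧ polar (plusForm 4 F) z x = 0 ∧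
      polar (plusForm 4 F) w x = 0 := by
    intro v
    refine ⟨polar (plusForm 4 F) z v / 2, -(polar (plusForm 4 F) w v / 2),
      v - ((polar (plusForm 4 F) z v / 2) • z + (-(polar (plusForm 4 F) w v / 2)) • w), by abel, ?_, ?_⟩
    · simp only [polar_sub_right, polar_add_right, polar_smul_right, polar_smul_right, S.pzz, S.perp, smul_eq_mul, smul_eq_mul]
      field_simp
      ring
    · simp only [polar_sub_right, polar_add_right, polar_smul_right, polar_smul_right, S.pwz, S.pww, smul_eq_mul, smul_eq_mul]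
      field_simp
      ring
  -- `m = -1` on the other annihilator
  have hBm : ∀ y ∈ An h z (-w), m y = -y := by
    intro y hy
    have e0 : y + m y = 0 := by
      apply hG.nondeg
      intro v
      have hc : y + m y ∈ An h z (-w) := (An h z (-w)).add_mem hy (hinvk hsw' k y hy)
      obtain ⟨α, β, x, rfl, hx1, hx2⟩ := hdec v
      obtain ⟨x₂, hx₂, y₂, hy₂, rfl⟩ := W_dec h S h3 hx1 hx2
      have e1 : polar (plusForm 4 F) (y + m y) x₂ = 0 := by
        rw [polar_add_left]
        have e2 := hpol m hmO (m y) x₂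
        rw [hmm, hAm x₂ hx₂, polar_neg_right] at e2
        rw [← e2, add_neg_cancel]
      have e3 : polar (plusForm 4 F) (y + m y) y₂ = 0 :=
        polar_zero_of (fun a ha => An_sing h Sn h3 ha) hc hy₂
      have e4 : polar (plusForm 4 F) (y + m y) z = 0 := by rw [polar_comm]; exact hc.1
      have e5 : polar (plusForm 4 F) (y + m y) w = 0 := by
        rw [polar_comm]
        have := hc.2.1
        rw [polar_neg_left, neg_eq_zero] at this
        exact this
      rw [polar_add_right, polar_add_right, polar_add_right, polar_smul_right, polar_smul_right, e1, e3, e4, e5]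
      simp
    exact eq_neg_of_add_eq_zero_right e0
  have hWm : ∀ x, polar (plusForm 4 F) z x = 0 → polar (plusForm 4 F) w x = 0 → m x = -x := by
    intro x h1 h4
    obtain ⟨x₂, hx₂, y₂, hy₂, rfl⟩ := W_dec h S h3 h1 h4
    rw [map_add, hAm x₂ hx₂, hBm y₂ hy₂, neg_add]
  have hmm' : ∀ u v, m (dia τ u v) = dia τ (m u) (m v) := by
    have key : ∀ (j : ℕ) (u v : V8 F), (s ^ j) (dia τ u v) = dia τ ((s ^ j) u) ((s ^ j) v) := by
      intro j
      induction j with
      | zero => intro u v; rfl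
      | succ j ih =>
        intro u v
        rw [pow_succ, LinearEquiv.mul_apply, LinearEquiv.mul_apply, LinearEquiv.mul_apply, hm, ih]
    exact key k
  -- dimension
  set W := LinearMap.ker ((polarBilin (plusForm 4 F) z).prod (polarBilin (plusForm 4 F) w)) with hW
  have hWmem : ∀ x, x ∈ W ↔ polar (plusForm 4 F) z x = 0 ∧ polar (plusForm 4 F) w x = 0 := by
    intro x
    rw [hW, LinearMap.mem_ker, LinearMap.prod_apply, Prod.mk_eq_zero]
    rfl
  have h8 : finrank F (V8 F) = 8 := by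
    rw [Module.finrank_fintype_fun_eq_card, Fintype.card_sum, Fintype.card_fin]
  have hW6 : finrank F (V8 F) ≤ finrank F W + 2 :=
    finrank_ker_two (polarBilin (plusForm 4 F) z) (polarBilin (plusForm 4 F) w)
  obtain ⟨a, haW, ha⟩ : ∃ a ∈ W, plusForm 4 F a ≠ 0 := by
    by_contra hcon
    push Not at hcon
    have h9 : finrank F W + finrank F W ≤ finrank F (V8 F) :=
      finrank_add_le hG.nondeg (A := W) (B := W) fun a ha b hb => polar_zero_of hcon ha hb
    omega
  have hK : ∀ x ∈ W, dia τ a x ∈ Submodule.span F {z, w} := by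
    intro x hx
    have e1 : m (dia τ a x) = dia τ a x := by
      rw [hmm', hWm a ((hWmem a).1 haW).1 ((hWmem a).1 haW).2, hWm x ((hWmem x).1 hx).1 ((hWmem x).1 hx).2,
        dneg_left h, dneg_right h, neg_neg]
    obtain ⟨α, β, y, hy, hy1, hy2⟩ := hdec (dia τ a x)
    rw [hy, map_add, map_add, map_smul, map_smul, hmz, hmw, hWm y hy1 hy2] at e1
    have e2 := add_left_cancel e1
    have e3 : (2 : F) • y = 0 := by
      rw [two_smul]
      nth_rw 1 [← e2]
      exact neg_add_cancel y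
    rw [hy, (smul_eq_zero.1 e3).resolve_left h2, add_zero]
    exact Submodule.mem_span_pair.2 ⟨α, β, rfl⟩
  let φ : W →ₗ[F] Submodule.span F {z, w} :=
    { toFun := fun x => ⟨dia τ a x, hK x x.2⟩
      map_add' := fun x y => (by with_reducible_and_instances exact (Subtype.ext (h.dia_add_right _ _ _)))
      map_smul' := fun c x => (by with_reducible_and_instances exact (
                              Subtype.ext (h.dia_smul_right _ _ _))) }
  have hφ : Function.Injective φ := by
    rw [injective_iff_map_eq_zero]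
    intro x hx
    have e1 : dia τ a x = 0 := congrArg Subtype.val hx
    have e2 := h.dia_dia a x
    rw [e1, dzero_left h] at e2
    exact Subtype.ext ((smul_eq_zero.1 e2.symm).resolve_left ha)
  have h10 := LinearMap.finrank_le_finrank_of_injective hφ
  have h11 : finrank F (Submodule.span F {z, w}) ≤ 2 := by
    classical
    have := finrank_span_finset_le_card (R := F) ({z, w} : Finset (V8 F))
    rw [Finset.coe_pair] at this
    exact this.trans Finset.card_le_two
  omega

end Cfsg.Agent.H911.RC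
end

-- part: H911/RC/TypeIV
section
/-!
# S3510, triality of `PΩ₈⁺(q)`, type (iv): characteristic three, `τ` linear (helper911)

* `conj_idem` : an idempotent of `dia τ` of nonzero norm can be moved to `one8` by a semisimilitude `N`, `Ψ(N)` conjugates
  `xt hG τ` to `xt hG τ'`;
* `conj_one` : if the idempotent is a para-unit, `τ' = 1`;
* `fr_conj` : transport of the frame;
* `type_iv` : the theorem.
-/

set_option autoImplicit false

namespace Cfsg.Agent.H911.RC

open Module QuadraticMap Cfsg.Agent.LieClassical.OrthCore Cfsg.Agent.LieClassical.OrthTrans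
  Cfsg.Agent.LieClassical.OrthSimple Cfsg.Agent.ClassicalGeometry.OrthAut1
  Cfsg.Agent.ClassicalGeometry.OrthSemi Cfsg.Agent.H198.Classes
  Cfsg.Agent.LieClassical.QuadForms Cfsg.Agent.H198.ClassesPlus
  Cfsg.Agent.ClassicalGeometry.TrialityOct Cfsg.Agent.ClassicalGeometry.Triality
  Cfsg.Agent.ClassicalGeometry.TrialitySpaces Cfsg.Agent.H198.TriBase Cfsg.Agent.H198.TriAut
  Cfsg.Agent.H198.TriDia Cfsg.Agent.H198.TriTC Cfsg.Agent.H198.TriCls Cfsg.Agent.H106.RC Cfsg.Agent.H675.RC
open Cfsg.Agent.H566.RC (Au Kp Rp La up)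
open Cfsg.Agent.H93.RC (Lf)

universe u

section conj

variable {F : Type u} [Field F]

/-- an idempotent moved to `one8` -/
theorem conj_idem (hG : Good (plusForm 4 F)) {τ : G8 F} (h : Au τ) {e : V8 F} (he : dia τ e e = e)
    (hne : plusForm 4 F e ≠ 0) :
    ∃ N τ' : G8 F, TriS τ' τ' τ' ∧ τ' ^ 3 = 1 ∧ Psi _ N * xt hG τ * (Psi _ N)⁻¹ = xt hG τ' ∧ N.1 e = one8 F ∧
      ∀ u w, dia τ' (N.1 u) (N.1 w) = N.1 (dia τ u w) := by
  have inv_apply : ∀ (N : G8 F) (x : V8 F), N⁻¹.1 (N.1 x) = x := fun N x => N.1.symm_apply_apply x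
  have h3 : (Psi _ τ * rho hG) ^ 3 = 1 := xt_pow_three hG h.tri h.cube
  (have h_ob := step hG h.tri (tri_lG e hne).inv
   revert h_ob; rintro (⟨A, A₁, A₂, hA, hA1, hA2, -⟩))
  set! N := (lG e hne)⁻¹ with hN
  have hNe : N.1 e = one8 F := by
    have h1 : (lG e hne).1 (one8 F) = e := by rw [lG_apply, omul_one]
    have h2 := inv_apply (lG e hne) (one8 F)
    rwa [h1] at h2
  have hA3 := gen_cj3 hA1 h3
  have hAe : mo A A₂ (one8 F) (one8 F) = one8 F := by
    have := hA2 e e
    rwa [mo_eq_dia h.tri, he, hNe] at this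
  have ha : plusForm 4 F (A⁻¹.1 (one8 F)) ≠ 0 := by
    obtain ⟨σ', c', hs'⟩ := A⁻¹.2
    rw [hs'.form, norm_one8, map_one, mul_one]
    exact hs'.ne
  (have h_ob := exists_N ha
   revert h_ob; rintro (⟨N', N'₁, N'₂, hN', hN1, hN2⟩))
  (have h_ob := step hG hA hN'
   revert h_ob; rintro (⟨B, B₁, B₂, hB, hB1, hB2, hB3⟩))
  have hBe : mo B B₂ (one8 F) (one8 F) = one8 F := by
    have := hB2 (one8 F) (one8 F)
    rwa [hAe, hN1] at this
  have hBi : B⁻¹.1 (one8 F) = one8 F := by
    have := hB3 (one8 F)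
    rw [hN1, hN2] at this
    rw [this, oconj_one8]
  (have h_ob := tri_of_one hB hBe hBi
   revert h_ob; rintro (⟨hτ, hB2'⟩))
  have hτ3 := pow_three_of hG hτ (gen_cj3 hB1 hA3)
  refine ⟨N' * N, B, hτ, hτ3, ?_, ?_, fun u w => ?_⟩
  · ((conv => enter [@2, @5, @5]; rw [map_mul (Psi (plusForm 4 F)) N' N]); (conv => enter [@2, @6, @3]; rw [map_mul (Psi (plusForm 4 F)) N' N]))
    exact gen_cj hA1 hB1
  · change N'.1 (N.1 e) = one8 F
    rw [hNe, hN1]
  · change dia B (N'.1 (N.1 u)) (N'.1 (N.1 w)) = N'.1 (N.1 (dia τ u w))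
    rw [← mo_eq_dia hτ, ← mo_eq_dia h.tri, ← hA2, ← hB2, hB2']

/-- a para-unit gives `τ' = 1` -/
theorem conj_one {τ τ' N : G8 F} (hτ' : TriS τ' τ' τ') {e : V8 F} (hQe : plusForm 4 F e = 1)
    (he : N.1 e = one8 F) (hd : ∀ u w, dia τ' (N.1 u) (N.1 w) = N.1 (dia τ u w))
    (hp : ∀ x, dia τ e x = polar (plusForm 4 F) x e • e - x) : τ' = 1 := by
  obtain ⟨ν, c, hs⟩ := N.2
  have hc : c = 1 := by
    have := hs.form e
    rw [he, norm_one8, hQe, map_one, mul_one] at this
    exact this.symm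
  have key : ∀ x, τ'.1 (oconj (N.1 x)) = oconj (N.1 x) := by
    intro x
    have e1 := hd e x
    rw [he, hp, hs.sub, hs.smul, he] at e1
    have e2 : dia τ' (one8 F) (N.1 x) = τ'.1 (oconj (N.1 x)) := by
      rw [dia, oconj_one8, aut_one hτ'.inv, one_omul]
    have e3 := hs.polar x e
    rw [he, hc, one_mul] at e3
    rw [← e2, e1, ← e3, ← oconj_eq]
  apply Subtype.ext
  ext1 y
  have := key (N⁻¹.1 (oconj y))
  have e4 : N.1 (N⁻¹.1 (oconj y)) = oconj y := N.1.apply_symm_apply _
  rw [e4, oconj_oconj] at this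
  exact this

theorem gen_cm1 {G : Type*} [Group G] {a b c : G} (h : a * b = b * a) :
    c * a * c⁻¹ * (c * b * c⁻¹) = c * b * c⁻¹ * (c * a * c⁻¹) := by
  have e : ∀ a b : G, c * a * c⁻¹ * (c * b * c⁻¹) = c * (a * b) * c⁻¹ := fun a b => by group
  rw [e, e, h]

/-- transport of the frame -/
theorem fr_conj {G ι : Type*} [Group G] {hG : Good (plusForm 4 F)} {N₀ : Subgroup G} {x : ι → G} {r : ι → ℕ}
    {σ : P8 F →* G} {i₁ : ι} {τ : G8 F} {M : ι → G8 F} (fr : Fr hG N₀ x r σ i₁ τ M) {N τ' : G8 F}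
    (hτ' : TriS τ' τ' τ') (h3' : τ' ^ 3 = 1) (hnf : NF τ') (hN : Psi _ N * xt hG τ * (Psi _ N)⁻¹ = xt hG τ')
    (hd : ∀ u w, dia τ' (N.1 u) (N.1 w) = N.1 (dia τ u w)) :
    ∃ σ' : P8 F →* G, Fr hG N₀ x r σ' i₁ τ' (fun j => N * M j * N⁻¹) := by
  obtain ⟨σ', h1, h2⟩ := fr.rp.change (Psi _ N)
  refine ⟨σ', h1, fr.three, hτ', h3', hnf, ?_, fun j hj => ?_, fun j u w => ?_, fun j => ?_, fun j k => ?_,
    fun j hj e => ?_, ?_⟩
  · rw [← hN]
    exact h2 _ _ fr.la
  · apply La.lf.1
    have := h2 _ _ (La.lf.2 (fr.lf j hj))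
    have e : Psi (plusForm 4 F) (N * M j * N⁻¹) = Psi _ N * Psi _ (M j) * (Psi _ N)⁻¹ := by
      simp only [_root_.MonoidHom.map_mul (Psi (plusForm 4 F)) (N * M j) N⁻¹, _root_.MonoidHom.map_mul (Psi (plusForm 4 F)) N (M j), _root_.MonoidHom.map_inv (Psi (plusForm 4 F)) N]
    rw [e]
    exact this
  · have e1 : ∀ v : V8 F, N.1 (N⁻¹.1 v) = v := fun v => N.1.apply_symm_apply v
    change N.1 ((M j).1 (N⁻¹.1 (dia τ' u w))) = dia τ' (N.1 ((M j).1 (N⁻¹.1 u))) (N.1 ((M j).1 (N⁻¹.1 w)))
    rw [hd, ← fr.ex j]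
    congr 2
    apply N.1.injective
    rw [← hd, e1, e1, e1]
  · rw [conj_pow, fr.pow, mul_one, mul_inv_cancel]
  · exact gen_cm1 (fr.comm j k)
  · apply fr.ne j hj
    have : N * M j * N⁻¹ = N * 1 * N⁻¹ := by rw [e, mul_one, mul_inv_cancel]
    exact mul_left_cancel (mul_right_cancel this)
  · rw [fr.one, mul_one, mul_inv_cancel]

/-- conjugates of linear semisimilitudes are linear -/
theorem lin_conj {M : G8 F} (hM : H198.TriDia.IsLin M) (N : G8 F) : H198.TriDia.IsLin (N * M * N⁻¹) := by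
  obtain ⟨c, hc⟩ := hM
  obtain ⟨ν, d, hd⟩ := N.2
  have h := (hd.mul hc).mul hd.inv
  have e : ν.symm.trans ((RingEquiv.refl F).trans ν) = RingEquiv.refl F := by
    ext a
    exact ν.apply_symm_apply a
  rw [e] at h
  exact ⟨_, h⟩

end conj

/-- products of pairwise different primes -/
theorem squarefree_prod {ι : Type*} {r : ι → ℕ} (hr : ∀ i, (r i).Prime) (hinj : Function.Injective r) (A : Finset ι) :
    Squarefree (∏ i ∈ A, r i) := by
  classical
  induction A using Finset.induction_on with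
  | empty => simp
  | insert i A hi ih =>
    rw [Finset.prod_insert hi, Nat.squarefree_mul]
    · exact ⟨(hr i).prime.squarefree, ih⟩
    · refine Nat.Coprime.prod_right fun j hj => ?_
      exact (Nat.coprime_primes (hr i) (hr j)).2 fun h => hi (by rw [hinj h]; exact hj)

section main

variable {F : Type} [Field F] [Finite F] {G Ω : Type} [Group G] [Finite G] [MulAction G Ω] [Nonempty Ω]
  {N : Subgroup G} {σ : P8 F →* G}

/-- **type (iv)** -/
theorem type_iv (hG : Good (plusForm 4 F)) (hE : Env G Ω N) (hIH : IH (Nat.card (P (plusForm 4 F))))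
    {ι : Type} [Finite ι] {x : ι → G} {r : ι → ℕ} (hx : PF x r) (hcov : Cov Ω x) {i₁ : ι} {τ : G8 F} {M : ι → G8 F}
    (fr : Fr hG N x r σ i₁ τ M) (h3 : (3 : F) = 0) (hτ : H198.TriDia.IsLin τ) (hl : ∀ j, H198.TriDia.IsLin (M j)) :
    False := by
  classical
  have := Fintype.ofFinite ι
  have h : Au τ := ⟨fr.tri, hτ, fr.cube⟩
  have hc : CharP F 3 := (CharP.charP_iff_prime_eq_zero Nat.prime_three).2 (by exact_mod_cast h3)
  have hr3 : ∀ j, j ≠ i₁ → r j ≠ 3 := fun j hj h => hj (hx.inj (h.trans fr.three.symm))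
  by_cases hex : ∃ j, j ≠ i₁
  swap
  · push Not at hex
    apply hx.ne i₁
    apply hE.single
    intro ω
    obtain ⟨j, hj⟩ := hcov ω
    rwa [hex j] at hj
  have hgam : ∀ x y : O (plusForm 4 F), gamO _ x = gamO _ y → x = y := by
    intro x y e
    apply Subtype.ext
    apply LinearEquiv.ext
    intro v
    exact congrArg (fun N : G8 F => N.1 v) e
  have hone : ∀ j, IsSS (plusForm 4 F) (RingEquiv.refl F) 1 (M j).1 := by
    intro j
    obtain ⟨c, hcj⟩ := hl j
    have e3 := Ex.mult fr.tri fr.cube (fr.ex j) hcj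
    rwa [e3] at hcj
  choose g hg using fun j => exists_gamO (hone j)
  have hgj : ∀ j v, (M j).1 v = (g j : V8 F ≃ₗ[F] V8 F) v := by
    intro j v
    rw [← hg j]
    rfl
  obtain ⟨s, hs, hgs, hn⟩ := _root_.Cfsg.Agent.H675.RC.exists_gen g r hx.prime hx.inj
    (fun i => hgam _ _ (by simp only [map_pow, hg, fr.pow, map_one]))
    (fun i j => hgam _ _ (by simp only [map_mul, map_mul, hg, hg]; exact fr.comm i j)) (Finset.univ.erase i₁)
  have hsq : Squarefree (∏ j ∈ Finset.univ.erase i₁, r j) := squarefree_prod hx.prime hx.inj _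
  have hn3 : ¬ 3 ∣ ∏ j ∈ Finset.univ.erase i₁, r j := by
    intro h4
    obtain ⟨j, hj, hj3⟩ := (Nat.prime_three.prime.dvd_finsetProd_iff _).1 h4
    exact hr3 j (Finset.ne_of_mem_erase hj) ((Nat.prime_dvd_prime_iff_eq Nat.prime_three (hx.prime j)).1 hj3).symm
  have hm : ∀ u w, (s : V8 F ≃ₗ[F] V8 F) (dia τ u w) = dia τ ((s : V8 F ≃ₗ[F] V8 F) u) ((s : V8 F ≃ₗ[F] V8 F) w) := by
    refine Subgroup.closure_induction (p := fun (s : O (plusForm 4 F)) _ => ∀ u w,
      (s : V8 F ≃ₗ[F] V8 F) (dia τ u w) = dia τ ((s : V8 F ≃ₗ[F] V8 F) u) ((s : V8 F ≃ₗ[F] V8 F) w))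
      ?_ ?_ ?_ ?_ hs
    · rintro _ ⟨j, -, rfl⟩ u w
      rw [← hgj, ← hgj, ← hgj, fr.ex]
    · intro u w
      rfl
    · intro x y _ _ hx hy u w
      change (x : V8 F ≃ₗ[F] V8 F) ((y : V8 F ≃ₗ[F] V8 F) (dia τ u w)) = _
      simp only [hy, hx]
      rfl
    · intro x _ hx u w
      apply (x : V8 F ≃ₗ[F] V8 F).injective
      rw [hx]
      change (x : V8 F ≃ₗ[F] V8 F) ((x : V8 F ≃ₗ[F] V8 F).symm (dia τ u w)) =
        dia τ ((x : V8 F ≃ₗ[F] V8 F) ((x : V8 F ≃ₗ[F] V8 F).symm u)) ((x : V8 F ≃ₗ[F] V8 F) ((x : V8 F ≃ₗ[F] V8 F).symm w))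
      rw [LinearEquiv.apply_symm_apply, LinearEquiv.apply_symm_apply, LinearEquiv.apply_symm_apply]
  have hsf : ∀ x : V8 F, (s : V8 F ≃ₗ[F] V8 F) x = x → ∀ j, j ≠ i₁ → (M j).1 x = x := by
    intro x hx j hj
    obtain ⟨k, hk⟩ := hgs j (Finset.mem_erase.2 ⟨hj, Finset.mem_univ _⟩)
    rw [hgj, ← hk]
    have key : ∀ t ∈ Subgroup.zpowers s, (t : V8 F ≃ₗ[F] V8 F) x = x := by
      intro t ht
      rw [Subgroup.zpowers_eq_closure] at ht
      refine Subgroup.closure_induction (p := fun (t : O (plusForm 4 F)) _ => (t : V8 F ≃ₗ[F] V8 F) x = x)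
        ?_ ?_ ?_ ?_ ht
      · intro y hy
        rw [Set.mem_singleton_iff.1 hy, hx]
      · rfl
      · intro a b _ _ ha hb
        change (a : V8 F ≃ₗ[F] V8 F) ((b : V8 F ≃ₗ[F] V8 F) x) = x
        rw [hb, ha]
      · intro a _ ha
        change (a : V8 F ≃ₗ[F] V8 F).symm x = x
        rw [LinearEquiv.symm_apply_eq, ha]
    exact key _ ⟨k, rfl⟩
  rcases exists_Kp_fix hG h3 h s.2 hm (congrArg Subtype.val hn) hn3 with
    ⟨a, b, hk, ha, hb⟩ | ⟨hcd, z, w, S, hz, hw, hfix⟩
  · exact H566.RC.kill hG hE fr.rp (p := 3) (fun j _ => hx.prime j) (fun j _ => hx.pow j) (fun j _ => hx.ne j)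
      hx.comm hcov h fr.la fr.lf (fun j _ => hl j) (fun j _ => fr.ex j) hk (fun j hj => hsf a ha j hj)
      (fun j hj => hsf b hb j hj) (fun i j _ _ e => hx.inj e) (fun _ _ _ => rfl) hex (H566.RC.rc_W hG h hk hIH)
  · -- `z` is a para-unit
    have h2 := two_ne h3
    have hA := L_An hG hcd h3 h S s.2 hm (congrArg Subtype.val hn) hsq hn3 hz hw hfix
    have hB := L_An hG hcd h3 h (Spl.neg h S) s.2 hm (congrArg Subtype.val hn) hsq hn3 hz (by rw [map_neg, hw])
      (fun x hx => by
        obtain ⟨α, β, e⟩ := hfix x hx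
        exact ⟨α, -β, by rw [e, neg_smul_neg]⟩)
    have hp : ∀ x, dia τ z x = polar (plusForm 4 F) x z • z - x := by
      intro x
      set α := polar (plusForm 4 F) z x / 2 with hα
      set β := -(polar (plusForm 4 F) w x / 2) with hβ
      obtain ⟨y, hy⟩ : ∃ y, y = x - (α • z + β • w) := ⟨_, rfl⟩
      have h1 : polar (plusForm 4 F) z y = 0 := by
        simp only [hy, polar_sub_right, polar_add_right, polar_smul_right, polar_smul_right, S.pzz, S.perp, smul_eq_mul,
          smul_eq_mul, hα]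
        field_simp
        ring
      have h4 : polar (plusForm 4 F) w y = 0 := by
        simp only [hy, polar_sub_right, polar_add_right, polar_smul_right, polar_smul_right, S.pwz, S.pww, smul_eq_mul,
          smul_eq_mul, hβ]
        field_simp
        ring
      have hx : x = α • z + β • w + y := by rw [hy]; abel
      have hLy : dia τ z y = -y := by
        obtain ⟨x₂, hx₂, y₂, hy₂, e⟩ := W_dec h S h3 h1 h4
        rw [e, h.dia_add_right, hA x₂ hx₂, hB y₂ hy₂, neg_add]
      have hxz : polar (plusForm 4 F) x z = 2 * α := by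
        rw [polar_comm, hα]
        field_simp
      rw [hxz]
      nth_rw 1 [hx]
      nth_rw 1 [hx]
      rw [h.dia_add_right, h.dia_add_right, h.dia_smul_right, h.dia_smul_right, S.zz, S.zw, hLy]
      module
    obtain ⟨L, τ', hτ', h3', hL, hLz, hd⟩ := conj_idem hG h S.zz (by rw [S.qz]; exact one_ne_zero)
    obtain rfl := conj_one hτ' S.qz hLz hd hp
    obtain ⟨σ', fr'⟩ := fr_conj fr hτ' h3' (Or.inl rfl) hL hd
    exact H566.RC.type_i hG hE hIH hx hcov fr' fun j => lin_conj (hl j) L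

end main

end Cfsg.Agent.H911.RC
end

-- part: H721/RC/FinalOf
section
/-!
# S3510: the statement from type iii of the triality part (helper721)
-/

set_option autoImplicit false
open Cfsg

namespace Cfsg.Agent.H721.RC

open Cfsg.Agent.H106.RC

theorem typeI : TypeI := by
  intro F _ _ G Ω _ _ _ _ N σ hG hE hIH ι _ x r hx hcov i₁ M fr hl
  exact H566.RC.type_i hG hE hIH hx hcov fr hl

theorem typeIV : TypeIV := by
  intro F _ _ G Ω _ _ _ _ N σ hG hE hIH ι _ x r hx hcov i₁ τ M fr h3 hτ hτ1 hl hex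
  exact H911.RC.type_iv hG hE hIH hx hcov fr h3 hτ hl

theorem typeII : TypeII := by
  intro F _ _ G Ω _ _ _ _ N σ hG hE hIH ι _ x r hx hcov i₁ M fr h3 hl
  exact H442.RC.TriB.type_ii hG hE hIH hx hcov fr h3 hl

theorem final_of.{u, v} (h3 : TypeIII)
    {G : Type u} [Group G] [Finite G] {Ω : Type v} [Fintype Ω] [MulAction G Ω] [FaithfulSMul G Ω]
    (T : Subgroup G) [T.Normal] (hT : IsSimpleGroup T) (hTc : ¬ IsMulCommutative T)
    (hC : Subgroup.centralizer (T : Set G) = ⊥)
    (hcl : (Cfsg.IsPSL T ∨ Cfsg.IsPSp T ∨ Cfsg.IsPSU T ∨ Cfsg.IsPOmegaOdd T ∨ Cfsg.IsPOmegaPlus T ∨ Cfsg.IsPOmegaMinus T))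
    (hprim : MulAction.IsPreprimitive G Ω) (g : G)
    (hg : ∀ ω : Ω, MulAction.stabilizer (Subgroup.zpowers g) ω ≠ ⊥) :
    (Nonempty (T ≃* alternatingGroup (Fin 5)) ∧ Fintype.card Ω = 5) ∨
    (Nonempty (T ≃* alternatingGroup (Fin 6)) ∧ Fintype.card Ω = 6) ∨
    (Nonempty (T ≃* alternatingGroup (Fin 8)) ∧ Fintype.card Ω = 8) :=
  s3510_of (rc_of_rows H384.RC.row_psl_all H67.RC.row_psp H398.RC.row_psu_all H93.RC.row_odd
    (row_plus_of noCovEven (row8_of noCovEven typeI typeII h3 typeIV)) row_minus)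
    excStmt T hT hTc hC hcl hprim g hg

end Cfsg.Agent.H721.RC
end

private theorem dce_9c772c5a9dd4 : _root_.True := by
  try have : _root_.True := by simp only [_root_.Cfsg.Agent.H930.RC.uX.congr_simp]
  try have : _root_.True := by simp only [_root_.Cfsg.Agent.H911.RC.An.congr_simp]
  try have : _root_.True := by simp only [_root_.Cfsg.Agent.H916.RC.act.congr_simp]
  exact _root_.True.intro
end
end
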